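import Cfsg.Agent.Lib.QTTwoMax.Comps
import Cfsg.Agent.Lib.PLocal.CommonNormal.Final

/-!
Every maximal 2-local subgroup over `T` contains `N(J(T))`, and two of them have a moving pair.
-/

set_option autoImplicit false
set_option linter.unusedSectionVars false
set_option linter.style.haveILetI false

namespace Cfsg.Agent.QTTwoMax

open Subgroup Cfsg Cfsg.Agent.CharP Cfsg.Agent.JComp
open scoped commutatorElement

universe u

variable {G : Type u} [Group G] [Finite G] {T : Sylow 2 G}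

theorem Piece.Qk_of_fix {T B K : Subgroup G} (p : Piece T B K) (f : Frame T B) {v k : G}
    (hv : v ∈ wOf K) (hv0 : v ∈ Z0 T) (hv1 : v ≠ 1) (hk : k ∈ K) (hfix : k * v = v * k) :
    k ∈ Qk K := by
  obtain ⟨x, hx, hxo⟩ := comp_exists_three p.comp
  obtain ⟨q, hq, y, hy, rfl⟩ := exists_mul_of_le_normalizer
    (zpowers_le.2 (normalizer_le_normalizer_Qk K (le_normalizer hx)))
    ((comp_gen_three p.comp hx hxo).ge hk)
  by_contra hne
  have hy1 : y ≠ 1 := fun e => hne (by rw [e, mul_one]; exact hq)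
  have hyK : y ∈ K := zpowers_le.2 hx hy
  have hyo : orderOf y = 3 := by
    refine orderOf_eq_prime ?_ hy1
    have h := (zpowers x).orderOf_dvd_natCard hy
    rw [Nat.card_zpowers, hxo] at h
    exact orderOf_dvd_iff_pow_eq_one.1 h
  refine hv1 (comp_fixed_W p.comp hyK hyo hv ?_)
  have e2 := Qk_le_centralizer_wOf K hq v hv
  calc y * v = q⁻¹ * (q * y * v) := by group
    _ = q⁻¹ * (v * q) * y := by rw [hfix]; group
    _ = v * y := by rw [e2]; group

theorem Piece.comm_Qc' {T B K : Subgroup G} (p : Piece T B K) (f : Frame T B) {g q : G}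
    (hg : g ∈ K) (hq : q ∈ B) (hqC : q ∈ centralizer (wOf K : Set G)) : ⁅g, q⁆ ∈ Qk K := by
  refine (p.inf_B f).le (mem_inf.2 ⟨?_, ?_⟩)
  · rw [commutatorElement_def, show g * q * g⁻¹ * q⁻¹ = g * (q * g⁻¹ * q⁻¹) by group]
    exact mul_mem hg (conj_mem_normalizer (p.normB hq) (inv_mem hg))
  · rw [commutatorElement_def]
    exact mul_mem (conj_mem_normalizer (p.H_norm_Qc f (mem_sup_left hg)) ⟨hq, hqC⟩).1 (inv_mem hq)

/-- A normal subgroup of a maximal 2-local subgroup that determines it. -/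
structure Gen (T : Sylow 2 G) (M X : Subgroup G) : Prop where
  T_norm : (T : Subgroup G) ≤ normalizer (X : Set G)
  odd : X ≤ closure {g : G | g ∈ X ∧ Odd (orderOf g)}
  core : ∃ R₀, R₀ ≠ ⊥ ∧ R₀ ≤ X ⊓ (T : Subgroup G) ∧
    X ⊔ (T : Subgroup G) ≤ normalizer (R₀ : Set G)
  top : ∀ Y : Subgroup G, (T : Subgroup G) ≤ Y → Y ≤ X ⊔ (T : Subgroup G) →
    Y = (T : Subgroup G) ∨ Y = X ⊔ (T : Subgroup G)
  ne : ¬ X ≤ (T : Subgroup G)
  uniq : ∀ N, Mx T N → X ≤ N → N = M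

namespace Gen

variable {M X : Subgroup G} (g : Gen T M X)
include g

theorem unique_coatom :
    ∃! K : Subgroup ↥(X ⊔ (T : Subgroup G)),
      IsCoatom K ∧ (T : Subgroup G).subgroupOf (X ⊔ (T : Subgroup G)) ≤ K := by
  set P := X ⊔ (T : Subgroup G)
  have hne : (T : Subgroup G).subgroupOf P ≠ ⊤ := fun e =>
    g.ne ((le_sup_left : X ≤ P).trans (subgroupOf_eq_top.1 e))
  have hco : IsCoatom ((T : Subgroup G).subgroupOf P) := by
    refine ⟨hne, fun Y hY => ?_⟩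
    have hTY : (T : Subgroup G) ≤ Y.map P.subtype := fun t ht =>
      ⟨⟨t, mem_sup_right ht⟩, hY.le (mem_subgroupOf.2 ht), rfl⟩
    rcases g.top _ hTY (map_subtype_le Y) with e | e
    · refine absurd (le_antisymm hY.le fun y hy => ?_) hY.ne
      exact mem_subgroupOf.2 (e.le ⟨y, hy, rfl⟩)
    · refine eq_top_iff.2 fun y _ => ?_
      obtain ⟨z, hz, he⟩ := e.ge y.2
      exact P.subtype_injective he ▸ hz
  exact ⟨_, ⟨hco, le_rfl⟩, fun K hK => ((hco.le_iff.1 hK.2).resolve_left hK.1.1)⟩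

/-- Pushing up: a subgroup normalised by `M₀` gives a maximal 2-local subgroup over `M₀` and `X`. -/
theorem push (c : Ctx T) {M₀ R : Subgroup G} (heven : IsOfEvenCharacteristic G)
    (hTM : (T : Subgroup G) ≤ M₀) (hR : R ≠ ⊥) (hRT : R ≤ (T : Subgroup G))
    (hXR : X ⊓ (T : Subgroup G) ≤ R) (hRn : M₀ ≤ normalizer (R : Set G)) : M₀ ≤ M := by
  set P := X ⊔ (T : Subgroup G)
  have hodd : oddGenerated P = X := by
    refine le_antisymm ((closure_le X).2 ?_) ?_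
    · rintro y ⟨hy, hyo⟩
      obtain ⟨n, hn⟩ := IsPGroup.iff_card.1 T.isPGroup'
      refine odd_mem_of_two_index (sup_le le_normalizer g.T_norm) (n := n) ?_ hy hyo
      have h := card_sup_mul_inf g.T_norm
      rw [← card_mul_relIndex' (le_sup_left : X ≤ P), mul_assoc] at h
      rw [← hn]
      exact ⟨_, (Nat.eq_of_mul_eq_mul_left Nat.card_pos h).symm⟩
    · exact g.odd.trans (closure_mono fun y hy => ⟨mem_sup_left hy.1, hy.2⟩)
  have hH1 : pCore 2 ↥P ≠ ⊥ := by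
    obtain ⟨R₀, h1, h2, h3⟩ := g.core
    intro e
    refine h1 (le_bot_iff.1 ((le_pCoreOf (h2.trans (inf_le_left.trans le_sup_left)) h3
      (T.isPGroup'.to_le (h2.trans inf_le_right))).trans ?_))
    rw [Cfsg.pCoreOf, e, Subgroup.map_bot]
  have hRN : R ≤ normalizer (X : Set G) := hRT.trans g.T_norm
  have hS : IsSylIn 2 R (oddGenerated P ⊔ R) := by
    rw [hodd]
    refine isSylIn_of_not_dvd (T.isPGroup'.to_le hRT) le_sup_right ?_
    have hinf : X ⊓ R = X ⊓ (T : Subgroup G) :=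
      le_antisymm (inf_le_inf_left _ hRT) (le_inf inf_le_left hXR)
    have h1 := card_sup_mul_inf hRN
    have h2 := card_sup_mul_inf g.T_norm
    rw [← card_mul_relIndex' (le_sup_right : R ≤ X ⊔ R), hinf] at h1
    rw [← card_mul_relIndex' (le_sup_right : (T : Subgroup G) ≤ X ⊔ (T : Subgroup G))] at h2
    have e : R.relIndex (X ⊔ R) = (T : Subgroup G).relIndex P := by
      refine Nat.eq_of_mul_eq_mul_left
        (Nat.mul_pos (Nat.card_pos (α := R)) (Nat.card_pos (α := (T : Subgroup G))))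
        (Nat.eq_of_mul_eq_mul_right (Nat.card_pos (α := ↥(X ⊓ (T : Subgroup G)))) ?_)
      linear_combination (Nat.card (T : Subgroup G)) * h1 - (Nat.card R) * h2
    rw [e]
    intro h
    have h' := (isSylowTwoIn_iff.2 (c.sylIn (le_sup_right : (T : Subgroup G) ≤ P))).2.2
    exact absurd (even_iff_two_dvd.2 h) (Nat.not_even_iff_odd.2 h')
  obtain ⟨R₀, hR₀, hR₀R, hn⟩ := PLocal.CommonNormal.exists_normal T heven hTM le_sup_right hH1
    g.unique_coatom hR hRT hS hRn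
  obtain ⟨N, hN, hle⟩ := c.exists_max (T.isPGroup'.to_le (hR₀R.trans hRT)) hR₀
    (hTM.trans (le_sup_left.trans hn))
  have hXN : X ≤ N := (le_sup_left.trans le_sup_right).trans (hn.trans hle)
  exact (g.uniq N hN hXN) ▸ (le_sup_left.trans (hn.trans hle))

end Gen

variable (c : Ctx T)
include c

theorem Single.inf_T {M K : Subgroup G} (s : Single T M K) :
    K ⊓ (T : Subgroup G) = Qk K :=
  le_antisymm (comp_two_le s.piece.comp (T.isPGroup'.to_le inf_le_right) inf_le_left)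
    (le_inf (pCoreOf_le 2 K) ((s.piece.Qk_le_B c.frame).trans inf_le_left))

theorem comp_not_le_T {K : Subgroup G} (hK : IsJComponent (T : Subgroup G) K) :
    ¬ K ≤ (T : Subgroup G) := by
  intro h
  obtain ⟨x, hx, hxo⟩ := comp_exists_three hK
  have := eq_one_of_mem_pgroup T.isPGroup' (h hx) (by rw [hxo]; norm_num)
  rw [this, orderOf_one] at hxo
  omega

theorem comp_Qk_ne_bot {K : Subgroup G} (hK : IsJComponent (T : Subgroup G) K) : Qk K ≠ ⊥ := by
  intro e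
  have := comp_wcard hK
  rw [le_bot_iff.1 ((wOf_le_Qk K).trans e.le), card_bot] at this
  omega

theorem Single.gen {M K : Subgroup G} (s : Single T M K) : Gen T M K := by
  refine ⟨s.T_norm, (comp_gen s.piece.comp).ge, ⟨Qk K, comp_Qk_ne_bot c s.piece.comp,
    (s.inf_T c).ge, (sup_le le_normalizer s.T_norm).trans (normalizer_le_normalizer_Qk K)⟩, ?_,
    comp_not_le_T c s.piece.comp, s.uniq⟩
  intro Y hTY hY
  set P := K ⊔ (T : Subgroup G)
  have h3 : (T : Subgroup G).relIndex P = 3 := by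
    have h := card_sup_mul_inf s.T_norm
    rw [s.inf_T c, comp_card s.piece.comp,
      ← card_mul_relIndex' (le_sup_right : (T : Subgroup G) ≤ P)] at h
    refine Nat.eq_of_mul_eq_mul_left (Nat.mul_pos (Nat.card_pos (α := (T : Subgroup G)))
      (Nat.card_pos (α := Qk K))) ?_
    linear_combination h
  have h := relIndex_mul_relIndex (T : Subgroup G) Y P hTY hY
  rw [h3] at h
  rcases (Nat.dvd_prime Nat.prime_three).1 ⟨_, h.symm⟩ with e | e
  · exact Or.inl (le_antisymm (relIndex_eq_one.1 e) hTY)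
  · rw [e] at h
    exact Or.inr (le_antisymm hY (relIndex_eq_one.1 (by omega)))

theorem Double.fix_v {M K₁ K₂ : Subgroup G} (d : Double T M K₁ K₂) (hM : Mx T M) {v t : G}
    (hv : v ∈ wOf K₁) (hv0 : v ∈ Z0 (T : Subgroup G)) (hv1 : v ≠ 1) (ht : t ∈ (T : Subgroup G))
    (htK : t ∈ normalizer (K₁ : Set G)) : t * v = v * t := by
  have hW := normalizer_le_normalizer_wOf K₁ htK
  have h0 : t * v * t⁻¹ ∈ Z0 (T : Subgroup G) :=
    conj_mem_normalizer (normalizer_le_normalizer_omegaCenterOf _ (le_normalizer_J _ ht)) hv0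
  obtain ⟨z, -, -, -, hu⟩ := comp_exists_z T.isPGroup' d.piece₁.comp
  have e1 := (hu _ (conj_mem_normalizer hW hv) h0).resolve_left fun e => hv1 (conj_eq_one_iff.1 e)
  have e2 := (hu v hv hv0).resolve_left hv1
  exact mul_inv_eq_iff_eq_mul.1 (e1.trans e2.symm)

theorem Double.inf_T {M K₁ K₂ : Subgroup G} (d : Double T M K₁ K₂) (hM : Mx T M) :
    (K₁ ⊔ K₂) ⊓ (T : Subgroup G) ≤ Qk K₁ ⊔ Qk K₂ := by
  rintro y ⟨hy, hyT⟩
  obtain ⟨k₁, hk₁, k₂, hk₂, rfl⟩ := exists_mul_of_le_normalizer d.norm₁ hy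
  have f := c.frame
  obtain ⟨v, hv, hv0, hv1, -⟩ := d.piece₁.exists_v f
  have hn : k₁ * k₂ ∈ normalizer (K₁ : Set G) := mul_mem (le_normalizer hk₁) (d.norm₁ hk₂)
  have e := d.fix_v c hM hv hv0 hv1 hyT hn
  have e2 : k₂ * v = v * k₂ := (d.cent₂ hk₂ v hv).symm
  have hq₁ : k₁ ∈ Qk K₁ := by
    refine d.piece₁.Qk_of_fix f hv hv0 hv1 hk₁ (mul_right_cancel (b := k₂) ?_)
    rw [mul_assoc, ← e2, ← mul_assoc, e, mul_assoc]
  refine mul_mem (mem_sup_left hq₁) (mem_sup_right (comp_two_le d.piece₂.comp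
    (T.isPGroup'.to_le inf_le_right) (inf_le_left (b := (T : Subgroup G))) ⟨hk₂, ?_⟩))
  have := mul_mem (Subgroup.inv_mem _ ((d.piece₁.Qk_le_B f hq₁).1)) hyT
  rwa [inv_mul_cancel_left] at this

theorem Double.T_norm {M K₁ K₂ : Subgroup G} (d : Double T M K₁ K₂) (hM : Mx T M) :
    (T : Subgroup G) ≤ normalizer ((K₁ ⊔ K₂ : Subgroup G) : Set G) := fun t ht => by
  refine mem_normalizer_of_cjg_le ?_
  rw [cjg, Subgroup.map_sup]
  rcases d.perm t (hM.2 ht) with ⟨h1, h2⟩ | ⟨h1, h2⟩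
  · rw [conj_map_of_mem h1, conj_map_of_mem h2]
  · exact sup_le (h1.le.trans le_sup_right) (h2.le.trans le_sup_left)

theorem Double.gen {M K₁ K₂ : Subgroup G} (d : Double T M K₁ K₂) (hM : Mx T M) :
    Gen T M (K₁ ⊔ K₂) := by
  have f := c.frame
  have hTX := d.T_norm c hM
  have hQT : Qk K₁ ⊔ Qk K₂ ≤ (T : Subgroup G) :=
    sup_le ((d.piece₁.Qk_le_B f).trans inf_le_left) ((d.piece₂.Qk_le_B f).trans inf_le_left)
  refine ⟨hTX, ?_, ⟨Qk K₁ ⊔ Qk K₂, ?_, le_inf (sup_le_sup (pCoreOf_le 2 _) (pCoreOf_le 2 _)) hQT,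
    ?_⟩, ?_, fun h => comp_not_le_T c d.piece₁.comp (le_sup_left.trans h),
    fun N hN h => d.uniq N hN (le_sup_left.trans h) (le_sup_right.trans h)⟩
  · refine sup_le ?_ ?_
    · exact (comp_gen d.piece₁.comp).ge.trans (closure_mono fun y hy => ⟨mem_sup_left hy.1, hy.2⟩)
    · exact (comp_gen d.piece₂.comp).ge.trans (closure_mono fun y hy => ⟨mem_sup_right hy.1, hy.2⟩)
  · exact fun e => comp_Qk_ne_bot c d.piece₁.comp (le_bot_iff.1 (le_sup_left.trans e.le))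
  · refine sup_le (sup_le ?_ ?_) fun t ht => ?_
    · refine (le_inf ?_ ?_).trans (normalizer_inf_le_normalizer_sup _ _)
      · exact le_normalizer.trans (normalizer_le_normalizer_Qk K₁)
      · exact d.norm₂.trans (normalizer_le_normalizer_Qk K₂)
    · refine (le_inf ?_ ?_).trans (normalizer_inf_le_normalizer_sup _ _)
      · exact d.norm₁.trans (normalizer_le_normalizer_Qk K₁)
      · exact le_normalizer.trans (normalizer_le_normalizer_Qk K₂)
    · refine mem_normalizer_of_cjg_le ?_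
      rw [cjg, Subgroup.map_sup]
      rcases d.perm t (hM.2 ht) with ⟨h1, h2⟩ | ⟨h1, h2⟩
      · rw [conj_map_of_mem (normalizer_le_normalizer_Qk K₁ h1),
          conj_map_of_mem (normalizer_le_normalizer_Qk K₂ h2)]
      · have e1 : cjg t (Qk K₁) = Qk K₂ := by rw [← Qk_cjg, h1]
        have e2 : cjg t (Qk K₂) = Qk K₁ := by rw [← Qk_cjg, h2]
        exact sup_le (e1.le.trans le_sup_right) (e2.le.trans le_sup_left)
  -- minimality
  intro Y hTY hY
  by_cases hYT : Y ≤ (T : Subgroup G)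
  · exact Or.inl (le_antisymm hYT hTY)
  refine Or.inr (le_antisymm hY ?_)
  obtain ⟨y, hy, hyT⟩ := SetLike.not_le_iff_exists.1 hYT
  obtain ⟨k, hk, t, ht, rfl⟩ := exists_mul_of_le_normalizer hTX (hY hy)
  have hkY : k ∈ Y := by
    have := mul_mem hy (inv_mem (hTY ht))
    rwa [mul_inv_cancel_right] at this
  have hkT : k ∉ (T : Subgroup G) := fun h => hyT (mul_mem h ht)
  obtain ⟨s, hs, hswap⟩ := d.swap
  have hswap' : cjg s K₂ = K₁ := by
    rcases d.perm s (hM.2 hs) with ⟨h1, -⟩ | ⟨-, h2⟩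
    · exfalso
      rw [cjg_eq_self.2 h1] at hswap
      exact comp_Qk_ne_bot c d.piece₁.comp (le_bot_iff.1 (by
        have := d.disj
        rw [← hswap, inf_idem] at this
        have h4 := comp_wcard d.piece₁.comp
        rw [this, card_bot] at h4
        omega))
    · exact h2
  obtain ⟨k₁, hk₁, k₂, hk₂, rfl⟩ := exists_mul_of_le_normalizer d.norm₁ hk
  -- an element of `Y` with nontrivial first part
  obtain ⟨a₁, ha₁, a₂, ha₂, haY, haQ⟩ :
      ∃ a₁ ∈ K₁, ∃ a₂ ∈ K₂, a₁ * a₂ ∈ Y ∧ a₁ ∉ Qk K₁ := by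
    by_cases h : k₁ ∈ Qk K₁
    · have hk₁T : k₁ ∈ (T : Subgroup G) := ((d.piece₁.Qk_le_B f) h).1
      have hk₂Y : k₂ ∈ Y := by
        have := mul_mem (inv_mem (hTY hk₁T)) hkY
        rwa [inv_mul_cancel_left] at this
      refine ⟨s * k₂ * s⁻¹, hswap'.le (conj_mem_cjg hk₂), 1, one_mem _, ?_, fun hq => hkT ?_⟩
      · rw [mul_one]; exact mul_mem (mul_mem (hTY hs) hk₂Y) (inv_mem (hTY hs))
      · refine mul_mem hk₁T ?_
        have := mul_mem (mul_mem (inv_mem hs) ((d.piece₁.Qk_le_B f) hq).1) hs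
        rwa [show s⁻¹ * (s * k₂ * s⁻¹) * s = k₂ by group] at this
    · exact ⟨k₁, hk₁, k₂, hk₂, hkY, h⟩
  obtain ⟨b, hbB, hb₂, hb₁⟩ := d.mover
  obtain ⟨v, hv, hv0, hv1, -⟩ := d.piece₁.exists_v f
  have hq₂ : ⁅a₂, b⁆ ∈ Qk K₂ := d.piece₂.comm_Qc' f ha₂ hbB hb₂
  have hc₁ : ⁅a₁, b⁆ ∈ K₁ := by
    rw [commutatorElement_def, show a₁ * b * a₁⁻¹ * b⁻¹ = a₁ * (b * a₁⁻¹ * b⁻¹) by group]
    exact mul_mem ha₁ (conj_mem_normalizer (d.piece₁.normB hbB) (inv_mem ha₁))
  have hc₁Q : ⁅a₁, b⁆ ∉ Qk K₁ := by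
    intro h
    have hfix : a₁ * v * a₁⁻¹ = v := by
      have hw := conj_mem_normalizer (normalizer_le_normalizer_wOf K₁ (le_normalizer ha₁)) hv
      by_contra hne
      have e := d.piece₁.act f hv hv0 hv1 hbB hb₁ hw (fun e => hv1 (conj_eq_one_iff.1 e)) hne
      have e2 : b * (a₁ * v * a₁⁻¹) * b⁻¹ = a₁ * v * a₁⁻¹ := by
        calc b * (a₁ * v * a₁⁻¹) * b⁻¹
            = ⁅a₁, b⁆⁻¹ * (a₁ * (b * v * b⁻¹) * a₁⁻¹) * ⁅a₁, b⁆ := by
              simp only [commutatorElement_def]; group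
          _ = ⁅a₁, b⁆⁻¹ * (a₁ * v * a₁⁻¹) * ⁅a₁, b⁆ := by
              rw [f.B_cent hbB hv0, mul_inv_cancel_right]
          _ = _ := by
              rw [mul_assoc, Qk_le_centralizer_wOf K₁ h _ hw, inv_mul_cancel_left]
      rw [e] at e2
      exact hv1 (by simpa using e2)
    exact haQ (d.piece₁.Qk_of_fix f hv hv0 hv1 ha₁ (mul_inv_eq_iff_eq_mul.1 hfix))
  have hcY : ⁅a₁, b⁆ ∈ Y := by
    have h1 : ⁅a₁ * a₂, b⁆ ∈ Y := by
      rw [commutatorElement_def]
      exact mul_mem (mul_mem (mul_mem haY (hTY hbB.1)) (inv_mem haY)) (inv_mem (hTY hbB.1))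
    have h2 : a₁ * ⁅a₂, b⁆ * a₁⁻¹ ∈ Y := hTY (hQT (mem_sup_right
      (conj_mem_normalizer ((d.norm₂.trans (normalizer_le_normalizer_Qk K₂)) ha₁) hq₂)))
    have := mul_mem (inv_mem h2) h1
    rwa [show ⁅a₁ * a₂, b⁆ = a₁ * ⁅a₂, b⁆ * a₁⁻¹ * ⁅a₁, b⁆ by
      simp only [commutatorElement_def]; group, inv_mul_cancel_left] at this
  have hK₁Y : K₁ ≤ Y := by
    have hQY : Qk K₁ ≤ Y ⊓ K₁ := le_inf ((le_sup_left.trans hQT).trans hTY) (pCoreOf_le 2 K₁)
    have h1 := relIndex_mul_relIndex (Qk K₁) (Y ⊓ K₁) K₁ hQY inf_le_right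
    rw [d.piece₁.comp.2.2.1] at h1
    rcases (Nat.dvd_prime Nat.prime_three).1 ⟨_, h1.symm⟩ with e | e
    · exact absurd (relIndex_eq_one.1 e ⟨hcY, hc₁⟩) hc₁Q
    · rw [e] at h1
      have h2 : (Y ⊓ K₁).relIndex K₁ = 1 := by omega
      exact (relIndex_eq_one.1 h2).trans inf_le_left
  refine sup_le (sup_le hK₁Y ?_) hTY
  rw [← hswap]
  rintro _ ⟨z, hz, rfl⟩
  exact mul_mem (mul_mem (hTY hs) (hK₁Y hz)) (inv_mem (hTY hs))

end Cfsg.Agent.QTTwoMax
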