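import Cfsg.Agent.Lib.QTTwoMax.Local

/-!
One component normalised by `T`, or two interchanged by `T`.
-/

set_option autoImplicit false
set_option linter.unusedSectionVars false
set_option linter.style.haveILetI false

namespace Cfsg.Agent.QTTwoMax

open Subgroup Cfsg Cfsg.Agent.CharP Cfsg.Agent.JComp
open scoped commutatorElement

universe u

variable {G : Type u} [Group G] [Finite G] {T : Sylow 2 G}

/-- A maximal 2-local subgroup with a component normalised by `T`. -/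
structure Single (T : Sylow 2 G) (M K : Subgroup G) : Prop where
  piece : Piece (T : Subgroup G) (Bm T) K
  le : K ≤ M
  T_norm : (T : Subgroup G) ≤ normalizer (K : Set G)
  norm : M ≤ normalizer (K : Set G)
  uniq : ∀ N, Mx T N → K ≤ N → N = M

/-- A maximal 2-local subgroup with two components interchanged by `T`. -/
structure Double (T : Sylow 2 G) (M K₁ K₂ : Subgroup G) : Prop where
  piece₁ : Piece (T : Subgroup G) (Bm T) K₁
  piece₂ : Piece (T : Subgroup G) (Bm T) K₂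
  le₁ : K₁ ≤ M
  le₂ : K₂ ≤ M
  cent₁ : K₁ ≤ centralizer (wOf K₂ : Set G)
  cent₂ : K₂ ≤ centralizer (wOf K₁ : Set G)
  disj : wOf K₁ ⊓ wOf K₂ = ⊥
  norm₁ : K₂ ≤ normalizer (K₁ : Set G)
  norm₂ : K₁ ≤ normalizer (K₂ : Set G)
  perm : ∀ g ∈ M, (g ∈ normalizer (K₁ : Set G) ∧ g ∈ normalizer (K₂ : Set G)) ∨
    (cjg g K₁ = K₂ ∧ cjg g K₂ = K₁)
  stab : ∀ g ∈ M, g ∈ normalizer (wOf K₁ : Set G) →
    g ∈ normalizer (K₁ : Set G) ∧ g ∈ normalizer (K₂ : Set G)
  swap : ∃ t ∈ (T : Subgroup G), cjg t K₁ = K₂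
  mover : ∃ b ∈ Bm T, b ∈ centralizer (wOf K₂ : Set G) ∧ b ∉ centralizer (wOf K₁ : Set G)
  uniq : ∀ N, Mx T N → K₁ ≤ N → K₂ ≤ N → N = M
  odd_trivial : ∀ g ∈ M, g ∈ centralizer (wOf K₁ : Set G) → g ∈ centralizer (wOf K₂ : Set G) →
    Nat.card ↥(Z0 (T : Subgroup G) ⊓ centralizer (K₁ : Set G) ⊓ centralizer (K₂ : Set G)) ≤ 4 →
    Odd (orderOf g) → g = 1

namespace Ctx

variable (c : Ctx T) {M : Subgroup G} (hM : Mx T M) {Ws : Set (Subgroup G)}
  {E : Subgroup G → Subgroup G}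
  (o : Ovg (T : Subgroup G) M (QTCentZ.hull T M) (Qk M) Ws E)
include c hM o

theorem Qk_cent_W {W : Subgroup G} (hW : W ∈ Ws) : Qk M ≤ centralizer (W : Set G) :=
  (c.hyp M hM).core_cent.trans (centralizer_le (SetLike.coe_subset_coe.2 (o.blocks.le_V W hW)))

theorem exists_x {W : Subgroup G} (hW : W ∈ Ws) :
    ∃ x ∈ E W, x ∈ M ∧ x ∉ centralizer (W : Set G) ∧ x * x * x ∈ Qk M := by
  obtain ⟨x, hx, hxX, hx3⟩ := o.exists_three hW
  exact ⟨x, hx, o.blocks.E_le W hW hx, fun h => hxX (o.blocks.faithful W hW ⟨hx, h⟩), hx3⟩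

theorem jset_two {W₁ W₂ W₃ : Subgroup G} (h₁ : W₁ ∈ Ws) (h₂ : W₂ ∈ Ws) (h₃ : W₃ ∈ Ws)
    (h12 : W₁ ≠ W₂) (h13 : W₁ ≠ W₃) (h23 : W₂ ≠ W₃) : False := by
  obtain ⟨x₁, hx₁, hm₁, hn₁, hc₁⟩ := c.exists_x hM o h₁
  obtain ⟨x₂, hx₂, hm₂, hn₂, hc₂⟩ := c.exists_x hM o h₂
  obtain ⟨x₃, hx₃, hm₃, hn₃, hc₃⟩ := c.exists_x hM o h₃
  refine c.no_threes hM hm₁ hm₂ hm₃ hc₁ hc₂ hc₃
    ((o.blocks.sep _ h₁ _ h₂ h12).2.2 (commutator_mem_commutator hx₁ hx₂))
    ((o.blocks.sep _ h₁ _ h₃ h13).2.2 (commutator_mem_commutator hx₁ hx₃))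
    ((o.blocks.sep _ h₂ _ h₃ h23).2.2 (commutator_mem_commutator hx₂ hx₃))
    (fun h => hn₁ (c.Qk_cent_W hM o h₁ h))
    (c.Qk_cent_W hM o h₂) ((o.blocks.sep _ h₂ _ h₁ h12.symm).2.1 hx₁) hn₂
    (c.Qk_cent_W hM o h₃) ((o.blocks.sep _ h₃ _ h₁ h13.symm).2.1 hx₁)
    ((o.blocks.sep _ h₃ _ h₂ h23.symm).2.1 hx₂) hn₃

theorem Bm_fix {K : Subgroup G} (hK : IsJComponent (T : Subgroup G) K) (hW : wOf K ∈ Ws) :
    Bm T ≤ normalizer (wOf K : Set G) := by
  intro b hb
  obtain ⟨v, hv, hv0, hv1, -⟩ := comp_exists_z T.isPGroup' hK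
  rw [← cjg_eq_self]
  by_contra hne
  obtain ⟨hW', -⟩ := o.blocks.conj _ hW b (hM.2 hb.1)
  refine hv1 (mem_bot.1 ((o.blocks.sep _ hW _ hW' (Ne.symm hne)).1.le ⟨hv, ?_⟩))
  show v ∈ cjg b (wOf K)
  rw [mem_cjg, mul_assoc, show v * b = b * v from hb.2 v hv0, inv_mul_cancel_left]
  exact hv

/-- The component of a block. -/
theorem exists_piece {W : Subgroup G} (hW : W ∈ Jset (T : Subgroup G) (Qk M) Ws E) :
    ∃ K, Piece (T : Subgroup G) (Bm T) K ∧ K ≤ M ∧ wOf K = W ∧ K ≤ E W ∧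
      ∀ g ∈ M, g ∈ normalizer (W : Set G) → g ∈ normalizer (K : Set G) := by
  obtain ⟨K, hK, hKM, hKW, hstab, x, hgood, -, he⟩ := o.exists_comp' T.isPGroup' hW
  have hfix := c.Bm_fix hM o hK (hKW.symm ▸ hW.1)
  refine ⟨K, ⟨hK, fun b hb => hstab b (hM.2 hb.1) (hKW ▸ hfix hb)⟩, hKM, hKW, ?_, hstab⟩
  rw [he]
  exact (oc_le _).trans (sup_le (o.blocks.X_le W hW.1) (zpowers_le.2 hgood.1))

/-- A component in `M` normalised by `O₂(M)` belongs to a block. -/
theorem block_of {K : Subgroup G} (hK : IsJComponent (T : Subgroup G) K) (hKM : K ≤ M)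
    (hQ : Qk M ≤ normalizer (K : Set G)) :
    ∃ W ∈ Jset (T : Subgroup G) (Qk M) Ws E, wOf K = W ∧ K ≤ E W ∧
      ∀ g ∈ M, g ∈ normalizer (W : Set G) → g ∈ normalizer (K : Set G) := by
  obtain ⟨W, hW, hKW, hKD, -, x, hgood, he⟩ := o.comp_data' hK hKM hQ
  refine ⟨W, hW, hKW, hKD.trans (o.Dm_le hW.1), fun g hg hgW => ?_⟩
  rw [← cjg_eq_self, ← he, cjg_oc, cjg_eq_self.2 (o.span_norm hW.1 hgood hg hgW)]

theorem eq_or_eq {W₁ W₂ : Subgroup G} (h₁ : W₁ ∈ Jset (T : Subgroup G) (Qk M) Ws E)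
    (h₂ : W₂ ∈ Jset (T : Subgroup G) (Qk M) Ws E) (h12 : W₁ ≠ W₂) {W : Subgroup G}
    (hW : W ∈ Jset (T : Subgroup G) (Qk M) Ws E) : W = W₁ ∨ W = W₂ := by
  by_contra h
  push Not at h
  exact c.jset_two hM o h₁.1 h₂.1 hW.1 h12 h.1.symm h.2.symm

/-- A block fixed by `T` is fixed by `M`. -/
theorem fix_of_T {W : Subgroup G} (hW : W ∈ Jset (T : Subgroup G) (Qk M) Ws E)
    (hT : (T : Subgroup G) ≤ normalizer (W : Set G)) : M ≤ normalizer (W : Set G) := by
  intro g₀ hg₀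
  by_contra hne
  set W' := cjg g₀ W
  have hne' : W ≠ W' := fun e => hne (cjg_eq_self.1 e.symm)
  have hW' := o.Jset_conj hW hg₀
  set S := M ⊓ normalizer (W : Set G) with hS
  have himg : ∀ g ∈ M, g ∉ normalizer (W : Set G) → cjg g W = W' ∧ cjg g W' = W := by
    intro g hg hgn
    have h1 : cjg g W = W' := (c.eq_or_eq hM o hW hW' hne' (o.Jset_conj hW hg)).resolve_left
      fun e => hgn (cjg_eq_self.1 e)
    refine ⟨h1, (c.eq_or_eq hM o hW hW' hne' (o.Jset_conj hW' hg)).resolve_right fun e => hne' ?_⟩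
    exact map_injective (MulAut.conj g).injective (h1.trans e.symm)
  have hidx : S.relIndex M = 2 := by
    rw [relIndex, index_eq_two_iff_exists_notMem_and]
    refine ⟨⟨g₀, hg₀⟩, fun h => hne (mem_subgroupOf.1 h).2, fun g => ?_⟩
    by_cases hg : (g : G) ∈ normalizer (W : Set G)
    · exact Or.inr (mem_subgroupOf.2 ⟨g.2, hg⟩)
    refine Or.inl (mem_subgroupOf.2 ⟨mul_mem g.2 hg₀, cjg_eq_self.1 ?_⟩)
    show cjg ((g : G) * g₀) W = W
    rw [← cjg_cjg]
    exact (himg g g.2 hg).2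
  have hodd := (isSylowTwoIn_iff.2 (c.sylIn hM.2)).2.2.of_dvd_nat
    ⟨_, (relIndex_mul_relIndex (T : Subgroup G) S M (le_inf hM.2 hT) inf_le_left).symm.trans
      (mul_comm _ _)⟩
  rw [hidx] at hodd
  exact absurd hodd (by decide)

end Ctx

namespace Ctx

variable (c : Ctx T)
include c

theorem not_J_le {M K : Subgroup G} (hK : IsJComponent (T : Subgroup G) K) (hKM : K ≤ M) :
    ¬ Jt (T : Subgroup G) ≤ Qk M := by
  intro h
  have hKQ : K ≤ Qk M := by
    nth_rewrite 1 [← comp_comm hK]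
    rw [commutator_le]
    intro k hk j hj
    rw [commutatorElement_def]
    exact mul_mem (conj_mem_normalizer (le_normalizer_pCoreOf 2 M (hKM hk)) (h hj))
      (inv_mem (h hj))
  obtain ⟨x, hx, hxo⟩ := comp_exists_three hK
  have := eq_one_of_mem_pgroup (isPGroup_pCoreOf 2 M) (hKQ hx) (by rw [hxo]; norm_num)
  rw [this, orderOf_one] at hxo
  omega

/-- Each maximal 2-local subgroup moved by `J(T)` is of one of two kinds. -/
theorem single_or_double {M : Subgroup G} (hM : Mx T M) (hJ : ¬ Jt (T : Subgroup G) ≤ Qk M) :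
    (∃ K, Single T M K) ∨ ∃ K₁ K₂, Double T M K₁ K₂ := by
  obtain ⟨Ws, E, o⟩ := c.exists_ovg hM hJ
  by_cases hfix : ∃ W ∈ Jset (T : Subgroup G) (Qk M) Ws E, (T : Subgroup G) ≤ normalizer (W : Set G)
  · obtain ⟨W, hW, hTW⟩ := hfix
    obtain ⟨K, hK, hKM, hKW, -, hstab⟩ := c.exists_piece hM o hW
    have hMW := c.fix_of_T hM o hW hTW
    have hTK : (T : Subgroup G) ≤ normalizer (K : Set G) := fun t ht => hstab t (hM.2 ht) (hTW ht)
    have hMK : M ≤ normalizer (K : Set G) := fun g hg => hstab g hg (hMW hg)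
    refine Or.inl ⟨K, hK, hKM, hTK, hMK, fun N hN hKN => ?_⟩
    obtain ⟨Ws', E', o'⟩ := c.exists_ovg hN (c.not_J_le hK.comp hKN)
    obtain ⟨W', hW', hKW', -, hstab'⟩ :=
      c.block_of hN o' hK.comp hKN ((c.hyp N hN).core_le.trans hTK)
    have hNW := c.fix_of_T hN o' hW' (hKW' ▸ hKW.symm ▸ hTW)
    refine c.eq_of_norm hN hM (isPGroup_pCoreOf 2 K) ?_
      (le_trans (show N ≤ normalizer (K : Set G) from fun g hg => hstab' g hg (hNW hg))
        (normalizer_le_normalizer_Qk K)) (hMK.trans (normalizer_le_normalizer_Qk K))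
    intro e
    have := comp_wcard hK.comp
    rw [le_bot_iff.1 ((wOf_le_Qk K).trans e.le), card_bot] at this
    omega
  · push Not at hfix
    obtain ⟨W₁, hW₁⟩ := o.Jset_nonempty T.isPGroup'
    obtain ⟨t, ht, htn⟩ := SetLike.not_le_iff_exists.1 (hfix W₁ hW₁)
    set W₂ := cjg t W₁ with hW₂def
    have hW₂ := o.Jset_conj hW₁ (hM.2 ht)
    have hne : W₁ ≠ W₂ := fun e => htn (cjg_eq_self.1 e.symm)
    obtain ⟨K₁, hK₁, hK₁M, hKW₁, hKE₁, hstab₁⟩ := c.exists_piece hM o hW₁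
    obtain ⟨K₂, hK₂, hK₂M, hKW₂, hKE₂, hstab₂⟩ := c.exists_piece hM o hW₂
    have hconj : ∀ {N : Subgroup G}, Mx T N → ∀ {Ws' : Set (Subgroup G)}
        {E' : Subgroup G → Subgroup G},
        Ovg (T : Subgroup G) N (QTCentZ.hull T N) (Qk N) Ws' E' →
        ∀ {L L' : Subgroup G}, IsJComponent (T : Subgroup G) L → L ≤ N →
          IsJComponent (T : Subgroup G) L' → L' ≤ N → Qk N ≤ normalizer (L : Set G) →
          Qk N ≤ normalizer (L' : Set G) → ∀ {g : G}, g ∈ N → cjg g (wOf L) = wOf L' →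
          cjg g L = L' := by
      intro N hN Ws' E' o' L L' hL hLN hL' hL'N hQ hQ' g hg he
      obtain ⟨U, hU, hUe, -, -, x, hx, hxL⟩ := o'.comp_data' hL hLN hQ
      obtain ⟨U', hU', hUe', -, -, x', hx', hxL'⟩ := o'.comp_data' hL' hL'N hQ'
      rw [hUe, hUe'] at he
      have h := o'.Good_conj hU.1 hg hx
      rw [he] at h
      rw [← hxL, ← hxL', cjg_oc, ← o'.uniq_span hU'.1 hx' h]
      congr 1
      rw [cjg, Subgroup.map_sup, MonoidHom.map_zpowers,
        conj_map_of_mem (le_normalizer_pCoreOf 2 N hg)]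
      rfl
    have hQK₁ : Qk M ≤ normalizer (K₁ : Set G) := fun q hq => hstab₁ q (pCoreOf_le 2 M hq)
      (centralizer_le_normalizer _ (c.Qk_cent_W hM o hW₁.1 hq))
    have hQK₂ : Qk M ≤ normalizer (K₂ : Set G) := fun q hq => hstab₂ q (pCoreOf_le 2 M hq)
      (centralizer_le_normalizer _ (c.Qk_cent_W hM o hW₂.1 hq))
    have htK : cjg t K₁ = K₂ := hconj hM o hK₁.comp hK₁M hK₂.comp hK₂M hQK₁ hQK₂ (hM.2 ht)
      (by rw [hKW₁, hKW₂])
    have hc₁ : K₁ ≤ centralizer (W₂ : Set G) :=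
      hKE₁.trans (o.blocks.sep _ hW₂.1 _ hW₁.1 hne.symm).2.1
    have hc₂ : K₂ ≤ centralizer (W₁ : Set G) :=
      hKE₂.trans (o.blocks.sep _ hW₁.1 _ hW₂.1 hne).2.1
    have hperm : ∀ g ∈ M, (g ∈ normalizer (W₁ : Set G) ∧ g ∈ normalizer (W₂ : Set G)) ∨
        (cjg g W₁ = W₂ ∧ cjg g W₂ = W₁) := by
      intro g hg
      rcases c.eq_or_eq hM o hW₁ hW₂ hne (o.Jset_conj hW₁ hg) with h | h <;>
        rcases c.eq_or_eq hM o hW₁ hW₂ hne (o.Jset_conj hW₂ hg) with h' | h'
      · exact absurd (map_injective (MulAut.conj g).injective (h.trans h'.symm)) hne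
      · exact Or.inl ⟨cjg_eq_self.1 h, cjg_eq_self.1 h'⟩
      · exact Or.inr ⟨h, h'⟩
      · exact absurd (map_injective (MulAut.conj g).injective (h.trans h'.symm)) hne
    refine Or.inr ⟨K₁, K₂, hK₁, hK₂, hK₁M, hK₂M, hKW₂.symm ▸ hc₁, hKW₁.symm ▸ hc₂, ?_,
      fun g hg => hstab₁ g (hK₂M hg) (centralizer_le_normalizer _ (hc₂ hg)),
      fun g hg => hstab₂ g (hK₁M hg) (centralizer_le_normalizer _ (hc₁ hg)), ?_, ?_,
      ⟨t, ht, htK⟩, ?_, ?_, ?_⟩
    · rw [hKW₁, hKW₂]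
      exact (o.blocks.sep _ hW₁.1 _ hW₂.1 hne).1
    · intro g hg
      rcases hperm g hg with h | h
      · exact Or.inl ⟨hstab₁ g hg h.1, hstab₂ g hg h.2⟩
      · exact Or.inr ⟨hconj hM o hK₁.comp hK₁M hK₂.comp hK₂M hQK₁ hQK₂ hg
          (by rw [hKW₁, hKW₂, h.1]), hconj hM o hK₂.comp hK₂M hK₁.comp hK₁M hQK₂ hQK₁ hg
          (by rw [hKW₁, hKW₂, h.2])⟩
    · intro g hg hgW
      rw [hKW₁] at hgW
      rcases hperm g hg with h | h
      · exact ⟨hstab₁ g hg h.1, hstab₂ g hg h.2⟩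
      · exact absurd (h.1.symm.trans (cjg_eq_self.2 hgW)) hne.symm
    · obtain ⟨hW₁s, A, hA, a, haA, haE, haX⟩ := hW₁
      refine ⟨a, c.frame.J_le_B (hA.le_J haA), ?_, ?_⟩
      · rw [hKW₂]
        exact (o.blocks.sep _ hW₂.1 _ hW₁s hne.symm).2.1 haE
      · rw [hKW₁]
        exact fun h => haX (o.blocks.faithful _ hW₁s ⟨haE, h⟩)
    · intro N hN h₁ h₂
      obtain ⟨Ws', E', o'⟩ := c.exists_ovg hN (c.not_J_le hK₁.comp h₁)
      have hQn : Qk N ≤ normalizer (K₁ : Set G) ∧ Qk N ≤ normalizer (K₂ : Set G) := by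
        have key : ∀ q ∈ Qk N, q ∈ normalizer (K₁ : Set G) ∧ q ∈ normalizer (K₂ : Set G) := by
          intro q hq
          have hqM : q ∈ M := hM.2 ((c.hyp N hN).core_le hq)
          rcases hperm q hqM with h | h
          · exact ⟨hstab₁ q hqM h.1, hstab₂ q hqM h.2⟩
          exfalso
          have hKq : cjg q K₁ = K₂ := hconj hM o hK₁.comp hK₁M hK₂.comp hK₂M hQK₁ hQK₂ hqM
            (by rw [hKW₁, hKW₂, h.1])
          obtain ⟨x, hx, hxo⟩ := comp_exists_three hK₁.comp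
          set d := q * x * q⁻¹ * x⁻¹ with hd
          have hdN : d ∈ Qk N := by
            rw [hd, show q * x * q⁻¹ * x⁻¹ = q * (x * q⁻¹ * x⁻¹) by group]
            exact mul_mem hq (conj_mem_normalizer (le_normalizer_pCoreOf 2 N (h₁ hx)) (inv_mem hq))
          -- `d` acts on `W₁` as `x⁻¹`
          have hqx : q * x * q⁻¹ ∈ centralizer (W₁ : Set G) := hc₂ (hKq.le (conj_mem_cjg hx))
          obtain ⟨n, hn⟩ := (isPGroup_pCoreOf 2 N) ⟨d, hdN⟩
          have hn' : d ^ 2 ^ n = 1 := congrArg Subtype.val hn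
          have hx3 : x ^ 3 = 1 := by rw [← hxo]; exact pow_orderOf_eq_one x
          have hdW : ∀ k : ℕ, ∀ w ∈ W₁, d ^ k * w * (d ^ k)⁻¹ = x⁻¹ ^ k * w * (x⁻¹ ^ k)⁻¹ := by
            have hxn : ∀ k : ℕ, x⁻¹ ^ k ∈ normalizer (W₁ : Set G) := fun k =>
              hKW₁ ▸ normalizer_le_normalizer_wOf K₁ (pow_mem (inv_mem (le_normalizer hx)) k)
            intro k
            induction k with
            | zero => simp
            | succ k ih =>
              intro w hw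
              have hw' := conj_mem_normalizer (hxn k) hw
              have hw1 := conj_mem_normalizer (hxn 1) hw'
              rw [pow_one] at hw1
              calc d ^ (k + 1) * w * (d ^ (k + 1))⁻¹ = d * (d ^ k * w * (d ^ k)⁻¹) * d⁻¹ := by
                    rw [pow_succ']; group
                _ = (q * x * q⁻¹) * (x⁻¹ * (x⁻¹ ^ k * w * (x⁻¹ ^ k)⁻¹) * x⁻¹⁻¹) *
                    (q * x * q⁻¹)⁻¹ := by rw [ih w hw, hd]; group
                _ = _ := by
                  rw [← hqx _ hw1, mul_inv_cancel_right, pow_succ' x⁻¹ k]; group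
          obtain ⟨v, hv, -, hv1, -⟩ := comp_exists_z T.isPGroup' hK₁.comp
          have e := hdW (2 ^ n) v (hKW₁ ▸ hv)
          rw [hn', one_mul, inv_one, mul_one] at e
          have hyo : orderOf (x⁻¹ ^ 2 ^ n) = 3 := by
            have ho : orderOf x⁻¹ = 3 := by rw [orderOf_inv, hxo]
            rw [Nat.Coprime.orderOf_pow (by rw [ho]; exact Nat.Coprime.pow_right n (by norm_num)), ho]
          exact hv1 (comp_fixed_W hK₁.comp (pow_mem (inv_mem hx) _) hyo hv
            (mul_inv_eq_iff_eq_mul.1 e.symm))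
        exact ⟨fun q hq => (key q hq).1, fun q hq => (key q hq).2⟩
      obtain ⟨U₁, hU₁, hUe₁, -, hst₁⟩ := c.block_of hN o' hK₁.comp h₁ hQn.1
      obtain ⟨U₂, hU₂, hUe₂, -, hst₂⟩ := c.block_of hN o' hK₂.comp h₂ hQn.2
      have hU : U₁ ≠ U₂ := by rw [← hUe₁, ← hUe₂, hKW₁, hKW₂]; exact hne
      have hnorm : ∀ g ∈ N, (g ∈ normalizer (K₁ : Set G) ∧ g ∈ normalizer (K₂ : Set G)) ∨
          (cjg g K₁ = K₂ ∧ cjg g K₂ = K₁) := by
        intro g hg
        rcases c.eq_or_eq hN o' hU₁ hU₂ hU (o'.Jset_conj hU₁ hg) with h | h <;>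
          rcases c.eq_or_eq hN o' hU₁ hU₂ hU (o'.Jset_conj hU₂ hg) with h' | h'
        · exact absurd (map_injective (MulAut.conj g).injective (h.trans h'.symm)) hU
        · exact Or.inl ⟨hst₁ g hg (cjg_eq_self.1 h), hst₂ g hg (cjg_eq_self.1 h')⟩
        · exact Or.inr ⟨hconj hN o' hK₁.comp h₁ hK₂.comp h₂ hQn.1 hQn.2 hg
            (by rw [hUe₁, hUe₂, h]), hconj hN o' hK₂.comp h₂ hK₁.comp h₁ hQn.2 hQn.1 hg
            (by rw [hUe₁, hUe₂, h'])⟩
        · exact absurd (map_injective (MulAut.conj g).injective (h.trans h'.symm)) hU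
      set R := Qk K₁ ⊔ Qk K₂
      have hRle : ∀ {g : G}, ((g ∈ normalizer (K₁ : Set G) ∧ g ∈ normalizer (K₂ : Set G)) ∨
          (cjg g K₁ = K₂ ∧ cjg g K₂ = K₁)) → g ∈ normalizer (R : Set G) := by
        intro g h
        refine mem_normalizer_of_cjg_le ?_
        rw [cjg, Subgroup.map_sup]
        rcases h with ⟨a1, a2⟩ | ⟨a1, a2⟩
        · rw [conj_map_of_mem (normalizer_le_normalizer_Qk K₁ a1),
            conj_map_of_mem (normalizer_le_normalizer_Qk K₂ a2)]
        · have e1 : cjg g (Qk K₁) = Qk K₂ := by rw [← Qk_cjg, a1]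
          have e2 : cjg g (Qk K₂) = Qk K₁ := by rw [← Qk_cjg, a2]
          exact sup_le (e1.le.trans le_sup_right) (e2.le.trans le_sup_left)
      refine c.eq_of_norm hN hM (R := R) ?_ ?_ (fun g hg => hRle (hnorm g hg)) fun g hg => hRle ?_
      · exact c.frame.pB.to_le (sup_le (hK₁.Qk_le_B c.frame) (hK₂.Qk_le_B c.frame))
      · intro e
        have := comp_wcard hK₁.comp
        rw [le_bot_iff.1 ((wOf_le_Qk K₁).trans (le_sup_left.trans e.le)), card_bot] at this
        omega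
      · rcases hperm g hg with h | h
        · exact Or.inl ⟨hstab₁ g hg h.1, hstab₂ g hg h.2⟩
        · exact Or.inr ⟨hconj hM o hK₁.comp hK₁M hK₂.comp hK₂M hQK₁ hQK₂ hg
            (by rw [hKW₁, hKW₂, h.1]), hconj hM o hK₂.comp hK₂M hK₁.comp hK₁M hQK₂ hQK₁ hg
            (by rw [hKW₁, hKW₂, h.2])⟩
    · -- elements of odd order centralising both four-groups
      intro g hg hg₁ hg₂ hF hgo
      rw [hKW₁] at hg₁
      rw [hKW₂] at hg₂
      set V := QTCentZ.hull T M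
      set FV := V ⊓ centralizer (E W₁ : Set G) ⊓ centralizer (E W₂ : Set G) with hFV
      have hsep := o.blocks.sep _ hW₂.1 _ hW₁.1 hne.symm
      have hVle : V ≤ W₁ ⊔ W₂ ⊔ FV := by
        intro y hy
        rw [← o.blocks.split W₁ hW₁.1] at hy
        obtain ⟨w, hw, r, hr, rfl⟩ := exists_mul_of_le_normalizer (le_normalizer_of_commute
          (A := W₁) (B := V ⊓ centralizer (E W₁ : Set G)) fun a ha b hb =>
            isElementaryAbelian_two_comm (elem_omegaCenterOf _)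
              (o.V_le (o.blocks.le_V W₁ hW₁.1 ha)) (o.V_le hb.1)) hy
        refine mul_mem (mem_sup_left (mem_sup_left hw)) ?_
        have hr' : r ∈ W₂ ⊔ V ⊓ centralizer (E W₂ : Set G) := by
          rw [o.blocks.split W₂ hW₂.1]; exact hr.1
        obtain ⟨w', hw', s, hs, rfl⟩ := exists_mul_of_le_normalizer (le_normalizer_of_commute
          (A := W₂) (B := V ⊓ centralizer (E W₂ : Set G)) fun a ha b hb =>
            isElementaryAbelian_two_comm (elem_omegaCenterOf _)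
              (o.V_le (o.blocks.le_V W₂ hW₂.1 ha)) (o.V_le hb.1)) hr'
        refine mul_mem (mem_sup_left (mem_sup_right hw')) (mem_sup_right ⟨⟨hs.1, ?_⟩, hs.2⟩)
        have hw'E : w' ∈ centralizer (E W₁ : Set G) := fun e he => (hsep.2.1 he w' hw').symm
        simpa using mul_mem (inv_mem hw'E) hr.2
      have hJF : Jt (T : Subgroup G) ≤ centralizer (FV : Set G) := by
        refine o.J_le_of_witness (inf_le_left.trans ((c.hyp M hM).core_cent.trans
          (centralizer_le (SetLike.coe_subset_coe.2 (inf_le_left.trans inf_le_left))))) ?_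
        intro W hW a _ _ haE _ y hy
        rcases c.eq_or_eq hM o hW₁ hW₂ hne hW with rfl | rfl
        · exact (hy.1.2 a haE).symm
        · exact (hy.2 a haE).symm
      have hFVT : ∀ y ∈ FV, y ∈ (T : Subgroup G) := fun y hy =>
        (c.hyp M hM).core_le (omegaCenterOf_le _ (o.V_le hy.1.1))
      have hFVF : FV ≤ Z0 (T : Subgroup G) ⊓ centralizer (K₁ : Set G) ⊓ centralizer (K₂ : Set G) :=
        fun y hy => ⟨⟨mem_Z0 (hFVT y hy) (fun j hj => (hJF hj y hy).symm)
          (mem_omegaCenterOf.1 (o.V_le hy.1.1)).2.2,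
          centralizer_le (SetLike.coe_subset_coe.2 hKE₁) hy.1.2⟩,
          centralizer_le (SetLike.coe_subset_coe.2 hKE₂) hy.2⟩
      have hgE : ∀ {W : Subgroup G}, W ∈ Ws → g ∈ centralizer (W : Set G) →
          g ∈ normalizer (E W : Set G) := fun {W} hW hgW => by
        obtain ⟨-, hE⟩ := o.blocks.conj W hW g hg
        rw [cjg_eq_self.2 (centralizer_le_normalizer _ hgW)] at hE
        exact cjg_eq_self.1 hE
      have hgF : g ∈ normalizer (FV : Set G) :=
        normalizer_inf_le_normalizer_inf _ _ ⟨normalizer_inf_le_normalizer_inf _ _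
          ⟨QTCentZ.Hyp.le_normalizer_hull hg, normalizer_le_normalizer_centralizer' _ (hgE hW₁.1 hg₁)⟩,
          normalizer_le_normalizer_centralizer' _ (hgE hW₂.1 hg₂)⟩
      have hmem : ∀ {h : G}, h ∈ M → h ∈ centralizer (W₁ : Set G) → h ∈ centralizer (W₂ : Set G) →
          h ∈ centralizer (FV : Set G) → h ∈ Qk M := by
        intro h hh a1 a2 a3
        rw [c.inf_cent_hull hM]
        refine ⟨hh, ?_⟩
        refine centralizer_le (SetLike.coe_subset_coe.2 hVle) ?_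
        rw [← zpowers_le, le_centralizer_iff]
        refine sup_le (sup_le ?_ ?_) ?_ <;> rw [← le_centralizer_iff, zpowers_le] <;> assumption
      -- the cube
      have hg3 : g * g * g ∈ centralizer (FV : Set G) := by
        classical
        let φ : Equiv.Perm FV :=
          { toFun := fun y => ⟨g * y * g⁻¹, conj_mem_normalizer hgF y.2⟩
            invFun := fun y => ⟨g⁻¹ * y * g, by
              simpa using conj_mem_normalizer (inv_mem hgF) y.2⟩
            left_inv := fun y => Subtype.ext (by simp [mul_assoc])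
            right_inv := fun y => Subtype.ext (by simp [mul_assoc]) }
        have hpow : ∀ (k : ℕ) (y : FV), (((φ ^ k) y : FV) : G) = g ^ k * y * (g ^ k)⁻¹ := by
          intro k
          induction k with
          | zero => intro y; simp
          | succ k ih =>
            intro y
            rw [pow_succ' φ k, Equiv.Perm.mul_apply]
            show g * (((φ ^ k) y : FV) : G) * g⁻¹ = _
            rw [ih, pow_succ']
            group
        have h1 : φ ^ orderOf g = 1 := Equiv.ext fun y => Subtype.ext (by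
          rw [hpow, pow_orderOf_eq_one]; simp)
        have h2 : orderOf φ ∣ 24 := by
          refine (orderOf_dvd_natCard φ).trans ?_
          rw [Nat.card_perm]
          exact (Nat.factorial_dvd_factorial ((card_le_of_le hFVF).trans hF)).trans (by decide)
        have h3 : orderOf φ ∣ 3 := by
          have hodd : Odd (orderOf φ) := hgo.of_dvd_nat (orderOf_dvd_of_pow_eq_one h1)
          refine Nat.Coprime.dvd_of_dvd_mul_left (k := orderOf φ) (m := 8) ?_ (by simpa using h2)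
          exact Nat.Coprime.pow_right 3 (Nat.coprime_two_right.2 hodd)
        intro y hy
        have h4 := hpow 3 ⟨y, hy⟩
        rw [orderOf_dvd_iff_pow_eq_one.1 h3] at h4
        have h5 : g * g * g * y * (g * g * g)⁻¹ = y := by
          simpa [pow_succ] using h4.symm
        exact (mul_inv_eq_iff_eq_mul.1 h5).symm
      have hQ3 := hmem (mul_mem (mul_mem hg hg) hg) (mul_mem (mul_mem hg₁ hg₁) hg₁)
        (mul_mem (mul_mem hg₂ hg₂) hg₂) hg3
      have hg31 : g * g * g = 1 := eq_one_of_mem_pgroup (isPGroup_pCoreOf 2 M) hQ3 (by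
        rw [show g * g * g = g ^ 3 by simp [pow_succ]]
        exact Nat.Coprime.coprime_dvd_left (orderOf_pow_dvd 3) (Nat.coprime_two_right.2 hgo))
      by_cases hgC : g ∈ centralizer (FV : Set G)
      · exact eq_one_of_mem_pgroup (isPGroup_pCoreOf 2 M) (hmem hg hg₁ hg₂ hgC)
          (Nat.coprime_two_right.2 hgo)
      exfalso
      obtain ⟨x₁, hx₁, hm₁, hn₁, hc3₁⟩ := c.exists_x hM o hW₁.1
      obtain ⟨x₂, hx₂, hm₂, hn₂, hc3₂⟩ := c.exists_x hM o hW₂.1
      have hxF₁ : x₁ ∈ centralizer (FV : Set G) := fun y hy => (hy.1.2 x₁ hx₁).symm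
      have hxF₂ : x₂ ∈ centralizer (FV : Set G) := fun y hy => (hy.2 x₂ hx₂).symm
      have hx12 : x₁ ∈ centralizer (W₂ : Set G) := hsep.2.1 hx₁
      have hx21 : x₂ ∈ centralizer (W₁ : Set G) :=
        (o.blocks.sep _ hW₁.1 _ hW₂.1 hne).2.1 hx₂
      have hcomm : ∀ {S : Subgroup G} {x h : G}, x ∈ normalizer (S : Set G) →
          h ∈ centralizer (S : Set G) → ⁅x, h⁆ ∈ centralizer (S : Set G) := by
        intro S x h hx hh
        rw [commutatorElement_def]
        exact mul_mem (conj_mem_normalizer (normalizer_le_normalizer_centralizer' _ hx) hh)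
          (inv_mem hh)
      have hcomm' : ∀ {S : Subgroup G} {x h : G}, x ∈ centralizer (S : Set G) →
          h ∈ normalizer (S : Set G) → ⁅x, h⁆ ∈ centralizer (S : Set G) := by
        intro S x h hx hh
        rw [commutatorElement_def, show x * h * x⁻¹ * h⁻¹ = x * (h * x⁻¹ * h⁻¹) by group]
        exact mul_mem hx (conj_mem_normalizer (normalizer_le_normalizer_centralizer' _ hh) (inv_mem hx))
      refine c.no_threes hM hm₁ hm₂ hg hc3₁ hc3₂ (hg31 ▸ one_mem _)
        ((o.blocks.sep _ hW₁.1 _ hW₂.1 hne).2.2 (commutator_mem_commutator hx₁ hx₂))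
        (hmem (mul_mem (mul_mem (mul_mem hm₁ hg) (inv_mem hm₁)) (inv_mem hg))
          (hcomm (o.blocks.norm W₁ hW₁.1 hx₁) hg₁)
          (hcomm' hx12 (centralizer_le_normalizer _ hg₂)) (hcomm' hxF₁ hgF))
        (hmem (mul_mem (mul_mem (mul_mem hm₂ hg) (inv_mem hm₂)) (inv_mem hg))
          (hcomm' hx21 (centralizer_le_normalizer _ hg₁))
          (hcomm (o.blocks.norm W₂ hW₂.1 hx₂) hg₂) (hcomm' hxF₂ hgF))
        (fun h => hn₁ (c.Qk_cent_W hM o hW₁.1 h))
        (c.Qk_cent_W hM o hW₂.1) hx12 hn₂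
        ((c.hyp M hM).core_cent.trans (centralizer_le (SetLike.coe_subset_coe.2
          (inf_le_left.trans inf_le_left)))) hxF₁ hxF₂ hgC

end Ctx

end Cfsg.Agent.QTTwoMax
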