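import Cfsg.Agent.Lib.QTTwoMax.Piece

/-!
The largest subgroup of `B` normalised by `B` and two pieces.
-/

set_option autoImplicit false
set_option linter.unusedSectionVars false

namespace Cfsg.Agent.QTTwoMax

open Subgroup Cfsg Cfsg.Agent.CharP Cfsg.Agent.JComp
open scoped commutatorElement

variable {G : Type*} [Group G] [Finite G] {T B K K' : Subgroup G}

/-- The core in `B` of two pieces. -/
def cor (B K K' : Subgroup G) : Subgroup G :=
  sSup {R | R ≤ B ∧ B ≤ normalizer (R : Set G) ∧ K ≤ normalizer (R : Set G) ∧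
    K' ≤ normalizer (R : Set G)}

theorem le_cor {R : Subgroup G} (h : R ≤ B) (hB : B ≤ normalizer (R : Set G))
    (hK : K ≤ normalizer (R : Set G)) (hK' : K' ≤ normalizer (R : Set G)) : R ≤ cor B K K' :=
  le_sSup ⟨h, hB, hK, hK'⟩

theorem cor_le : cor B K K' ≤ B := sSup_le fun _ h => h.1

theorem cor_comm : cor B K K' = cor B K' K :=
  le_antisymm (sSup_le fun _ h => le_cor h.1 h.2.1 h.2.2.2 h.2.2.1)
    (sSup_le fun _ h => le_cor h.1 h.2.1 h.2.2.2 h.2.2.1)

theorem le_normalizer_cor :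
    B ⊔ K ⊔ K' ≤ normalizer (cor B K K' : Set G) := by
  intro g hg
  refine mem_normalizer_of_cjg_le ?_
  rw [cjg, cor, sSup_eq_iSup, Subgroup.map_iSup]
  refine iSup_le fun R => ?_
  rw [Subgroup.map_iSup]
  refine iSup_le fun hR => ?_
  rw [conj_map_of_mem (sup_le (sup_le hR.2.1 hR.2.2.1) hR.2.2.2 hg)]
  exact le_iSup_of_le R (le_iSup_of_le hR le_rfl)

theorem H_norm_cor : K ⊔ B ≤ normalizer (cor B K K' : Set G) :=
  (sup_le (le_sup_right.trans le_sup_left) (le_sup_left.trans le_sup_left)).trans le_normalizer_cor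

theorem H_norm_cor' : K' ⊔ B ≤ normalizer (cor B K K' : Set G) :=
  (sup_le le_sup_right (le_sup_left.trans le_sup_left)).trans le_normalizer_cor

theorem cor_le_Qc (p : Piece T B K) (f : Frame T B) : cor B K K' ≤ Qc B K :=
  p.two_le f (f.pB.to_le cor_le) (cor_le.trans le_sup_right) H_norm_cor

end Cfsg.Agent.QTTwoMax
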