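import Mathlib
import Cfsg.Prelude.Def_LocalStructure
import Cfsg.Prelude.Def_Transfer
import Cfsg.Prelude.Def_Quasithin

/-!
# The last configuration with two maximal 2-locals over `C(Z)`

`B` has index 2 in `T`; `K` and its conjugate under `T - B` meet trivially; `W`, `W'` give a dihedral
group of order 8 modulo `D`, and `D / K` has order at most 2.
-/

set_option autoImplicit false

namespace Cfsg.Agent.QTTwoMax

open Subgroup
open scoped commutatorElement

universe u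

variable {G : Type u} [Group G] [Finite G]

/-- The data of two doubled parabolic subgroups with a common Baumann subgroup. -/
structure FinalData (T : Sylow 2 G) (B K D W W' : Subgroup G) (v z : G) : Prop where
  na : ¬ IsMulCommutative G
  kproper : Cfsg.IsKProper G
  B_le : B ≤ (T : Subgroup G)
  index : B.relIndex (T : Subgroup G) = 2
  normB : (T : Subgroup G) ≤ normalizer (B : Set G)
  jle : Cfsg.thompsonSubgroupOf 2 (T : Subgroup G) ≤ B
  nJ : normalizer (Cfsg.thompsonSubgroupOf 2 (T : Subgroup G) : Set G) = (T : Subgroup G)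
  K_le : K ≤ D
  D_le : D ≤ B
  normK : B ≤ normalizer (K : Set G)
  normD : B ≤ normalizer (D : Set G)
  normW : B ≤ normalizer (W : Set G)
  normW' : B ≤ normalizer (W' : Set G)
  W_le : W ≤ B
  W'_le : W' ≤ B
  top : W ⊔ W' ⊔ D = B
  indexD : K.relIndex D ≤ 2
  cardW : Nat.card W = 4
  cardW' : Nat.card W' = 4
  sqW : ∀ w ∈ W, w * w = 1
  sqW' : ∀ w ∈ W', w * w = 1
  infW : W ⊓ D = ⊥
  infW' : W' ⊓ D = ⊥
  v_mem : v ∈ W ∧ v ∈ W'
  v_ne : v ≠ 1
  comm : ∀ w ∈ W, ∀ w' ∈ W', ⁅w, w'⁆ ∈ zpowers v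
  nc : ∃ w ∈ W, ∃ w' ∈ W', ⁅w, w'⁆ ≠ 1
  swap : ∀ t ∈ (T : Subgroup G), t ∉ B →
    W.map (MulAut.conj t).toMonoidHom ≤ K ∧ W'.map (MulAut.conj t).toMonoidHom ≤ K ∧
    K ⊓ K.map (MulAut.conj t).toMonoidHom = ⊥ ∧ z = v * (t * v * t⁻¹)
  cz : centralizer ({z} : Set G) = (T : Subgroup G)
  move : ∀ w : G, (w ∈ W ∨ w ∈ W') → ∀ d ∈ D, ∃ g : G, g * (w * d) * g⁻¹ ∈ D ⊔ zpowers v
  three : ∀ t ∈ (T : Subgroup G), t ∉ B → t * t = 1 → ∃ a : G, orderOf a = 3 ∧ Commute a t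

end Cfsg.Agent.QTTwoMax
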