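import Cfsg.Agent.Lib.QTTwoMax.FinalData
import Cfsg.Agent.Lib.PLocal.BlockBasic
import Cfsg.Agent.Lib.Transfer.Fusion
import Cfsg.Agent.Lib.Involutions.TransferControl

/-!
# The last configuration is impossible

An element of `T - B` squares to a central element of `T`; transfer and Burnside's fusion in `N(J(T)) = T` make it an
involution whose centralizer is too small for any involution of `B`.
-/

set_option autoImplicit false

namespace Cfsg.Agent.QTTwoMax.FinalProof

open Subgroup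
open scoped Pointwise

universe u

variable {G : Type u} [Group G] [Finite G]

theorem mul_mem_iff_two {M L : Subgroup G} (hrel : M.relIndex L = 2) {a b : G} (ha : a ∈ L) (hb : b ∈ L) :
    a * b ∈ M ↔ (a ∈ M ↔ b ∈ M) :=
  Subgroup.mul_mem_iff_of_index_two (H := M.subgroupOf L) hrel (a := (⟨a, ha⟩ : L)) (b := ⟨b, hb⟩)

/-- Transfer: an element outside `M` of least order is conjugate into `M`. -/
theorem transfer_conj (hperf : commutator G = ⊤) (T : Sylow 2 G) {M : Subgroup G} (_hM : M ≤ (T : Subgroup G))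
    (hrel : M.relIndex (T : Subgroup G) = 2) {x : G} (hx : x ∈ (T : Subgroup G)) (hxM : x ∉ M)
    (hmin : ∀ u ∈ (T : Subgroup G), u ∉ M → orderOf x ≤ orderOf u) : ∃ g, g * x * g⁻¹ ∈ M := by
  classical
  haveI : Fact (Nat.Prime 2) := ⟨Nat.prime_two⟩
  by_contra hno
  push Not at hno
  let φ : ↥(T : Subgroup G) →* ℤˣ :=
    { toFun := fun y => if (y : G) ∈ M then 1 else -1
      map_one' := if_pos M.one_mem
      map_mul' := fun a b => by
        have h := mul_mem_iff_two hrel a.2 b.2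
        by_cases h1 : (a : G) ∈ M <;> by_cases h2 : (b : G) ∈ M <;> simp_all }
  obtain ⟨n, hn⟩ := T.2.exists_card_eq
  have h2 : ∃ i, orderOf x = 2 ^ i := by
    obtain ⟨i, hi⟩ := T.2 ⟨x, hx⟩
    have h3 : orderOf x ∣ 2 ^ i := orderOf_dvd_of_pow_eq_one (congrArg Subtype.val hi)
    obtain ⟨j, -, hj⟩ := (Nat.dvd_prime_pow Nat.prime_two).1 h3
    exact ⟨j, hj⟩
  obtain ⟨i, hi⟩ := h2
  have key : ∀ (k : ℕ) (a : G) (ha : a * x ^ k * a⁻¹ ∈ (T : Subgroup G)),
      φ ⟨a * x ^ k * a⁻¹, ha⟩ = φ ⟨x, hx⟩ ^ k := by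
    intro k a ha
    show (if a * x ^ k * a⁻¹ ∈ M then (1 : ℤˣ) else -1) = (if x ∈ M then (1 : ℤˣ) else -1) ^ k
    rw [if_neg hxM]
    rcases Nat.even_or_odd k with hk | hk
    · rw [hk.neg_one_pow, if_pos]
      by_contra hu
      have h1 := hmin _ ha hu
      rw [show a * x ^ k * a⁻¹ = MulAut.conj a (x ^ k) from rfl, MulEquiv.orderOf_eq, hi] at h1
      rcases Nat.eq_zero_or_pos i with hi0 | hi0
      · exact hxM (by rw [orderOf_eq_one_iff.1 (by rw [hi, hi0, pow_zero] : orderOf x = 1)]; exact M.one_mem)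
      · obtain ⟨l, rfl⟩ := hk.two_dvd
        have h4 : orderOf (x ^ (2 * l)) ∣ 2 ^ (i - 1) := orderOf_dvd_of_pow_eq_one (by
          rw [← pow_mul, mul_assoc, mul_comm l, ← mul_assoc, ← pow_succ', show i - 1 + 1 = i by omega, pow_mul,
            ← hi, pow_orderOf_eq_one, one_pow])
        have h5 := Nat.le_of_dvd (by positivity) h4
        have h6 : 2 ^ (i - 1) < 2 ^ i := Nat.pow_lt_pow_right (by norm_num) (by omega)
        omega
    · rw [hk.neg_one_pow, if_neg]
      intro hu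
      have hc : (orderOf x).Coprime k := by
        rw [hi]
        exact ((Nat.coprime_two_left.2 hk).pow_left i)
      obtain ⟨m, hm⟩ := exists_pow_eq_self_of_coprime (Nat.Coprime.symm hc)
      refine hno a ?_
      rw [← hm, show a * (x ^ k) ^ m * a⁻¹ = (a * x ^ k * a⁻¹) ^ m from (conj_pow (i := m)).symm]
      exact pow_mem hu m
  have h1 : MonoidHom.transfer φ x = 1 :=
    Abelianization.commutator_subset_ker _ (hperf ▸ mem_top x)
  rw [Involutions.TransferControl.transfer_eq_pow φ hx key] at h1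
  have h7 : φ ⟨x, hx⟩ = -1 := if_neg hxM
  have hodd : Odd (T : Subgroup G).index := Nat.odd_iff.mpr (Nat.two_dvd_ne_zero.mp T.not_dvd_index)
  rw [h7, hodd.neg_one_pow] at h1
  exact absurd h1 (by decide)

/-- Burnside: elements centralized by `J(T)` and conjugate in `G` are conjugate in `N(J(T))`. -/
theorem burnside_J (T : Sylow 2 G) {a b : G}
    (ha : Cfsg.thompsonSubgroupOf 2 (T : Subgroup G) ≤ centralizer ({a} : Set G))
    (hb : Cfsg.thompsonSubgroupOf 2 (T : Subgroup G) ≤ centralizer ({b} : Set G))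
    {g : G} (e : g * a * g⁻¹ = b) :
    ∃ n ∈ normalizer (Cfsg.thompsonSubgroupOf 2 (T : Subgroup G) : Set G), n * a * n⁻¹ = b := by
  haveI : Fact (Nat.Prime 2) := ⟨Nat.prime_two⟩
  set J := Cfsg.thompsonSubgroupOf 2 (T : Subgroup G) with hJ
  have hJT : J ≤ (T : Subgroup G) := PLocal.ThompsonSubgroup.thompsonSubgroupOf_le _
  have hJp : IsPGroup 2 J := T.2.to_le hJT
  have hg : J.map (MulAut.conj g).toMonoidHom ≤ centralizer ({b} : Set G) := by
    rintro _ ⟨j, hj, rfl⟩
    have hc := mem_centralizer_singleton_iff.1 (ha hj)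
    rw [mem_centralizer_singleton_iff, ← e]
    simp only [MulEquiv.coe_toMonoidHom, MulAut.conj_apply]
    calc g * j * g⁻¹ * (g * a * g⁻¹) = g * (j * a) * g⁻¹ := by group
      _ = g * (a * j) * g⁻¹ := by rw [hc]
      _ = _ := by group
  obtain ⟨k, hk, R, hR1, hR2⟩ := Transfer.Fusion.exists_conj_le_sylow hJp hb (hJp.map _) hg
  rw [← Transfer.Fusion.map_conj_mul] at hR2
  refine ⟨k * g, Transfer.Fusion.map_conj_eq_self_iff.1 ?_, ?_⟩
  · have h1 : Cfsg.thompsonSubgroupOf 2 (R : Subgroup G) = J := PLocal.BlockBasic.thompson_eq T R hR1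
    have hc : J.map (MulAut.conj (k * g)).toMonoidHom =
        Cfsg.thompsonSubgroupOf 2 (((k * g) • T : Sylow 2 G) : Subgroup G) := by
      rw [Transfer.Fusion.coe_smul_eq_map,
        ← PLocal.ThompsonSubgroup.map_thompsonSubgroupOf (MulAut.conj (k * g)).injective]
    have h2 : Cfsg.thompsonSubgroupOf 2 (R : Subgroup G) =
        Cfsg.thompsonSubgroupOf 2 (((k * g) • T : Sylow 2 G) : Subgroup G) :=
      PLocal.BlockBasic.thompson_eq ((k * g) • T) R (hc ▸ hR2)
    rw [hc, ← h2, h1]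
  · have hk' := mem_centralizer_singleton_iff.1 hk
    calc k * g * a * (k * g)⁻¹ = k * (g * a * g⁻¹) * k⁻¹ := by group
      _ = b := by rw [e, hk', mul_inv_cancel_right]

/-- The products of an element of `K` with a power of `v`. -/
def InN (K : Subgroup G) (v x : G) : Prop := ∃ k ∈ K, x = k ∨ x = v * k

variable {T : Sylow 2 G} {B K D W W' : Subgroup G} {v z : G}

theorem conj_le (hN : B ≤ normalizer (K : Set G)) {b k : G} (hb : b ∈ B) (hk : k ∈ K) : b * k * b⁻¹ ∈ K :=
  ((mem_normalizer_iff.1 (hN hb)) k).1 hk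

section

variable (h : FinalData T B K D W W' v z)
include h

theorem v_B : v ∈ B := h.W_le h.v_mem.1

theorem v_sq : v * v = 1 := h.sqW v h.v_mem.1

theorem comm_D {w d : G} (hw : w ∈ W ∨ w ∈ W') (hd : d ∈ D) : w * d = d * w := by
  have hwB : w ∈ B := hw.elim (fun a => h.W_le a) fun a => h.W'_le a
  have h1 : w * d * w⁻¹ * d⁻¹ ∈ D := mul_mem (conj_le h.normD hwB hd) (inv_mem hd)
  have h2 : w * d * w⁻¹ * d⁻¹ = 1 := by
    rcases hw with hw | hw
    · have : w * d * w⁻¹ * d⁻¹ ∈ W ⊓ D := ⟨by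
        rw [show w * d * w⁻¹ * d⁻¹ = w * (d * w⁻¹ * d⁻¹) by group]
        exact mul_mem hw (conj_le h.normW (h.D_le hd) (inv_mem hw)), h1⟩
      rwa [h.infW, mem_bot] at this
    · have : w * d * w⁻¹ * d⁻¹ ∈ W' ⊓ D := ⟨by
        rw [show w * d * w⁻¹ * d⁻¹ = w * (d * w⁻¹ * d⁻¹) by group]
        exact mul_mem hw (conj_le h.normW' (h.D_le hd) (inv_mem hw)), h1⟩
      rwa [h.infW', mem_bot] at this
  exact mul_inv_eq_iff_eq_mul.1 (mul_inv_eq_one.1 h2)

omit h in
theorem comm_of_sq {W : Subgroup G} (hs : ∀ w ∈ W, w * w = 1) {a b : G} (ha : a ∈ W) (hb : b ∈ W) :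
    a * b = b * a := by
  have e : ∀ w ∈ W, w⁻¹ = w := fun w hw => inv_eq_of_mul_eq_one_left (hs w hw)
  rw [← e _ (mul_mem ha hb), mul_inv_rev, e _ ha, e _ hb]

theorem v_comm {b : G} (hb : b ∈ B) : b * v = v * b := by
  have h1 : W ⊔ W' ⊔ D ≤ centralizer ({v} : Set G) := by
    refine sup_le (sup_le ?_ ?_) ?_ <;> intro w hw <;> rw [mem_centralizer_singleton_iff]
    · exact comm_of_sq h.sqW hw h.v_mem.1
    · exact comm_of_sq h.sqW' hw h.v_mem.2
    · exact (comm_D h (Or.inl h.v_mem.1) hw).symm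
  exact mem_centralizer_singleton_iff.1 (h1 (h.top.symm ▸ hb))

theorem v_not_D : v ∉ D := fun hv => h.v_ne (by
  have : v ∈ W ⊓ D := ⟨h.v_mem.1, hv⟩
  rwa [h.infW, mem_bot] at this)

theorem decompose {b : G} (hb : b ∈ B) : ∃ w ∈ W, ∃ w' ∈ W', ∃ d ∈ D, b = w * w' * d := by
  rw [← h.top] at hb
  have hb' : b ∈ ((W ⊔ W' : Subgroup G) : Set G) * (D : Set G) := by
    rw [← coe_mul_of_left_le_normalizer_right _ _ ((sup_le h.W_le h.W'_le).trans h.normD)]
    exact hb
  obtain ⟨r, hr, d, hd, rfl⟩ := hb'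
  have hr' : r ∈ (W : Set G) * (W' : Set G) := by
    rw [← coe_mul_of_left_le_normalizer_right _ _ (h.W_le.trans h.normW')]
    exact hr
  obtain ⟨w, hw, w', hw', rfl⟩ := hr'
  exact ⟨w, hw, w', hw', d, hd, rfl⟩

theorem K_sq {d : G} (hd : d ∈ D) : d * d ∈ K ∧ ∀ e ∈ D, d * e * d⁻¹ * e⁻¹ ∈ K := by
  have h0 : K.relIndex D ≠ 0 := Subgroup.index_ne_zero_of_finite
  rcases (show K.relIndex D = 1 ∨ K.relIndex D = 2 by have := h.indexD; omega) with h1 | h1
  · have hD : D ≤ K := relIndex_eq_one.1 h1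
    exact ⟨hD (mul_mem hd hd), fun e he => hD (mul_mem (mul_mem (mul_mem hd he) (inv_mem hd)) (inv_mem he))⟩
  · refine ⟨(mul_mem_iff_two h1 hd hd).2 Iff.rfl, fun e he => ?_⟩
    rw [mul_mem_iff_two h1 (mul_mem (mul_mem hd he) (inv_mem hd)) (inv_mem he),
      mul_mem_iff_two h1 (mul_mem hd he) (inv_mem hd), mul_mem_iff_two h1 hd he]
    simp only [inv_mem_iff]
    tauto

/-- `D` is central modulo `K`. -/
theorem D_central {d b : G} (hd : d ∈ D) (hb : b ∈ B) : d * b * d⁻¹ * b⁻¹ ∈ K := by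
  obtain ⟨w, hw, w', hw', e, he, rfl⟩ := decompose h hb
  have hc : (w * w') * d = d * (w * w') := by
    rw [mul_assoc, comm_D h (Or.inr hw') hd, ← mul_assoc, comm_D h (Or.inl hw) hd, mul_assoc]
  have : d * (w * w' * e) * d⁻¹ * (w * w' * e)⁻¹ = (w * w') * (d * e * d⁻¹ * e⁻¹) * (w * w')⁻¹ := by
    calc d * (w * w' * e) * d⁻¹ * (w * w' * e)⁻¹ = d * (w * w') * e * d⁻¹ * e⁻¹ * (w * w')⁻¹ := by group
      _ = w * w' * d * e * d⁻¹ * e⁻¹ * (w * w')⁻¹ := by rw [hc]
      _ = _ := by group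
  rw [this]
  exact conj_le h.normK (mul_mem (h.W_le hw) (h.W'_le hw')) ((K_sq h hd).2 e he)

theorem zv {x : G} (hx : x ∈ zpowers v) : x = 1 ∨ x = v := by
  obtain ⟨n, rfl⟩ := hx
  rcases Int.even_or_odd n with ⟨m, rfl⟩ | ⟨m, rfl⟩
  · left; dsimp only; rw [← two_mul, zpow_mul, zpow_two, v_sq h, one_zpow]
  · right; dsimp only; rw [zpow_add_one, zpow_mul, zpow_two, v_sq h, one_zpow, one_mul]

theorem inN_mul {x y : G} (hx : InN K v x) (hy : InN K v y) : InN K v (x * y) := by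
  obtain ⟨k, hk, ex⟩ := hx
  obtain ⟨l, hl, ey⟩ := hy
  have hkv : k * v = v * k := v_comm h (h.D_le (h.K_le hk))
  refine ⟨k * l, mul_mem hk hl, ?_⟩
  rcases ex with ex | ex <;> rcases ey with ey | ey <;> subst ex <;> subst ey
  · exact Or.inl rfl
  · exact Or.inr (by rw [← mul_assoc, hkv, mul_assoc])
  · exact Or.inr (mul_assoc _ _ _)
  · refine Or.inl ?_
    calc v * k * (v * l) = v * (k * v) * l := by group
      _ = v * v * k * l := by rw [hkv]; group
      _ = k * l := by rw [v_sq h, one_mul]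

theorem inN_inv {x : G} (hx : InN K v x) : InN K v x⁻¹ := by
  obtain ⟨k, hk, ex⟩ := hx
  refine ⟨k⁻¹, inv_mem hk, ?_⟩
  rcases ex with rfl | rfl
  · exact Or.inl rfl
  · refine Or.inr ?_
    rw [mul_inv_rev, inv_eq_of_mul_eq_one_left (v_sq h)]
    exact v_comm h (h.D_le (h.K_le (inv_mem hk)))

theorem inN_conj {x b : G} (hb : b ∈ B) (hx : InN K v x) : InN K v (b * x * b⁻¹) := by
  obtain ⟨k, hk, ex⟩ := hx
  refine ⟨b * k * b⁻¹, conj_le h.normK hb hk, ?_⟩
  rcases ex with rfl | rfl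
  · exact Or.inl rfl
  · refine Or.inr ?_
    rw [← mul_assoc b v, v_comm h hb]
    group

theorem sq_inN {b : G} (hb : b ∈ B) : InN K v (b * b) := by
  obtain ⟨w, hw, w', hw', d, hd, rfl⟩ := decompose h hb
  have hc : d * (w * w') = (w * w') * d := by
    rw [← mul_assoc, ← comm_D h (Or.inl hw) hd, mul_assoc, ← comm_D h (Or.inr hw') hd, mul_assoc]
  have : w * w' * d * (w * w' * d) = w * w' * w⁻¹ * w'⁻¹ * (d * d) := by
    rw [inv_eq_of_mul_eq_one_left (h.sqW w hw), inv_eq_of_mul_eq_one_left (h.sqW' w' hw')]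
    calc w * w' * d * (w * w' * d) = w * w' * (d * (w * w')) * d := by group
      _ = _ := by rw [hc]; group
  rw [this]
  have hc' := h.comm w hw w' hw'
  rw [commutatorElement_def] at hc'
  rcases zv h hc' with e | e <;> rw [e]
  · exact ⟨d * d, (K_sq h hd).1, Or.inl (one_mul _)⟩
  · exact ⟨d * d, (K_sq h hd).1, Or.inr rfl⟩

theorem comm_inN {a b : G} (ha : a ∈ B) (hb : b ∈ B) : InN K v (a * b * a⁻¹ * b⁻¹) := by
  rw [show a * b * a⁻¹ * b⁻¹ = (a * b) * (a * b) * (b⁻¹ * (a * a)⁻¹ * b⁻¹⁻¹) * (b * b)⁻¹ by group]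
  exact inN_mul h (inN_mul h (sq_inN h (mul_mem ha hb)) (inN_conj h (inv_mem hb) (inN_inv h (sq_inN h ha))))
    (inN_inv h (sq_inN h hb))

theorem conj_B {t b : G} (ht : t ∈ (T : Subgroup G)) (hb : b ∈ B) : t * b * t⁻¹ ∈ B :=
  conj_le h.normB ht hb

theorem swapK {t w : G} (ht : t ∈ (T : Subgroup G)) (htB : t ∉ B) (hw : w ∈ W ∨ w ∈ W') :
    t * w * t⁻¹ ∈ K := by
  obtain ⟨h1, h2, -⟩ := h.swap t ht htB
  rcases hw with hw | hw
  · exact h1 ⟨w, hw, rfl⟩
  · exact h2 ⟨w, hw, rfl⟩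

theorem inter {t k : G} (ht : t ∈ (T : Subgroup G)) (htB : t ∉ B) (hk : k ∈ K) (hk' : t⁻¹ * k * t ∈ K) :
    k = 1 := by
  have : k ∈ K ⊓ K.map (MulAut.conj t).toMonoidHom := ⟨hk, Transfer.Fusion.mem_map_conj.2 hk'⟩
  rwa [(h.swap t ht htB).2.2.1, mem_bot] at this

theorem outside_inv {t : G} (htB : t ∉ B) : t⁻¹ ∉ B := fun a => htB (inv_inv t ▸ inv_mem a)

theorem vt_mem {t : G} (ht : t ∈ (T : Subgroup G)) (htB : t ∉ B) :
    t * v * t⁻¹ ∈ K ∧ t⁻¹ * v * t ∈ K := by
  refine ⟨swapK h ht htB (Or.inl h.v_mem.1), ?_⟩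
  have := swapK h (inv_mem ht) (outside_inv h htB) (Or.inl h.v_mem.1)
  rwa [inv_inv] at this

/-- An element in both `<v>K` and its conjugate is one of four. -/
theorem double {t x : G} (ht : t ∈ (T : Subgroup G)) (htB : t ∉ B) (hx : InN K v x)
    (hx' : InN K v (t⁻¹ * x * t)) :
    x = 1 ∨ x = v ∨ x = t * v * t⁻¹ ∨ x = v * (t * v * t⁻¹) := by
  obtain ⟨hv1, hv2⟩ := vt_mem h ht htB
  obtain ⟨k, hk, ek⟩ := hx
  obtain ⟨l, hl, el⟩ := hx'
  have hxl : x = t * (t⁻¹ * x * t) * t⁻¹ := by group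
  rcases ek with ek | ek <;> rcases el with el | el
  · left
    rw [inter h ht htB hk (by rw [← ek, el]; exact hl)] at ek
    exact ek
  · right; right; left
    have h1 : (t * v * t⁻¹)⁻¹ * k = t * l * t⁻¹ := by
      rw [← ek, hxl, el]; group
    have h2 := inter h ht htB (mul_mem (inv_mem hv1) hk) (by
      rw [h1, show t⁻¹ * (t * l * t⁻¹) * t = l by group]; exact hl)
    rw [ek, inv_mul_eq_one.1 h2]
  · right; left
    have h1 : t⁻¹ * k * t = (t⁻¹ * v * t)⁻¹ * l := by
      rw [← el, ek]; group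
    have h2 := inter h ht htB hk (by rw [h1]; exact mul_mem (inv_mem hv2) hl)
    rw [ek, h2, mul_one]
  · right; right; right
    have hkv : t * v * t⁻¹ * v = v * (t * v * t⁻¹) := v_comm h (conj_B h ht (v_B h))
    have h1 : (t * v * t⁻¹)⁻¹ * k = v⁻¹ * (t * l * t⁻¹) := by
      have h3 : v * k = t * v * t⁻¹ * (t * l * t⁻¹) := by rw [← ek, hxl, el]; group
      have h4 : k = v⁻¹ * (t * v * t⁻¹) * (t * l * t⁻¹) := by rw [mul_assoc, ← h3, inv_mul_cancel_left]
      rw [h4]
      calc (t * v * t⁻¹)⁻¹ * (v⁻¹ * (t * v * t⁻¹) * (t * l * t⁻¹))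
          = (v * (t * v * t⁻¹))⁻¹ * (t * v * t⁻¹) * (t * l * t⁻¹) := by group
        _ = (t * v * t⁻¹ * v)⁻¹ * (t * v * t⁻¹) * (t * l * t⁻¹) := by rw [hkv]
        _ = _ := by group
    have h2 := inter h ht htB (mul_mem (inv_mem hv1) hk) (by
      rw [h1, show t⁻¹ * (v⁻¹ * (t * l * t⁻¹)) * t = (t⁻¹ * v * t)⁻¹ * l by group]
      exact mul_mem (inv_mem hv2) hl)
    rw [ek, inv_mul_eq_one.1 h2]

/-- An element central modulo `K` on both sides is central in `B`. -/
theorem central_two {t c : G} (ht : t ∈ (T : Subgroup G)) (htB : t ∉ B)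
    (h1 : ∀ b ∈ B, c * b * c⁻¹ * b⁻¹ ∈ K)
    (h2 : ∀ b ∈ B, (t⁻¹ * c * t) * b * (t⁻¹ * c * t)⁻¹ * b⁻¹ ∈ K) {b : G} (hb : b ∈ B) : c * b = b * c := by
  have hb' : t⁻¹ * b * t ∈ B := by
    have := conj_B h (inv_mem ht) hb
    rwa [inv_inv] at this
  have h3 := h2 _ hb'
  rw [show t⁻¹ * c * t * (t⁻¹ * b * t) * (t⁻¹ * c * t)⁻¹ * (t⁻¹ * b * t)⁻¹ =
    t⁻¹ * (c * b * c⁻¹ * b⁻¹) * t by group] at h3
  have := inter h ht htB (h1 b hb) h3
  exact mul_inv_eq_iff_eq_mul.1 (mul_inv_eq_one.1 this)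

theorem index_two {t u : G} (ht : t ∈ (T : Subgroup G)) (htB : t ∉ B) (hu : u ∈ (T : Subgroup G))
    (huB : u ∉ B) : t⁻¹ * u ∈ B := by
  rw [mul_mem_iff_two h.index (inv_mem ht) hu]
  simp [htB, huB]

theorem central_T {t c : G} (ht : t ∈ (T : Subgroup G)) (htB : t ∉ B) (hc : ∀ b ∈ B, c * b = b * c)
    (hct : c * t = t * c) {u : G} (hu : u ∈ (T : Subgroup G)) : c * u = u * c := by
  by_cases huB : u ∈ B
  · exact hc u huB
  · calc c * u = c * t * (t⁻¹ * u) := by group
      _ = t * (c * (t⁻¹ * u)) := by rw [hct, mul_assoc]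
      _ = u * c := by rw [hc _ (index_two h ht htB hu huB)]; group

omit [Finite G] in
theorem z_mem : z ∈ (T : Subgroup G) := h.cz ▸ mem_centralizer_singleton_iff.2 rfl

omit [Finite G] in
theorem z_comm {u : G} (hu : u ∈ (T : Subgroup G)) : u * z = z * u :=
  mem_centralizer_singleton_iff.1 (h.cz.symm ▸ hu)

theorem le_centralizer_of {c : G} (hc : ∀ b ∈ B, c * b = b * c) :
    Cfsg.thompsonSubgroupOf 2 (T : Subgroup G) ≤ centralizer ({c} : Set G) := fun j hj =>
  mem_centralizer_singleton_iff.2 (hc j (h.jle hj)).symm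

/-- Central elements of `B` conjugate in `G` are conjugate in `T`. -/
theorem fuse {a b g : G} (ha : ∀ x ∈ B, a * x = x * a) (hb : ∀ x ∈ B, b * x = x * b)
    (e : g * a * g⁻¹ = b) : ∃ n ∈ (T : Subgroup G), n * a * n⁻¹ = b := by
  obtain ⟨n, hn, e'⟩ := burnside_J T (le_centralizer_of h ha) (le_centralizer_of h hb) e
  exact ⟨n, h.nJ ▸ hn, e'⟩

theorem central_four {t x : G} (ht : t ∈ (T : Subgroup G))
    (hx : x = 1 ∨ x = v ∨ x = t * v * t⁻¹ ∨ x = v * (t * v * t⁻¹)) {b : G} (hb : b ∈ B) : x * b = b * x := by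
  have h1 : Commute v b := (v_comm h hb).symm
  have h2 : Commute (t * v * t⁻¹) b := by
    have hb' : t⁻¹ * b * t ∈ B := by
      have := conj_B h (inv_mem ht) hb
      rwa [inv_inv] at this
    show t * v * t⁻¹ * b = b * (t * v * t⁻¹)
    calc t * v * t⁻¹ * b = t * (v * (t⁻¹ * b * t)) * t⁻¹ := by group
      _ = t * ((t⁻¹ * b * t) * v) * t⁻¹ := by rw [v_comm h hb']
      _ = b * (t * v * t⁻¹) := by group
  rcases hx with rfl | rfl | rfl | rfl
  exacts [(Commute.one_left b).eq, h1.eq, h2.eq, (h1.mul_left h2).eq]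

/-- Some element outside `B` squares into `D`. -/
theorem exists_sq_D : ∃ x ∈ (T : Subgroup G), x ∉ B ∧ x * x ∈ D := by
  obtain ⟨x, hx, hxB⟩ : ∃ x ∈ (T : Subgroup G), x ∉ B := by
    by_contra hh
    push Not at hh
    have h1 := relIndex_eq_one.2 (fun a ha => hh a ha : (T : Subgroup G) ≤ B)
    rw [h.index] at h1
    omega
  have hxx : x * x ∈ B := (mul_mem_iff_two h.index hx hx).2 Iff.rfl
  obtain ⟨w, hw, w', hw', d, hd, e⟩ := decompose h hxx
  set r := w * w' with hr
  have hrB : r ∈ B := mul_mem (h.W_le hw) (h.W'_le hw')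
  refine ⟨x * r⁻¹, mul_mem hx (h.B_le (inv_mem hrB)), fun hh => hxB (by simpa using mul_mem hh hrB), ?_⟩
  have hk : x⁻¹ * r⁻¹ * x ∈ K := by
    have a1 := swapK h (inv_mem hx) (outside_inv h hxB) (Or.inl hw)
    have a2 := swapK h (inv_mem hx) (outside_inv h hxB) (Or.inr hw')
    have := inv_mem (mul_mem a1 a2)
    rw [show (x⁻¹ * w * x⁻¹⁻¹ * (x⁻¹ * w' * x⁻¹⁻¹))⁻¹ = x⁻¹ * r⁻¹ * x by rw [hr]; group] at this
    exact this
  rw [show x * r⁻¹ * (x * r⁻¹) = x * x * (x⁻¹ * r⁻¹ * x) * r⁻¹ by group, e, mul_assoc (r) d]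
  exact conj_le h.normD hrB (mul_mem hd (h.K_le hk))

/-- That square is central in `T`, and is `1` or none of the four. -/
theorem square {x : G} (hx : x ∈ (T : Subgroup G)) (hxB : x ∉ B) (hf : x * x ∈ D) :
    (x * x) * (x * x) = 1 ∧ (∀ u ∈ (T : Subgroup G), x * x * u = u * (x * x)) ∧
      ((x * x = 1 ∨ x * x = v ∨ x * x = x * v * x⁻¹ ∨ x * x = v * (x * v * x⁻¹)) → x * x = 1) := by
  set f := x * x with hfdef
  have hfx : x⁻¹ * f * x = f := by rw [hfdef]; group
  have hfB : ∀ b ∈ B, f * b = b * f := fun b hb =>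
    central_two h hx hxB (fun b hb => D_central h hf hb) (fun b hb => by rw [hfx]; exact D_central h hf hb) hb
  have hct : f * x = x * f := by rw [hfdef, mul_assoc]
  have four : ∀ y : G, y ∈ D → x⁻¹ * y * x = y →
      (y = 1 ∨ y = v ∨ y = x * v * x⁻¹ ∨ y = v * (x * v * x⁻¹)) → y = 1 := by
    intro y hy hyx hh
    rcases hh with e | e | e | e
    · exact e
    · exact absurd (e ▸ hy) (v_not_D h)
    · rw [e, show x⁻¹ * (x * v * x⁻¹) * x = v by group] at hyx
      exact absurd (hyx.symm ▸ (e ▸ hy)) (v_not_D h)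
    · refine absurd ?_ (v_not_D h)
      have h1 := mul_mem (e ▸ hy) (inv_mem (h.K_le (vt_mem h hx hxB).1))
      rwa [mul_inv_cancel_right] at h1
  refine ⟨four _ (mul_mem hf hf) ?_ ?_, fun u hu => central_T h hx hxB hfB hct hu, four f hf hfx⟩
  · rw [show x⁻¹ * (f * f) * x = x⁻¹ * f * x * (x⁻¹ * f * x) by group, hfx]
  · refine double h hx hxB (sq_inN h (h.D_le hf)) ?_
    rw [show x⁻¹ * (f * f) * x = x⁻¹ * f * x * (x⁻¹ * f * x) by group, hfx]
    exact sq_inN h (h.D_le hf)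

/-- There is an involution outside `B`. -/
theorem exists_involution (hperf : commutator G = ⊤) : ∃ t ∈ (T : Subgroup G), t ∉ B ∧ t * t = 1 := by
  obtain ⟨x, hx, hxB, hf⟩ := exists_sq_D h
  by_contra hno
  push Not at hno
  obtain ⟨hff, hfT, hfour⟩ := square h hx hxB hf
  have h4 : orderOf x ≤ 4 := orderOf_le_of_pow_eq_one (by norm_num) (by
    rw [show x ^ 4 = x * x * (x * x) by simp [pow_succ, mul_assoc], hff])
  have hmin : ∀ u ∈ (T : Subgroup G), u ∉ B → orderOf x ≤ orderOf u := fun u hu huB => by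
    obtain ⟨i, hi⟩ := T.2 ⟨u, hu⟩
    have hd : orderOf u ∣ 2 ^ i := orderOf_dvd_of_pow_eq_one (congrArg Subtype.val hi)
    obtain ⟨j, -, hj⟩ := (Nat.dvd_prime_pow Nat.prime_two).1 hd
    rw [hj]
    refine h4.trans ?_
    rcases j with _ | _ | j
    · exact absurd (orderOf_eq_one_iff.1 (hj.trans (pow_zero 2)) ▸ B.one_mem) huB
    · exfalso
      refine hno u hu huB ?_
      rw [← pow_two, ← show orderOf u = 2 by rw [hj]; norm_num, pow_orderOf_eq_one]
    · calc 4 = 2 ^ 2 := by norm_num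
        _ ≤ _ := Nat.pow_le_pow_right (by norm_num) (by omega)
  obtain ⟨g, hg⟩ := transfer_conj hperf T h.B_le h.index hx hxB hmin
  set s := g * x * g⁻¹ with hs
  have hs' : s * s = g * (x * x) * g⁻¹ := by rw [hs]; group
  have hfour' := double h hx hxB (sq_inN h hg) (by
    rw [show x⁻¹ * (s * s) * x = (x⁻¹ * s * x⁻¹⁻¹) * (x⁻¹ * s * x⁻¹⁻¹) by group]
    exact sq_inN h (conj_B h (inv_mem hx) hg))
  obtain ⟨n, hn, e⟩ := fuse h (fun b hb => hfT b (h.B_le hb)) (fun b hb => central_four h hx hfour' hb) hs'.symm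
  rw [← hfT n hn, mul_inv_cancel_right] at e
  refine hno x hx hxB (hfour (e ▸ hfour'))

theorem card_R_le {t : G} (ht : t ∈ (T : Subgroup G)) (htB : t ∉ B) : 8 ≤ Nat.card K := by
  obtain ⟨hW, hW', -⟩ := h.swap t ht htB
  have hle : (W ⊔ W').map (MulAut.conj t).toMonoidHom ≤ K := by rw [Subgroup.map_sup]; exact sup_le hW hW'
  have h1 := card_le_of_le hle
  rw [Transfer.Fusion.card_map_conj] at h1
  refine le_trans ?_ h1
  have hlt : W < W ⊔ W' := by
    refine lt_of_le_of_ne le_sup_left fun e => ?_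
    obtain ⟨w, hw, w', hw', hne⟩ := h.nc
    refine hne ?_
    rw [commutatorElement_def, comm_of_sq h.sqW hw (e ▸ (le_sup_right : W' ≤ W ⊔ W') hw'), mul_inv_cancel_right,
      mul_inv_cancel]
  obtain ⟨q, hq⟩ := card_dvd_of_le hlt.le
  rw [h.cardW] at hq
  have hlt' : Nat.card W < Nat.card (W ⊔ W' : Subgroup G) := by
    refine lt_of_le_of_ne (card_le_of_le hlt.le) fun e => hlt.ne (eq_of_le_of_card_ge hlt.le e.ge)
  rw [h.cardW] at hlt'
  omega

theorem three_not_z {t : G} (ht : t ∈ (T : Subgroup G)) (htB : t ∉ B) (h2 : t * t = 1) (g : G) :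
    g * z * g⁻¹ ≠ t := fun e => by
  obtain ⟨a, ha, hc⟩ := h.three t ht htB h2
  have ha' : g⁻¹ * a * g ∈ (T : Subgroup G) := h.cz ▸ mem_centralizer_singleton_iff.2 (by
    calc g⁻¹ * a * g * z = g⁻¹ * (a * (g * z * g⁻¹)) * g := by group
      _ = g⁻¹ * ((g * z * g⁻¹) * a) * g := by rw [e, hc.eq]
      _ = z * (g⁻¹ * a * g) := by group)
  obtain ⟨i, hi⟩ := T.2 ⟨_, ha'⟩
  have hd : orderOf (g⁻¹ * a * g) ∣ 2 ^ i := orderOf_dvd_of_pow_eq_one (congrArg Subtype.val hi)
  rw [show g⁻¹ * a * g = MulAut.conj g⁻¹ a by simp, MulEquiv.orderOf_eq, ha] at hd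
  exact absurd (Nat.Prime.dvd_of_dvd_pow Nat.prime_three hd) (by norm_num)

theorem z_sq : z * z = 1 := by
  obtain ⟨x, hx, hxB, -⟩ := exists_sq_D h
  rw [(h.swap x hx hxB).2.2.2]
  have hc : v * (x * v * x⁻¹) = x * v * x⁻¹ * v := (v_comm h (conj_B h hx (v_B h))).symm
  calc v * (x * v * x⁻¹) * (v * (x * v * x⁻¹)) = x * v * x⁻¹ * v * (v * (x * v * x⁻¹)) := by rw [hc]
    _ = x * v * x⁻¹ * (v * v) * (x * v * x⁻¹) := by group
    _ = x * (v * v) * x⁻¹ := by rw [v_sq h, mul_one, mul_one, show x * v * x⁻¹ * (x * v * x⁻¹) = x * (v * v) * x⁻¹ by group, v_sq h, mul_one]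
    _ = 1 := by rw [v_sq h]; group

/-- `C_T(t)` is a Sylow subgroup of `C(t)` for an involution outside `B`. -/
theorem sylow_centralizer {t : G} (ht : t ∈ (T : Subgroup G)) (htB : t ∉ B) (h2 : t * t = 1) {A : Subgroup G}
    (hA : IsPGroup 2 A) (hAt : A ≤ centralizer ({t} : Set G)) :
    Nat.card A ≤ Nat.card ((T : Subgroup G) ⊓ centralizer ({t} : Set G) : Subgroup G) := by
  set C := centralizer ({t} : Set G) with hC
  set CT := (T : Subgroup G) ⊓ C with hCT
  have hCTp : IsPGroup 2 (CT.subgroupOf C) :=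
    (T.2.to_le inf_le_left).comap_subtype
  obtain ⟨S, hS⟩ := hCTp.exists_le_sylow
  have hSp : IsPGroup 2 ((S : Subgroup C).map C.subtype) := S.2.map _
  obtain ⟨R, hR⟩ := hSp.exists_le_sylow
  obtain ⟨g, rfl⟩ := MulAction.exists_smul_eq G T R
  have hSR : ∀ y : C, y ∈ (S : Subgroup C) → g⁻¹ * (y : G) * g ∈ (T : Subgroup G) := fun y hy =>
    Transfer.Fusion.mem_smul_sylow_iff.1 (hR ⟨y, hy, rfl⟩)
  have hCTS : ∀ u ∈ CT, ∀ hu : u ∈ C, (⟨u, hu⟩ : C) ∈ (S : Subgroup C) := fun u hu hu' => hS hu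
  set z' := g * z * g⁻¹ with hz'
  have hzz' : ∀ y : C, y ∈ (S : Subgroup C) → z' * y = y * z' := fun y hy => by
    calc z' * y = g * (z * (g⁻¹ * y * g)) * g⁻¹ := by rw [hz']; group
      _ = g * ((g⁻¹ * y * g) * z) * g⁻¹ := by rw [z_comm h (hSR y hy)]
      _ = y * z' := by rw [hz']; group
  have htC : t ∈ C := mem_centralizer_singleton_iff.2 rfl
  have hzC : z ∈ C := mem_centralizer_singleton_iff.2 (z_comm h ht).symm
  have hz'C : z' ∈ C := mem_centralizer_singleton_iff.2 (hzz' ⟨t, htC⟩ (hCTS t ⟨ht, htC⟩ htC))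
  have hz'2 : z' * z' = 1 := by
    rw [hz', show g * z * g⁻¹ * (g * z * g⁻¹) = g * (z * z) * g⁻¹ by group, z_sq h]
    group
  have hz'T : z' ∈ (T : Subgroup G) :=
    h.cz ▸ mem_centralizer_singleton_iff.2 (hzz' ⟨z, hzC⟩ (hCTS z ⟨z_mem h, hzC⟩ hzC))
  have hcent : ∀ u ∈ CT, z' * u = u * z' := fun u hu => hzz' ⟨u, hu.2⟩ (hCTS u hu hu.2)
  have hz'B : z' ∈ B := by
    by_contra hh
    exact three_not_z h hz'T hh hz'2 g rfl
  have ht' : t⁻¹ * z' * t = z' := by
    rw [mul_assoc, hcent t ⟨ht, htC⟩, inv_mul_cancel_left]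
  have hmodK : ∀ b ∈ B, z' * b * z'⁻¹ * b⁻¹ ∈ K := by
    have hW : ∀ w : G, w ∈ W ∨ w ∈ W' → z' * w * z'⁻¹ * w⁻¹ ∈ K := fun w hw => by
      set k := t * w * t⁻¹ with hk
      have hkK : k ∈ K := swapK h ht htB hw
      have hwk : w * k = k * w := comm_D h hw (h.K_le hkK)
      have hwB : w ∈ B := hw.elim (fun a => h.W_le a) fun a => h.W'_le a
      have hu : w * k ∈ CT := ⟨h.B_le (mul_mem hwB (h.D_le (h.K_le hkK))), mem_centralizer_singleton_iff.2 (by
        have ti : t⁻¹ = t := inv_eq_of_mul_eq_one_left h2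
        rw [hk, ti]
        have hwk' : w * (t * w * t) = t * w * t * w := by
          rw [hk, ti] at hwk; exact hwk
        calc w * (t * w * t) * t = w * t * w * (t * t) := by group
          _ = w * t * w := by rw [h2, mul_one]
          _ = t * (t * w * t * w) := by
            rw [show t * (t * w * t * w) = (t * t) * w * t * w by group, h2, one_mul]
          _ = t * (w * (t * w * t)) := by rw [hwk'])⟩
      have e := hcent _ hu
      have : z' * w * z'⁻¹ * w⁻¹ = w * k * (z' * k⁻¹ * z'⁻¹) * w⁻¹ := by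
        calc z' * w * z'⁻¹ * w⁻¹ = (z' * (w * k)) * k⁻¹ * z'⁻¹ * w⁻¹ := by group
          _ = _ := by rw [e]; group
      rw [this, show w * k * (z' * k⁻¹ * z'⁻¹) * w⁻¹ = w * (k * (z' * k⁻¹ * z'⁻¹)) * w⁻¹ by group]
      exact conj_le h.normK hwB (mul_mem hkK (conj_le h.normK hz'B (inv_mem hkK)))
    intro b hb
    obtain ⟨w, hw, w', hw', d, hd, rfl⟩ := decompose h hb
    have a1 := hW w (Or.inl hw)
    have a2 := hW w' (Or.inr hw')
    have a3 : z' * d * z'⁻¹ * d⁻¹ ∈ K := by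
      have h4 := inv_mem (D_central h hd hz'B)
      rwa [show (d * z' * d⁻¹ * z'⁻¹)⁻¹ = z' * d * z'⁻¹ * d⁻¹ by group] at h4
    rw [show z' * (w * w' * d) * z'⁻¹ * (w * w' * d)⁻¹ = z' * w * z'⁻¹ * w⁻¹ *
      (w * ((z' * w' * z'⁻¹ * w'⁻¹) * (w' * (z' * d * z'⁻¹ * d⁻¹) * w'⁻¹)) * w⁻¹) by group]
    exact mul_mem a1 (conj_le h.normK (h.W_le hw) (mul_mem a2 (conj_le h.normK (h.W'_le hw') a3)))
  have hz'cent : ∀ b ∈ B, z' * b = b * z' := fun b hb =>
    central_two h ht htB hmodK (fun b hb => by rw [ht']; exact hmodK b hb) hb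
  obtain ⟨n, hn, e⟩ := fuse h (fun b hb => (z_comm h (h.B_le hb)).symm) hz'cent hz'.symm
  have he : g * z * g⁻¹ = z := by
    rw [← hz', ← e, z_comm h hn, mul_inv_cancel_right]
  have hgT : g ∈ (T : Subgroup G) := h.cz ▸ mem_centralizer_singleton_iff.2 (mul_inv_eq_iff_eq_mul.1 he)
  have hSle : (S : Subgroup C) ≤ CT.subgroupOf C := fun y hy => by
    refine ⟨?_, y.2⟩
    have := mul_mem (mul_mem hgT (hSR y hy)) (inv_mem hgT)
    rwa [show g * (g⁻¹ * (y : G) * g) * g⁻¹ = y by group] at this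
  obtain ⟨P, hP⟩ := (hA.comap_subtype (K := C)).exists_le_sylow
  calc Nat.card A = Nat.card (A.subgroupOf C) := (Nat.card_congr (subgroupOfEquivOfLe hAt).toEquiv).symm
    _ ≤ Nat.card (P : Subgroup C) := card_le_of_le hP
    _ = Nat.card (S : Subgroup C) := by rw [P.card_eq_multiplicity, S.card_eq_multiplicity]
    _ ≤ Nat.card (CT.subgroupOf C) := card_le_of_le hSle
    _ = Nat.card CT := Nat.card_congr (subgroupOfEquivOfLe inf_le_right).toEquiv

theorem final (hperf : commutator G = ⊤) : False := by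
  obtain ⟨t, ht, htB, h2⟩ := exists_involution h hperf
  have ht1 : t ≠ 1 := fun e => htB (e ▸ B.one_mem)
  have hot : orderOf t = 2 := orderOf_eq_prime (by rw [pow_two, h2]) ht1
  have hmin : ∀ u ∈ (T : Subgroup G), u ∉ B → orderOf t ≤ orderOf u := fun u _ huB => by
    rw [hot]
    have h0 := orderOf_pos u
    have h1 : orderOf u ≠ 1 := fun e => huB (orderOf_eq_one_iff.1 e ▸ B.one_mem)
    omega
  obtain ⟨g, hs⟩ := transfer_conj hperf T h.B_le h.index ht htB hmin
  set s := g * t * g⁻¹ with hsdef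
  have hs2 : s * s = 1 := by
    rw [hsdef, show g * t * g⁻¹ * (g * t * g⁻¹) = g * (t * t) * g⁻¹ by group, h2]; group
  obtain ⟨w, hw, w', hw', d, hd, es⟩ := decompose h hs
  have hws : ∃ u, (u ∈ W ∨ u ∈ W') ∧ s = u * d := by
    have hc : d * (w * w') = (w * w') * d := by
      rw [← mul_assoc, ← comm_D h (Or.inl hw) hd, mul_assoc, ← comm_D h (Or.inr hw') hd, mul_assoc]
    have hrr : w * w' * (w * w') = (d * d)⁻¹ := eq_inv_of_mul_eq_one_left (by
      rw [← hs2, es]
      calc w * w' * (w * w') * (d * d) = w * w' * ((w * w') * d) * d := by group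
        _ = w * w' * (d * (w * w')) * d := by rw [hc]
        _ = _ := by group)
    have hrc : w * w' * w⁻¹ * w'⁻¹ = 1 := by
      have h1 : w * w' * w⁻¹ * w'⁻¹ ∈ D := by
        rw [inv_eq_of_mul_eq_one_left (h.sqW w hw), inv_eq_of_mul_eq_one_left (h.sqW' w' hw'),
          mul_assoc (w * w') w w', hrr]
        exact inv_mem (mul_mem hd hd)
      have hc' := h.comm w hw w' hw'
      rw [commutatorElement_def] at hc'
      rcases zv h hc' with e | e
      · exact e
      · exact absurd (e ▸ h1) (v_not_D h)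
    have hcomm : w * w' = w' * w := mul_inv_eq_iff_eq_mul.1 (mul_inv_eq_one.1 hrc)
    by_cases hwv : w ∈ zpowers v
    · refine ⟨w * w', Or.inr (mul_mem ?_ hw'), es⟩
      rcases zv h hwv with rfl | rfl
      exacts [W'.one_mem, h.v_mem.2]
    by_cases hwv' : w' ∈ zpowers v
    · refine ⟨w * w', Or.inl (mul_mem hw ?_), es⟩
      rcases zv h hwv' with rfl | rfl
      exacts [W.one_mem, h.v_mem.1]
    exfalso
    obtain ⟨a, ha, b, hb, hne⟩ := h.nc
    have gen : ∀ {X : Subgroup G}, Nat.card X = 4 → (∀ y ∈ X, y * y = 1) → v ∈ X → ∀ x ∈ X, x ∉ zpowers v →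
        ∀ y ∈ X, y ∈ Subgroup.closure ({v, x} : Set G) := by
      intro X hX hsq hv x hx hxv y hy
      let Y := Subgroup.closure ({v, x} : Set G)
      have hY : Y ≤ X := (closure_le _).2 (by rintro a (rfl | rfl) <;> assumption)
      suffices e : Y = X by
        show y ∈ Y
        rw [e]
        exact hy
      have hlt : zpowers v < Y := lt_of_le_of_ne (zpowers_le.2 (subset_closure (by simp))) fun e =>
        hxv (e ▸ subset_closure (by simp))
      have hv2 : Nat.card (zpowers v) = 2 := by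
        rw [Nat.card_zpowers]; exact orderOf_eq_prime (by rw [pow_two]; exact hsq v hv) h.v_ne
      obtain ⟨q, hq⟩ := card_dvd_of_le hlt.le
      have h3 := card_le_of_le hY
      have h4 : 2 < Nat.card Y := hv2 ▸ lt_of_le_of_ne (card_le_of_le hlt.le) fun e =>
        hlt.ne (eq_of_le_of_card_ge hlt.le e.ge)
      rw [hv2] at hq
      rw [hX] at h3
      exact eq_of_le_of_card_ge hY (by rw [hX]; omega)
    refine hne ?_
    have hab : Commute a b := by
      have hb' := gen h.cardW' h.sqW' h.v_mem.2 w' hw' hwv' b hb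
      have ha' := gen h.cardW h.sqW h.v_mem.1 w hw hwv a ha
      have h1 : Subgroup.closure ({v, w'} : Set G) ≤ centralizer ({w} : Set G) := (closure_le _).2 (by
        rintro y (rfl | rfl) <;> rw [SetLike.mem_coe, mem_centralizer_singleton_iff]
        · exact (comm_of_sq h.sqW hw h.v_mem.1).symm
        · exact hcomm.symm)
      have h2 : Subgroup.closure ({v, w} : Set G) ≤ centralizer ({b} : Set G) := (closure_le _).2 (by
        rintro y (rfl | rfl) <;> rw [SetLike.mem_coe, mem_centralizer_singleton_iff]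
        · exact comm_of_sq h.sqW' h.v_mem.2 hb
        · exact (mem_centralizer_singleton_iff.1 (h1 hb')).symm)
      exact mem_centralizer_singleton_iff.1 (h2 ha')
    exact commutatorElement_eq_one_iff_commute.2 hab
  obtain ⟨u, hu, esu⟩ := hws
  obtain ⟨m, hm⟩ := h.move u hu d hd
  rw [← esu] at hm
  set e := m * s * m⁻¹ with hedef
  have hDv : D ⊔ zpowers v ≤ B := sup_le h.D_le (zpowers_le.2 (v_B h))
  have heB : e ∈ B := hDv hm
  have hecent : ∀ b ∈ B, e * b * e⁻¹ * b⁻¹ ∈ K := by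
    intro b hb
    have he' : e ∈ (D : Set G) * (zpowers v : Set G) := by
      rw [← coe_mul_of_left_le_normalizer_right _ _ (fun x hx => by
        rw [mem_normalizer_iff]
        have hxv : x * v = v * x := v_comm h (h.D_le hx)
        have : ∀ y, y ∈ zpowers v → x * y * x⁻¹ = y := fun y hy => by
          rcases zv h hy with rfl | rfl
          · group
          · rw [hxv, mul_inv_cancel_right]
        intro y
        refine ⟨fun hy => (this y hy).symm ▸ hy, fun hy => ?_⟩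
        have h5 : x * (x * y * x⁻¹) * x⁻¹ = x * y * x⁻¹ := this _ hy
        have h6 : x * y * x⁻¹ = y := (MulAut.conj x).injective h5
        exact h6 ▸ hy)]
      exact hm
    obtain ⟨d', hd', y, hy, ey⟩ := he'
    have hyb : y * b = b * y := by
      rcases zv h hy with rfl | rfl
      · rw [one_mul, mul_one]
      · exact (v_comm h hb).symm
    rw [← ey, show d' * y * b * (d' * y)⁻¹ * b⁻¹ = d' * (y * b) * y⁻¹ * d'⁻¹ * b⁻¹ by group, hyb,
      ← mul_assoc d' b y, mul_inv_cancel_right]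
    exact D_central h hd' hb
  have hcls : ∀ b ∈ B, e * b * e⁻¹ * b⁻¹ = 1 ∨ e * b * e⁻¹ * b⁻¹ = t * v * t⁻¹ := by
    intro b hb
    have hbt : ∀ {y : G}, y ∈ B → t⁻¹ * y * t ∈ B := fun hy => by
      have := conj_B h (inv_mem ht) hy
      rwa [inv_inv] at this
    have hfour := double h ht htB (comm_inN h heB hb) (by
      rw [show t⁻¹ * (e * b * e⁻¹ * b⁻¹) * t =
        t⁻¹ * e * t * (t⁻¹ * b * t) * (t⁻¹ * e * t)⁻¹ * (t⁻¹ * b * t)⁻¹ by group]
      exact comm_inN h (hbt heB) (hbt hb))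
    have hK := hecent b hb
    rcases hfour with e1 | e1 | e1 | e1
    · exact Or.inl e1
    · exact absurd (h.K_le (e1 ▸ hK)) (v_not_D h)
    · exact Or.inr e1
    · exfalso
      have h1 := mul_mem (e1 ▸ hK) (inv_mem (vt_mem h ht htB).1)
      rw [mul_inv_cancel_right] at h1
      exact v_not_D h (h.K_le h1)
  -- the centralizer of e in B has index at most two
  have hidx : Nat.card B ≤ 2 * Nat.card (B ⊓ centralizer ({e} : Set G) : Subgroup G) := by
    classical
    let CB := B ⊓ centralizer ({e} : Set G)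
    let f : B → Bool := fun b => decide (e * (b : G) * e⁻¹ * (b : G)⁻¹ = 1)
    have hsame : ∀ a b : B, f a = f b → (a : G)⁻¹ * b ∈ CB := by
      intro a b hab
      refine ⟨B.mul_mem (B.inv_mem a.2) b.2, mem_centralizer_singleton_iff.2 ?_⟩
      have hq : e * (a : G) * e⁻¹ * (a : G)⁻¹ = e * (b : G) * e⁻¹ * (b : G)⁻¹ := by
        simp only [f, decide_eq_decide] at hab
        rcases hcls a a.2 with h1 | h1 <;> rcases hcls b b.2 with h3 | h3
        · rw [h1, h3]
        · rw [h1, hab.1 h1]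
        · rw [h3, hab.2 h3]
        · rw [h1, h3]
      set q := e * (b : G) * e⁻¹ * (b : G)⁻¹ with hqdef
      have e1 : e * (a : G) = q * a * e := by rw [← hq]; group
      have e2 : e * (b : G) = q * b * e := by rw [hqdef]; group
      symm
      calc e * ((a : G)⁻¹ * b) = e * (a : G)⁻¹ * e⁻¹ * (e * b) := by group
        _ = (e * (a : G) * e⁻¹)⁻¹ * (q * b * e) := by rw [e2]; group
        _ = (q * a * e * e⁻¹)⁻¹ * (q * b * e) := by rw [e1]
        _ = (a : G)⁻¹ * b * e := by group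
    have hF : ∀ c : Bool, ∃ r : B, ∀ b : B, f b = c → f r = c := fun c => by
      by_cases hh : ∃ b : B, f b = c
      · obtain ⟨r, hr⟩ := hh
        exact ⟨r, fun _ _ => hr⟩
      · exact ⟨1, fun b hb => absurd ⟨b, hb⟩ hh⟩
    choose r hr using hF
    let F : B → Bool × CB := fun b => (f b, ⟨((r (f b)) : G)⁻¹ * b, hsame _ _ (hr _ b rfl)⟩)
    have hFinj : Function.Injective F := fun a b hab => by
      have h1 : f a = f b := congrArg Prod.fst hab
      have h3 : ((r (f a)) : G)⁻¹ * a = ((r (f b)) : G)⁻¹ * b := congrArg (fun p => (p.2 : G)) hab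
      rw [h1] at h3
      exact Subtype.ext (mul_left_cancel h3)
    have := Nat.card_le_card_of_injective F hFinj
    rwa [Nat.card_prod, Nat.card_eq_fintype_card (α := Bool), Fintype.card_bool] at this
  -- the centralizer of t in T is small
  set CT := (T : Subgroup G) ⊓ centralizer ({t} : Set G) with hCT
  have hB2 : IsPGroup 2 (B ⊓ centralizer ({e} : Set G) : Subgroup G) := T.2.to_le (inf_le_left.trans h.B_le)
  have hA : Nat.card (B ⊓ centralizer ({e} : Set G) : Subgroup G) ≤ Nat.card CT := by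
    set A := (B ⊓ centralizer ({e} : Set G)).map (MulAut.conj (m * g)⁻¹).toMonoidHom with hAdef
    have hle : A ≤ centralizer ({t} : Set G) := by
      rintro _ ⟨y, ⟨-, hy⟩, rfl⟩
      rw [mem_centralizer_singleton_iff]
      have hy' := mem_centralizer_singleton_iff.1 hy
      have het : e = (m * g) * t * (m * g)⁻¹ := by rw [hedef, hsdef]; group
      simp only [MulEquiv.coe_toMonoidHom, MulAut.conj_apply, inv_inv]
      calc (m * g)⁻¹ * y * (m * g) * t = (m * g)⁻¹ * (y * ((m * g) * t * (m * g)⁻¹)) * (m * g) := by group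
        _ = (m * g)⁻¹ * ((m * g) * t * (m * g)⁻¹ * y) * (m * g) := by rw [← het, hy']
        _ = t * ((m * g)⁻¹ * y * (m * g)) := by group
    have := sylow_centralizer h ht htB h2 (hB2.map _) hle
    rwa [Transfer.Fusion.card_map_conj] at this
  have hCB : Nat.card CT ≤ 2 * Nat.card (B ⊓ centralizer ({t} : Set G) : Subgroup G) := by
    classical
    let CB := B ⊓ centralizer ({t} : Set G)
    let F : CT → Bool × CB := fun c => if hc : (c : G) ∈ B then (true, ⟨c, hc, c.2.2⟩) else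
      (false, ⟨t⁻¹ * c, index_two h ht htB c.2.1 hc,
        (centralizer ({t} : Set G)).mul_mem ((centralizer ({t} : Set G)).inv_mem (mem_centralizer_singleton_iff.2 rfl)) c.2.2⟩)
    have hFinj : Function.Injective F := fun a b hab => by
      simp only [F] at hab
      by_cases ha : (a : G) ∈ B <;> by_cases hb : (b : G) ∈ B
      · rw [dif_pos ha, dif_pos hb] at hab
        exact Subtype.ext (congrArg (fun p => (p.2 : G)) hab)
      · rw [dif_pos ha, dif_neg hb] at hab
        exact Bool.noConfusion (congrArg Prod.fst hab)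
      · rw [dif_neg ha, dif_pos hb] at hab
        exact Bool.noConfusion (congrArg Prod.fst hab)
      · rw [dif_neg ha, dif_neg hb] at hab
        exact Subtype.ext (mul_left_cancel (congrArg (fun p => (p.2 : G)) hab))
    have := Nat.card_le_card_of_injective F hFinj
    rwa [Nat.card_prod, Nat.card_eq_fintype_card (α := Bool), Fintype.card_bool] at this
  have hmulK : Nat.card (B ⊓ centralizer ({t} : Set G) : Subgroup G) * Nat.card K ≤ Nat.card B := by
    rw [← Nat.card_prod]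
    refine Nat.card_le_card_of_injective (fun p => (⟨(p.1 : G) * p.2, mul_mem p.1.2.1 (h.D_le (h.K_le p.2.2))⟩ : B)) ?_
    rintro ⟨a, k⟩ ⟨b, l⟩ hab
    have e1 : (a : G) * k = (b : G) * l := congrArg Subtype.val hab
    have hb' : (b : G)⁻¹ * a = (l : G) * (k : G)⁻¹ := by
      rw [eq_mul_inv_iff_mul_eq, mul_assoc, e1, inv_mul_cancel_left]
    have hc : (b : G)⁻¹ * a ∈ centralizer ({t} : Set G) := (centralizer ({t} : Set G)).mul_mem ((centralizer ({t} : Set G)).inv_mem b.2.2) a.2.2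
    have h1 := inter h ht htB (k := (l : G) * (k : G)⁻¹) (mul_mem l.2 (inv_mem k.2)) (by
      rw [← hb', mul_assoc, mem_centralizer_singleton_iff.1 hc, inv_mul_cancel_left, hb']
      exact mul_mem l.2 (inv_mem k.2))
    rw [h1] at hb'
    have hab' : (b : G) = a := inv_mul_eq_one.1 hb'
    refine Prod.ext (Subtype.ext hab'.symm) (Subtype.ext ?_)
    exact (mul_inv_eq_one.1 h1).symm
  have h8 := card_R_le h ht htB
  have hpos : 0 < Nat.card (B ⊓ centralizer ({t} : Set G) : Subgroup G) := Nat.card_pos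
  nlinarith

end

end Cfsg.Agent.QTTwoMax.FinalProof

namespace Cfsg.Agent.QTTwoMax

open scoped commutatorElement

variable {G : Type*} [Group G] [Finite G] {T : Sylow 2 G} {B K D W W' : Subgroup G} {v z : G}

/-- The last configuration is impossible. -/
theorem FinalData.false [IsSimpleGroup G] (h : FinalData T B K D W W' v z) : False := by
  refine FinalProof.final h ?_
  rcases IsSimpleGroup.eq_bot_or_eq_top_of_normal (commutator G) inferInstance with e | e
  · exfalso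
    refine h.na ⟨⟨fun a b => ?_⟩⟩
    have : ⁅a, b⁆ ∈ commutator G := Subgroup.commutator_mem_commutator (Subgroup.mem_top a) (Subgroup.mem_top b)
    rw [e, Subgroup.mem_bot] at this
    exact commutatorElement_eq_one_iff_commute.1 this
  · exact e

end Cfsg.Agent.QTTwoMax
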