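import Cfsg.Agent.S3035
import Cfsg.Agent.S3309
import Cfsg.Agent.Lib.QTCentZ.Core
import Cfsg.Agent.Lib.Cores.Basic
import Cfsg.Agent.Lib.Classical.Linear

/-!
A simple group with Sylow `2`-subgroup `D₈` or `2 × D₈` equal to the centralizer of `Ω₁Z`.
-/

set_option autoImplicit false
set_option linter.unusedSectionVars false
set_option linter.style.haveILetI false

namespace Cfsg.Agent.QTTwoMax

open Subgroup Cfsg

theorem dihedral_four_center : ∀ p : DihedralGroup 4, (∀ q : DihedralGroup 4, p * q = q * p) →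
    p = 1 ∨ p = DihedralGroup.r 2 := by decide

theorem dihedral_four_central : ∀ q : DihedralGroup 4,
    DihedralGroup.r 2 * q = q * DihedralGroup.r 2 := by decide

theorem not_simple_perm (n : ℕ) (hn : 3 ≤ n) {G : Type*} [Group G] [IsSimpleGroup G]
    (e : G ≃* Equiv.Perm (Fin n)) : False := by
  haveI : Nontrivial (Fin n) := Fin.nontrivial_iff_two_le.2 (by omega)
  haveI : IsSimpleGroup (Equiv.Perm (Fin n)) := e.symm.isSimpleGroup
  rcases (alternatingGroup.normal (α := Fin n)).eq_bot_or_eq_top with h | h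
  · have h1 := two_mul_nat_card_alternatingGroup (α := Fin n)
    rw [h, card_bot, Nat.card_perm, Nat.card_fin] at h1
    have := Nat.factorial_le hn
    simp [Nat.factorial] at this
    omega
  · have h1 := two_mul_nat_card_alternatingGroup (α := Fin n)
    rw [h, card_top] at h1
    have : 0 < Nat.card (Equiv.Perm (Fin n)) := Nat.card_pos
    omega

theorem ident {G : Type*} [Group G] [Finite G] [IsSimpleGroup G] (hna : ¬ IsMulCommutative G)
    (T : Sylow 2 G) (hcz : QTCentZ.cz T = (T : Subgroup G))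
    (h : Nonempty (↥(T : Subgroup G) ≃* DihedralGroup 4) ∨
      Nonempty (↥(T : Subgroup G) ≃* Multiplicative (ZMod 2) × DihedralGroup 4)) :
    (∃ (F : Type) (_ : Field F) (_ : Fintype F), Fintype.card F = 2 ∧
        Nonempty (G ≃* Matrix.ProjectiveSpecialLinearGroup (Fin 3) F)) ∨
      Nonempty (G ≃* ↥(alternatingGroup (Fin 6))) := by
  classical
  haveI : Fact (Nat.Prime 2) := ⟨Nat.prime_two⟩
  rcases h with ⟨⟨e⟩⟩ | h
  swap
  · exact (S3309.result T h hna).elim
  set z : G := ((e.symm (DihedralGroup.r 2) : ↥(T : Subgroup G)) : G) with hz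
  have hz2 : orderOf z = 2 := by
    rw [hz, Subgroup.orderOf_coe, MulEquiv.orderOf_eq]
    exact orderOf_eq_prime (by decide) (by decide)
  have hcent : ∀ t ∈ (T : Subgroup G), z * t = t * z := fun t ht => by
    have h1 : e.symm (DihedralGroup.r 2) * ⟨t, ht⟩ = ⟨t, ht⟩ * e.symm (DihedralGroup.r 2) := e.injective (by
      rw [map_mul, map_mul, MulEquiv.apply_symm_apply]
      exact dihedral_four_central _)
    exact congrArg Subtype.val h1
  have hC : centralizer ({z} : Set G) = (T : Subgroup G) := by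
    refine le_antisymm ((?_ : _ ≤ QTCentZ.cz T).trans hcz.le)
      fun t ht => mem_centralizer_singleton_iff.2 (hcent t ht).symm
    intro g hg y hy
    have hy1 : y ∈ (T : Subgroup G) ⊓ centralizer ((T : Subgroup G) : Set G) :=
      (closure_le _).2 (fun _ hx => hx.1) hy
    rcases dihedral_four_center (e ⟨y, hy1.1⟩) (fun q => by
      obtain ⟨s, rfl⟩ := e.surjective q
      rw [← map_mul, ← map_mul]
      exact congrArg e (Subtype.ext (hy1.2 (s : G) s.2).symm)) with h1 | h1
    · rw [e.map_eq_one_iff] at h1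
      have hy' : y = 1 := congrArg Subtype.val h1
      rw [hy', one_mul, mul_one]
    · have h2 : (⟨y, hy1.1⟩ : ↥(T : Subgroup G)) = e.symm (DihedralGroup.r 2) := by
        rw [← h1, MulEquiv.symm_apply_apply]
      have hy' : y = z := congrArg Subtype.val h2
      rw [hy']
      exact (mem_centralizer_singleton_iff.1 hg).symm
  rcases S3035.result z hz2 (hC.symm ▸ ⟨e⟩) with h1 | ⟨⟨e4⟩⟩ | ⟨⟨e5⟩⟩ | ⟨⟨eL⟩⟩ | h6
  · exfalso
    rcases (inferInstance : (Cfsg.oddCore G).Normal).eq_bot_or_eq_top with h0 | h0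
    · rw [h0, sup_bot_eq] at h1
      have hzc : z ∈ center G := mem_center_iff.2 fun g =>
        mem_centralizer_singleton_iff.1 (h1.ge (mem_top g))
      rcases (inferInstance : (center G).Normal).eq_bot_or_eq_top with h2 | h2
      · rw [h2, mem_bot] at hzc
        rw [hzc, orderOf_one] at hz2
        omega
      · exact hna ⟨⟨fun a b => (mem_center_iff.1 (h2.ge (mem_top b)) a)⟩⟩
    · refine Cores.pPrimeCore_not_dvd (G := G) 2 ?_
      rw [show pPrimeCore 2 G = ⊤ from h0, card_top, ← hz2]
      exact orderOf_dvd_natCard z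
  · exact (not_simple_perm 4 (by norm_num) e4).elim
  · exact (not_simple_perm 5 (by norm_num) e5).elim
  · have hcen : center (Matrix.SpecialLinearGroup (Fin 3) (ZMod 2)) = ⊥ := by
      rw [← Subgroup.card_eq_one, Classical.Linear.natCard_center_SL, ZMod.card]; rfl
    exact Or.inl ⟨ZMod 2, inferInstance, inferInstance, ZMod.card 2,
      ⟨eL.trans ((QuotientGroup.quotientMulEquivOfEq hcen).trans QuotientGroup.quotientBot).symm⟩⟩
  · exact Or.inr h6

end Cfsg.Agent.QTTwoMax
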