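import Cfsg.Agent.Lib.QTTwoMax.Cor
import Cfsg.Agent.Lib.JComp.OverExist
import Cfsg.Agent.Lib.QTCentZ.Final

/-!
The components of a maximal 2-local subgroup over `T`.
-/

set_option autoImplicit false
set_option linter.unusedSectionVars false
set_option linter.style.haveILetI false

namespace Cfsg.Agent.QTTwoMax

open Subgroup Cfsg Cfsg.Agent.CharP Cfsg.Agent.JComp
open scoped commutatorElement

universe u

variable {G : Type u} [Group G] [Finite G] {T : Sylow 2 G}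

/-- A maximal 2-local subgroup over `T`. -/
def Mx (T : Sylow 2 G) (M : Subgroup G) : Prop := IsMaximalTwoLocal M ∧ (T : Subgroup G) ≤ M

/-- The setting: `C(Ω₁Z(T)) = T` and at least two maximal 2-local subgroups over `T`. -/
structure Ctx (T : Sylow 2 G) : Prop where
  quasi : IsQuasithin G
  cz : QTCentZ.cz T = (T : Subgroup G)
  hyp : ∀ M, Mx T M → QTCentZ.Hyp T M
  two : ∃ M M', Mx T M ∧ Mx T M' ∧ M ≠ M'

/-- `B = C_T(Ω₁Z(J(T)))`. -/
abbrev Bm (T : Sylow 2 G) : Subgroup G :=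
  (T : Subgroup G) ⊓ centralizer (Z0 (T : Subgroup G) : Set G)

namespace Ctx

variable (c : Ctx T)
include c

theorem frame : Frame (T : Subgroup G) (Bm T) :=
  ⟨T.isPGroup', rfl, (centralizer_le (SetLike.coe_subset_coe.2
    (omegaCenterOf_le_Z0 (T : Subgroup G)))).trans c.cz.le⟩

theorem sylIn {M : Subgroup G} (hM : (T : Subgroup G) ≤ M) : IsSylIn 2 (T : Subgroup G) M :=
  (isSylIn_top_iff.2 ⟨T, rfl⟩).mono hM le_top

theorem core_ne {M : Subgroup G} (hM : Mx T M) : Qk M ≠ ⊥ := QTCentZ.Hyp.core_ne hM.1.1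

theorem eq_norm_core {M : Subgroup G} (hM : Mx T M) : normalizer (Qk M : Set G) = M :=
  hM.1.2 _ ⟨_, isPGroup_pCoreOf 2 M, c.core_ne hM, rfl⟩ (le_normalizer_pCoreOf 2 M)

/-- A maximal 2-local subgroup over `T` is determined by a nontrivial normal 2-subgroup. -/
theorem norm_eq {M R : Subgroup G} (hM : Mx T M) (hR : IsPGroup 2 ↥R) (hR1 : R ≠ ⊥)
    (hn : M ≤ normalizer (R : Set G)) : normalizer (R : Set G) = M :=
  hM.1.2 _ ⟨R, hR, hR1, rfl⟩ hn

theorem eq_of_norm {M N R : Subgroup G} (hM : Mx T M) (hN : Mx T N) (hR : IsPGroup 2 ↥R)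
    (hR1 : R ≠ ⊥) (h : M ≤ normalizer (R : Set G)) (h' : N ≤ normalizer (R : Set G)) : M = N :=
  (c.norm_eq hM hR hR1 h).symm.trans (c.norm_eq hN hR hR1 h')

theorem exists_max {R : Subgroup G} (hR : IsPGroup 2 ↥R) (hR1 : R ≠ ⊥)
    (hT : (T : Subgroup G) ≤ normalizer (R : Set G)) :
    ∃ N, Mx T N ∧ normalizer (R : Set G) ≤ N := by
  obtain ⟨N, ⟨hN, hle⟩, hmax⟩ := Set.exists_max_image
    {N : Subgroup G | IsTwoLocal N ∧ normalizer (R : Set G) ≤ N} (fun N => Nat.card N)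
    (Set.toFinite _) ⟨_, ⟨R, hR, hR1, rfl⟩, le_rfl⟩
  exact ⟨N, ⟨⟨hN, fun N' h' hNN' =>
    (eq_of_le_of_card_ge hNN' (hmax N' ⟨h', hle.trans hNN'⟩)).symm⟩, hT.trans hle⟩, hle⟩

theorem inf_cent_hull {M : Subgroup G} (hM : Mx T M) :
    Qk M = M ⊓ centralizer (QTCentZ.hull T M : Set G) := by
  refine le_antisymm (le_inf (pCoreOf_le 2 M) (c.hyp M hM).core_cent)
    (le_pCoreOf inf_le_left ?_ (T.isPGroup'.to_le (inf_le_right.trans
      (QTCentZ.Hyp.cent_le.trans c.cz.le))))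
  exact (le_inf le_normalizer (QTCentZ.Hyp.le_normalizer_hull.trans
    (normalizer_le_normalizer_centralizer' _))).trans (normalizer_inf_le_normalizer_inf _ _)

/-- The overgroup data of a maximal 2-local subgroup moved by `J(T)`. -/
theorem exists_ovg {M : Subgroup G} (hM : Mx T M) (hJ : ¬ Jt (T : Subgroup G) ≤ Qk M) :
    ∃ Ws E, Ovg (T : Subgroup G) M (QTCentZ.hull T M) (Qk M) Ws E := by
  have h := c.hyp M hM
  have hsyl := isSylowTwoIn_iff.2 (c.sylIn hM.2)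
  have hVQ : QTCentZ.hull T M ≤ omegaCenterOf (Qk M) := h.hull_le
  have hVe : IsElementaryAbelian 2 (QTCentZ.hull T M) :=
    PLocal.ThompsonSubgroup.IsElementaryAbelian.mono (elem_omegaCenterOf _) hVQ
  have hVL : QTCentZ.hull T M ≤ M := hVQ.trans ((omegaCenterOf_le _).trans (pCoreOf_le 2 M))
  have hQn : M ≤ normalizer (Qk M : Set G) := le_normalizer_pCoreOf 2 M
  have hcent : centralizer (Qk M : Set G) ≤ Qk M := fun g hg =>
    h.charP ⟨(c.eq_norm_core hM).le (centralizer_le_normalizer _ hg), hg⟩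
  have hO : ∀ N : Subgroup G, Qk M ≤ N → N ≤ M → M ≤ normalizer (N : Set G) →
      (∃ k, (Qk M).relIndex N = 2 ^ k) → N ≤ Qk M := by
    rintro N hQN hNM hNn ⟨k, hk⟩
    obtain ⟨n, hn⟩ := IsPGroup.iff_card.1 (isPGroup_pCoreOf 2 M)
    refine le_pCoreOf hNM hNn (IsPGroup.of_card (n := n + k) ?_)
    rw [← card_mul_relIndex' hQN, hk, hn, pow_add]
  obtain ⟨Ws, E, hb⟩ := exists_blocks hsyl h.solvable hVL
    QTCentZ.Hyp.le_normalizer_hull hVe (c.inf_cent_hull hM) hO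
  refine ⟨Ws, E, hsyl, hJ, hcent, hVQ, pCoreOf_le 2 M, h.core_cent, hQn, le_rfl, ?_, ?_, ?_, hb⟩
  · intro x hx t ht
    rw [commutatorElement_def, show x * t * x⁻¹ * t⁻¹ = x * (t * x⁻¹ * t⁻¹) by group]
    exact mul_mem hx (conj_mem_normalizer (hQn (hM.2 ht)) (inv_mem hx))
  · exact fun P _ hP => hP
  · exact h.core_le.trans (le_normalizer_J _)

/-- Three independent commuting elements of order three modulo the core are impossible. -/
theorem no_threes {M : Subgroup G} (hM : Mx T M) {a b d : G} (ha : a ∈ M) (hb : b ∈ M) (hd : d ∈ M)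
    (ha3 : a * a * a ∈ Qk M) (hb3 : b * b * b ∈ Qk M) (hd3 : d * d * d ∈ Qk M)
    (hab : ⁅a, b⁆ ∈ Qk M) (had : ⁅a, d⁆ ∈ Qk M) (hbd : ⁅b, d⁆ ∈ Qk M) (haQ : a ∉ Qk M)
    {H₁ H₂ : Subgroup G} (hQ₁ : Qk M ≤ H₁) (ha₁ : a ∈ H₁) (hb₁ : b ∉ H₁)
    (hQ₂ : Qk M ≤ H₂) (ha₂ : a ∈ H₂) (hb₂ : b ∈ H₂) (hd₂ : d ∉ H₂) : False := by
  haveI : Fact (Nat.Prime 3) := ⟨Nat.prime_three⟩
  set N := pCore 2 ↥M
  have hmem : ∀ {g : M}, g ∈ N ↔ (g : G) ∈ Qk M := fun {g} =>
    ⟨fun h => ⟨g, h, rfl⟩, fun ⟨y, hy, e⟩ => Subtype.ext (e : (y : G) = g) ▸ hy⟩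
  set π := QuotientGroup.mk' N with hπ
  have hone : ∀ {g : M}, π g = 1 ↔ (g : G) ∈ Qk M := fun {g} =>
    (QuotientGroup.eq_one_iff g).trans hmem
  set α := π ⟨a, ha⟩
  set β := π ⟨b, hb⟩
  set δ := π ⟨d, hd⟩
  have hcube : ∀ {g : G} (hg : g ∈ M), g * g * g ∈ Qk M → π ⟨g, hg⟩ ^ 3 = 1 := fun {g} hg h => by
    rw [← map_pow, hone]
    simpa [pow_succ] using h
  have hcomm : ∀ {g k : G} (hg : g ∈ M) (hk : k ∈ M), ⁅g, k⁆ ∈ Qk M →
      Commute (π ⟨g, hg⟩) (π ⟨k, hk⟩) := fun {g k} hg hk h => by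
    refine commutatorElement_eq_one_iff_mul_comm.1 ?_
    rw [← map_commutatorElement, hone]
    exact h
  have hlift : ∀ {H : Subgroup G}, Qk M ≤ H → ∀ {S : Subgroup (↥M ⧸ N)},
      S ≤ (H.subgroupOf M).map π → ∀ {g : G} (hg : g ∈ M), π ⟨g, hg⟩ ∈ S → g ∈ H := by
    intro H hQH S hS g hg h
    obtain ⟨y, hy, e⟩ := hS h
    have h1 : ((⟨g, hg⟩ : M)⁻¹ * y) ∈ N := QuotientGroup.eq.1 e.symm
    have h2 := mul_mem (mem_subgroupOf.1 hy) (inv_mem (hQH (hmem.1 h1)))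
    simpa [mul_assoc] using h2
  set S1 := zpowers α
  set S2 := S1 ⊔ zpowers β
  set S3 := S2 ⊔ zpowers δ
  have hα : orderOf α = 3 := orderOf_eq_prime (hcube ha ha3) fun h => haQ (hone.1 h)
  have hS1 : S1 ≤ (H₁.subgroupOf M).map π := zpowers_le.2 ⟨⟨a, ha⟩, ha₁, rfl⟩
  have hS2 : S2 ≤ (H₂.subgroupOf M).map π :=
    sup_le (zpowers_le.2 ⟨⟨a, ha⟩, ha₂, rfl⟩) (zpowers_le.2 ⟨⟨b, hb⟩, hb₂, rfl⟩)
  have hinf : ∀ {S : Subgroup (↥M ⧸ N)} {x : ↥M ⧸ N}, x ^ 3 = 1 → x ∉ S →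
      S ⊓ zpowers x = ⊥ ∧ Nat.card ↥(zpowers x) = 3 := by
    intro S x hx hxS
    have ho : orderOf x = 3 := orderOf_eq_prime hx fun e => hxS (e ▸ one_mem S)
    refine ⟨(eq_bot_iff_forall _).2 fun y hy => ?_, by rw [Nat.card_zpowers, ho]⟩
    by_contra hy1
    have h3 : Nat.card ↥(zpowers x) = 3 := by rw [Nat.card_zpowers, ho]
    have h4 : zpowers y = zpowers x := eq_of_le_of_card_ge (zpowers_le.2 hy.2) (by
      rw [h3, Nat.card_zpowers]
      have h5 : orderOf y ∣ 3 := by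
        have := (zpowers x).orderOf_dvd_natCard hy.2
        rwa [h3] at this
      rcases (Nat.dvd_prime Nat.prime_three).1 h5 with h | h
      · exact absurd (orderOf_eq_one_iff.1 h) hy1
      · omega)
    exact hxS ((zpowers_le.2 hy.1) (h4 ▸ mem_zpowers x))
  obtain ⟨i1, c1⟩ := hinf (hcube hb hb3) fun h => hb₁ (hlift hQ₁ hS1 hb h)
  obtain ⟨i2, c2⟩ := hinf (hcube hd hd3) fun h => hd₂ (hlift hQ₂ hS2 hd h)
  have hcm : ∀ {x y : ↥M ⧸ N}, Commute x y → ∀ g ∈ zpowers x, ∀ k ∈ zpowers y, g * k = k * g := by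
    intro x y hxy g hg k hk
    obtain ⟨i, rfl⟩ := mem_zpowers_iff.1 hg
    obtain ⟨j, rfl⟩ := mem_zpowers_iff.1 hk
    exact ((hxy.zpow_left i).zpow_right j).eq
  have hc12 := hcm (hcomm ha hb hab)
  have h12 := card_sup_mul_inf (le_normalizer_of_commute (A := S1) (B := zpowers β) hc12)
  have hs2δ : ∀ g ∈ S2, ∀ k ∈ zpowers δ, g * k = k * g := by
    intro g hg k hk
    obtain ⟨p, hp, q, hq, rfl⟩ := exists_mul_of_le_normalizer
      (le_normalizer_of_commute (A := S1) (B := zpowers β) hc12) hg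
    exact (Commute.mul_left (hcm (hcomm ha hd had) p hp k hk) (hcm (hcomm hb hd hbd) q hq k hk)).eq
  have h23 := card_sup_mul_inf (le_normalizer_of_commute (A := S2) (B := zpowers δ) hs2δ)
  rw [i1, card_bot, mul_one, Nat.card_zpowers, hα, c1] at h12
  rw [i2, card_bot, mul_one, h12, c2] at h23
  have hrk := QTXi.rankTwo_quotient (fun r hr hr2 => c.quasi r hr hr2 M hM.1.1) N
    (Cores.pCore_isPGroup 2) 3 Nat.prime_three (by norm_num) S3
  have hgen : ∀ g ∈ S3, ∀ k ∈ S3, g * k = k * g := by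
    intro g hg k hk
    obtain ⟨p, hp, q, hq, rfl⟩ := exists_mul_of_le_normalizer
      (le_normalizer_of_commute (A := S2) (B := zpowers δ) hs2δ) hg
    obtain ⟨p', hp', q', hq', rfl⟩ := exists_mul_of_le_normalizer
      (le_normalizer_of_commute (A := S2) (B := zpowers δ) hs2δ) hk
    have e1 : ∀ g ∈ S2, ∀ k ∈ S2, Commute g k := by
      intro g hg k hk
      obtain ⟨u, hu, w, hw, rfl⟩ := exists_mul_of_le_normalizer
        (le_normalizer_of_commute (A := S1) (B := zpowers β) hc12) hg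
      obtain ⟨u', hu', w', hw', rfl⟩ := exists_mul_of_le_normalizer
        (le_normalizer_of_commute (A := S1) (B := zpowers β) hc12) hk
      exact Commute.mul_left
        (Commute.mul_right (hcm (Commute.refl α) u hu u' hu') (hc12 u hu w' hw'))
        (Commute.mul_right (hc12 u' hu' w hw).symm (hcm (Commute.refl β) w hw w' hw'))
    exact (Commute.mul_left (Commute.mul_right (e1 p hp p' hp') (hs2δ p hp q' hq'))
      (Commute.mul_right (hs2δ p' hp' q hq).symm (hcm (Commute.refl δ) q hq q' hq'))).eq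
  have hexp : ∀ g ∈ S3, g ^ 3 = 1 := by
    intro g hg
    letI : CommGroup ↥S3 :=
      { (inferInstance : Group ↥S3) with
        mul_comm := fun x y => Subtype.ext (hgen _ x.2 _ y.2) }
    let P : Subgroup (↥M ⧸ N) := ((powMonoidHom 3 : ↥S3 →* ↥S3).ker).map S3.subtype
    have hle : S3 ≤ P := sup_le (sup_le
      (zpowers_le.2 ⟨⟨α, mem_sup_left (mem_sup_left (mem_zpowers α))⟩, Subtype.ext (hcube ha ha3), rfl⟩)
      (zpowers_le.2 ⟨⟨β, mem_sup_left (mem_sup_right (mem_zpowers β))⟩, Subtype.ext (hcube hb hb3), rfl⟩))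
      (zpowers_le.2 ⟨⟨δ, mem_sup_right (mem_zpowers δ)⟩, Subtype.ext (hcube hd hd3), rfl⟩)
    obtain ⟨y, hy, rfl⟩ := hle hg
    exact congrArg Subtype.val (hy : y ^ 3 = 1)
  have := hrk ⟨⟨fun x y => Subtype.ext (hgen _ x.2 _ y.2)⟩⟩ hexp
  rw [h23] at this
  norm_num at this

end Ctx

end Cfsg.Agent.QTTwoMax
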