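import Cfsg.Agent.Lib.QTTwoMax.Seed
import Cfsg.Agent.Lib.CharP.GoldschmidtS3
import Mathlib.GroupTheory.SpecificGroups.Dihedral

/-!
Two pieces centralising their common core.
-/

set_option autoImplicit false
set_option linter.unusedSectionVars false
set_option linter.style.haveILetI false
set_option linter.style.longLine false

namespace Cfsg.Agent.QTTwoMax

open Subgroup Cfsg Cfsg.Agent.CharP Cfsg.Agent.JComp
open scoped commutatorElement

/-- Conjugation of a `4`-cycle model of `D₈` into `S₄`. -/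
def dihPerm : DihedralGroup 4 → Equiv.Perm (Fin 4)
  | DihedralGroup.r i => (finRotate 4) ^ i.val
  | DihedralGroup.sr i => Equiv.swap 1 3 * (finRotate 4) ^ i.val

theorem dihPerm_mul : ∀ a b : DihedralGroup 4, dihPerm (a * b) = dihPerm a * dihPerm b := by decide

theorem dihPerm_inj : Function.Injective dihPerm := by decide

/-- The homomorphism. -/
def dihHom : DihedralGroup 4 →* Equiv.Perm (Fin 4) where
  toFun := dihPerm
  map_one' := by decide
  map_mul' := dihPerm_mul

theorem sylow_perm_four (U : Subgroup (Equiv.Perm (Fin 4))) (h : Nat.card ↥U = 8) :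
    Nonempty (↥U ≃* DihedralGroup 4) := by
  haveI : Fact (Nat.Prime 2) := ⟨Nat.prime_two⟩
  have h24 : Nat.card (Equiv.Perm (Fin 4)) = 24 := by
    rw [Nat.card_perm, Nat.card_fin]; rfl
  have hfac : Nat.factorization 24 2 = 3 := by
    rw [show (24 : ℕ) = 2 ^ 3 * 3 by rfl, Nat.factorization_mul (by norm_num) (by norm_num),
      Nat.Prime.factorization_pow Nat.prime_two, Nat.Prime.factorization Nat.prime_three]
    simp
  have hD : Nat.card ↥dihHom.range = 8 := by
    rw [← Nat.card_congr (MonoidHom.ofInjective (f := dihHom) dihPerm_inj).toEquiv,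
      DihedralGroup.nat_card]
  let S : Sylow 2 (Equiv.Perm (Fin 4)) := Sylow.ofCard U (by rw [h, h24, hfac]; rfl)
  let S' : Sylow 2 (Equiv.Perm (Fin 4)) := Sylow.ofCard dihHom.range (by rw [hD, h24, hfac]; rfl)
  exact ⟨(Sylow.equiv S S').trans (MonoidHom.ofInjective (f := dihHom) dihPerm_inj).symm⟩

theorem sylow_perm_four_prod (U : Subgroup (Equiv.Perm (Fin 4) × Multiplicative (ZMod 2)))
    (h : Nat.card ↥U = 16) : Nonempty (↥U ≃* Multiplicative (ZMod 2) × DihedralGroup 4) := by
  haveI : Fact (Nat.Prime 2) := ⟨Nat.prime_two⟩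
  have h48 : Nat.card (Equiv.Perm (Fin 4) × Multiplicative (ZMod 2)) = 48 := by
    rw [Nat.card_prod, Nat.card_perm, Nat.card_fin, Nat.card_eq_fintype_card, Fintype.card_multiplicative, ZMod.card]
    rfl
  have hfac : Nat.factorization 48 2 = 4 := by
    rw [show (48 : ℕ) = 2 ^ 4 * 3 by rfl, Nat.factorization_mul (by norm_num) (by norm_num),
      Nat.Prime.factorization_pow Nat.prime_two, Nat.Prime.factorization Nat.prime_three]
    simp
  let g := dihHom.prodMap (MonoidHom.id (Multiplicative (ZMod 2)))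
  have hg : Function.Injective g := fun a b e => by
    rw [MonoidHom.coe_prodMap, Prod.map_apply, Prod.map_apply, Prod.mk.injEq] at e
    obtain ⟨e1, e2⟩ := e
    exact Prod.ext (dihPerm_inj e1) e2
  have hD : Nat.card ↥g.range = 16 := by
    rw [← Nat.card_congr (MonoidHom.ofInjective hg).toEquiv, Nat.card_prod, DihedralGroup.nat_card,
      Nat.card_eq_fintype_card, Fintype.card_multiplicative, ZMod.card]
  let S : Sylow 2 (Equiv.Perm (Fin 4) × Multiplicative (ZMod 2)) :=
    Sylow.ofCard U (by rw [h, h48, hfac]; rfl)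
  let S' : Sylow 2 (Equiv.Perm (Fin 4) × Multiplicative (ZMod 2)) :=
    Sylow.ofCard g.range (by rw [hD, h48, hfac]; rfl)
  exact ⟨((Sylow.equiv S S').trans (MonoidHom.ofInjective hg).symm).trans MulEquiv.prodComm⟩

section Quotient

variable {G : Type*} [Group G] [Finite G] {Q : Type*} [Group Q] {N : Subgroup G} (π : ↥N →* Q)

theorem qIm_relIndex {X Y : Subgroup G} (hYN : Y ≤ N) (hker : π.ker ≤ X.subgroupOf N) :
    (qIm π X).relIndex (qIm π Y) = X.relIndex Y := by
  rw [qIm, qIm, ← relIndex_comap, comap_map_eq_self hker, relIndex_subgroupOf hYN]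

theorem qIm_inf {X Y : Subgroup G} (hker : π.ker ≤ X.subgroupOf N) :
    qIm π (X ⊓ Y) = qIm π X ⊓ qIm π Y := by
  refine le_antisymm (le_inf (qIm_mono π inf_le_left) (qIm_mono π inf_le_right)) ?_
  rintro _ ⟨hx, y, hy, rfl⟩
  have h1 : y ∈ ((X.subgroupOf N).map π).comap π := Subgroup.mem_comap.2 hx
  rw [comap_map_eq_self hker] at h1
  exact mem_map_of_mem π (mem_subgroupOf.2 (Subgroup.mem_inf.2 ⟨h1, hy⟩))

end Quotient

variable {G : Type*} [Group G] [Finite G] {T B K K' : Subgroup G}

theorem Piece.W_le_Qc (p : Piece T B K) (f : Frame T B) : wOf K ≤ Qc B K :=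
  (wOf_le_Qk K).trans (p.Qk_le_Qc f)

/-- A nontrivial element of `W` is not centralised by `x` modulo a subgroup meeting `W` trivially. -/
theorem Piece.not_central_mod (p : Piece T B K) {C : Subgroup G} (hWC : wOf K ⊓ C = ⊥) {x w : G}
    (hx : x ∈ K) (hxo : orderOf x = 3) (hw : w ∈ wOf K) (hc : ⁅x, w⁆ ∈ C) : w = 1 := by
  refine comp_fixed_W p.comp hx hxo hw (commutatorElement_eq_one_iff_mul_comm.1 ?_)
  have h : ⁅x, w⁆ ∈ wOf K := by
    rw [commutatorElement_def]
    exact mul_mem (conj_mem_normalizer (normalizer_le_normalizer_wOf K (le_normalizer hx)) hw)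
      (inv_mem hw)
  exact mem_bot.1 (hWC ▸ Subgroup.mem_inf.2 ⟨h, hc⟩)

/-- Both pieces centralising the core: `S₄` or `S₄ × 2`. -/
theorem both_central (f : Frame T B) (p : Piece T B K) (p' : Piece T B K')
    (h : K ≤ centralizer (cor B K K' : Set G)) (h' : K' ≤ centralizer (cor B K K' : Set G)) :
    Qk K = wOf K ∧ (cor B K K').relIndex B ≤ 16 ∧
      (cor B K K' = ⊥ → Nonempty (↥B ≃* DihedralGroup 4) ∨
        Nonempty (↥B ≃* Multiplicative (ZMod 2) × DihedralGroup 4)) := by
  classical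
  set C := cor B K K' with hC
  have hCB : C ≤ B := cor_le
  have hWC : ∀ {L : Subgroup G}, Piece T B L → L ≤ centralizer (C : Set G) → wOf L ⊓ C = ⊥ := by
    intro L q hL
    refine (eq_bot_iff_forall _).2 fun w hw => ?_
    obtain ⟨x, hx, hxo⟩ := comp_exists_three q.comp
    exact comp_fixed_W q.comp hx hxo hw.1 (hL hx w hw.2).symm
  have hW := hWC p h
  set N := B ⊔ K ⊔ K' with hN
  have hBN : B ≤ N := le_sup_left.trans le_sup_left
  have hKN : K ≤ N := le_sup_right.trans le_sup_left
  have hK'N : K' ≤ N := le_sup_right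
  have hCN : C ≤ N := hCB.trans hBN
  haveI : (C.subgroupOf N).Normal := normal_subgroupOf_of_le_normalizer le_normalizer_cor
  set π := QuotientGroup.mk' (C.subgroupOf N) with hπdef
  have hπ : Function.Surjective π := QuotientGroup.mk'_surjective _
  have hker : ∀ {X : Subgroup G}, C ≤ X → π.ker ≤ X.subgroupOf N := fun h => by
    rw [hπdef, QuotientGroup.ker_mk']; exact comap_mono h
  set H := K ⊔ B with hH
  set H' := K' ⊔ B with hH'
  have hHN : H ≤ N := sup_le hKN hBN
  have hH'N : H' ≤ N := sup_le hK'N hBN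
  have hHH' : H ⊓ H' = B := by
    have hBi : B ≤ H ⊓ H' := le_inf le_sup_right le_sup_right
    have h2 := relIndex_mul_relIndex B (H ⊓ H') H hBi inf_le_left
    rw [p.index_H f] at h2
    rcases (Nat.dvd_prime Nat.prime_three).1 (Dvd.intro_left _ h2) with e | e
    · exfalso
      have hle : H ≤ H' := (relIndex_eq_one.1 e).trans inf_le_right
      have he : H = H' := eq_of_le_of_card_ge hle (by rw [p.card_H f, p'.card_H f])
      have hQC : Qc B K ≤ C := by
        refine le_cor inf_le_left (le_sup_right.trans (p.H_norm_Qc f))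
          (le_sup_left.trans (p.H_norm_Qc f)) ?_
        exact (le_sup_left.trans (he.ge)).trans (p.H_norm_Qc f)
      have hbot : wOf K = ⊥ := by
        rw [← hW, eq_comm, inf_eq_left]
        exact (p.W_le_Qc f).trans hQC
      have := comp_wcard p.comp
      rw [hbot, card_bot] at this
      omega
    · rw [e] at h2
      exact le_antisymm (relIndex_eq_one.1 (by omega)) hBi
  set Bb := qIm π B with hBb
  have hB2 : IsPGroup 2 ↥Bb := (f.pB.comap_subtype (K := N)).map π
  have hinf : qIm π H ⊓ qIm π H' = Bb := by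
    rw [← qIm_inf π (hker (hCB.trans le_sup_right)), hHH']
  have hgen : qIm π H ⊔ qIm π H' = ⊤ := by
    have htop : (H ⊔ H').subgroupOf N = ⊤ := subgroupOf_eq_top.2 ?_
    · rw [← qIm_sup π hHN hH'N, qIm, htop, ← MonoidHom.range_eq_map,
        MonoidHom.range_eq_top.2 hπ]
    exact sup_le (sup_le (le_sup_right.trans le_sup_left) (le_sup_left.trans le_sup_left))
      (le_sup_left.trans le_sup_right)
  have hfaith : ∀ U : Subgroup (↥N ⧸ C.subgroupOf N), U ≤ qIm π H ⊓ qIm π H' → U.Normal → U = ⊥ := by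
    intro U hU hn
    haveI := hn
    have hle : qPre π U ≤ C := le_cor (qPre_le π (hU.trans hinf.le) (hker hCB))
      (qPre_norm π hBN le_normalizer_of_normal) (qPre_norm π hKN le_normalizer_of_normal)
      (qPre_norm π hK'N le_normalizer_of_normal)
    rw [← qIm_qPre π hπ U, eq_bot_iff]
    refine (qIm_mono π hle).trans ?_
    rw [qIm, hπdef, QuotientGroup.map_mk'_self]
  -- the data at one side
  have side : ∀ {L : Subgroup G}, Piece T B L → L ≤ centralizer (C : Set G) → L ≤ N →
      C ≤ Qc B L →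
      IsSylIn 2 Bb (qIm π (L ⊔ B)) ∧ Bb.relIndex (qIm π (L ⊔ B)) = 3 ∧
        pCoreOf 2 (qIm π (L ⊔ B)) = qIm π (Qc B L) ∧
        (pCoreOf 2 (qIm π (L ⊔ B))).relIndex (qIm π (L ⊔ B)) = 2 * 3 ∧
        qIm π (L ⊔ B) ⊓ centralizer (pCoreOf 2 (qIm π (L ⊔ B)) : Set _) ≤ pCoreOf 2 (qIm π (L ⊔ B)) ∧
        ¬ qIm π (L ⊔ B) ≤ centralizer (omegaCentre 2 Bb : Set _) := by
    intro L q hL hLN hCQ
    have hLBN : L ⊔ B ≤ N := sup_le hLN hBN
    have hidx : Bb.relIndex (qIm π (L ⊔ B)) = 3 :=
      (qIm_relIndex π hLBN (hker hCB)).trans (q.index_H f)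
    have hsyl : IsSylIn 2 Bb (qIm π (L ⊔ B)) :=
      isSylIn_of_not_dvd hB2 (qIm_mono π le_sup_right) (by rw [hidx]; norm_num)
    have hQH : Qc B L ≤ L ⊔ B := inf_le_left.trans le_sup_right
    have hcore : pCoreOf 2 (qIm π (L ⊔ B)) = qIm π (Qc B L) := by
      refine le_antisymm ?_ (le_pCoreOf (qIm_mono π hQH) (qIm_norm π (q.H_norm_Qc f))
        (((f.pB.to_le inf_le_left).comap_subtype (K := N)).map π))
      have hpre : qPre π (pCoreOf 2 (qIm π (L ⊔ B))) ≤ B :=
        qPre_le π (pCoreOf_le_of_isSylIn hsyl) (hker hCB)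
      have := q.two_le f (f.pB.to_le hpre) (hpre.trans le_sup_right)
        (qPre_norm π hLBN (le_normalizer_pCoreOf 2 _))
      exact (qIm_qPre π hπ _).ge.trans (qIm_mono π this)
    obtain ⟨v, hv, hv0, hv1, -⟩ := q.exists_v f
    obtain ⟨x, hx, hxo⟩ := comp_exists_three q.comp
    have hvB : v ∈ B := f.Z0_le_B hv0
    have hmove : ∀ {u : G} (hu : u ∈ N), π ⟨x, hLN hx⟩ * π ⟨u, hu⟩ = π ⟨u, hu⟩ * π ⟨x, hLN hx⟩ →
        ⁅x, u⁆ ∈ C := fun {u} hu e => by
      have hcm := commutatorElement_eq_one_iff_mul_comm.2 e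
      rw [← map_commutatorElement] at hcm
      exact mem_subgroupOf.1 ((QuotientGroup.eq_one_iff _).1 hcm)
    refine ⟨hsyl, hidx, hcore, ?_, ?_, ?_⟩
    · rw [hcore, qIm_relIndex π hLBN (hker hCQ),
        ← relIndex_mul_relIndex _ B _ inf_le_left le_sup_right, q.index_H f]
      exact congrArg (· * 3) (q.Qc_index f)
    · set M := qIm π (L ⊔ B)
      set D := M ⊓ centralizer (pCoreOf 2 M : Set _) with hD
      have hDn : M ≤ normalizer (D : Set _) := (le_inf le_normalizer
        ((le_normalizer_pCoreOf 2 M).trans (normalizer_le_normalizer_centralizer' _))).trans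
          (normalizer_inf_le_normalizer_inf _ _)
      have hpre : qPre π D ≤ L ⊔ B := qPre_le π inf_le_left (hker (hCB.trans le_sup_right))
      rcases q.dichotomy f hpre (qPre_norm π hLBN hDn) with hc | hc
      · rw [← qIm_qPre π hπ D, hcore]
        exact qIm_mono π hc
      · exfalso
        obtain ⟨y, hy, hye⟩ := hc hx
        have hy' : y = ⟨x, hLN hx⟩ := Subtype.ext hye
        subst hy'
        have hxD : π ⟨x, hLN hx⟩ ∈ D := Subgroup.mem_comap.1 hy
        refine hv1 (q.not_central_mod (hWC q hL) hx hxo hv (hmove (hBN hvB) ?_))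
        exact (hxD.2 _ (hcore.ge (mem_qIm π (q.W_le_Qc f hv) (hBN hvB)))).symm
    · intro hle
      refine hv1 (q.not_central_mod (hWC q hL) hx hxo hv (hmove (hBN hvB) ?_))
      refine (hle (mem_qIm π (mem_sup_left hx) (hLN hx)) _ ?_).symm
      refine PLocal.Omega.mem_omegaOne (Subgroup.mem_inf.2 ⟨mem_qIm π hvB (hBN hvB), ?_⟩) ?_
      · rintro _ ⟨⟨b, hbN⟩, hb, rfl⟩
        rw [← map_mul, ← map_mul]
        exact congrArg π (Subtype.ext (f.B_cent (mem_subgroupOf.1 hb) hv0))
      · rw [← map_pow]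
        have : (⟨v, hBN hvB⟩ : ↥N) ^ 2 = 1 := Subtype.ext (by
          rw [SubmonoidClass.coe_pow, pow_two]; exact comp_wexp q.comp v hv)
        rw [this, map_one]
  obtain ⟨hs1, hi1, hc1, hr1, hp1, hz1⟩ := side p h hKN (cor_le_Qc p f)
  obtain ⟨hs2, -, -, hr2, hp2, hz2⟩ := side p' h' hK'N
    ((cor_comm (B := B) (K := K) (K' := K')).le.trans (cor_le_Qc p' f))
  have hset := S3Amalgam.setting_of (M₁ := qIm π H) (M₂ := qIm π H') Nat.prime_three (by decide) hgen
    hfaith (hinf ▸ hs1) (hinf ▸ hs2) hr1 hr2 hp1 hp2 (hinf ▸ hz1) (hinf ▸ hz2)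
  have hcB : C.relIndex B = Nat.card ↥Bb := by
    rw [← relIndex_bot_left, ← qIm_relIndex π hBN (hker le_rfl)]
    congr 1
    rw [qIm, hπdef, QuotientGroup.map_mk'_self]
  have hM : Nat.card ↥Bb * 3 = Nat.card ↥(qIm π H) := by
    rw [← card_mul_relIndex' (qIm_mono π (le_sup_right : B ≤ H)), hi1]
  have hmain : (Nat.card ↥Bb = 8 ∧ Nonempty (↥(qIm π H) ≃* Equiv.Perm (Fin 4))) ∨
      (Nat.card ↥Bb = 16 ∧ Nonempty (↥(qIm π H) ≃* Equiv.Perm (Fin 4) × Multiplicative (ZMod 2))) := by
    rcases S3Amalgam.main hset with ⟨⟨e⟩, -⟩ | ⟨⟨e⟩, -⟩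
    · rw [Nat.card_congr e.toEquiv, Nat.card_perm, Nat.card_fin] at hM
      exact Or.inl ⟨by simp [Nat.factorial] at hM; omega, ⟨e⟩⟩
    · rw [Nat.card_congr e.toEquiv, Nat.card_prod, Nat.card_perm, Nat.card_fin,
        Nat.card_congr (Multiplicative.toAdd (α := ZMod 2)), Nat.card_zmod] at hM
      exact Or.inr ⟨by simp [Nat.factorial] at hM; omega, ⟨e⟩⟩
  have h16 : C.relIndex B ≤ 16 := by rcases hmain with ⟨e, -⟩ | ⟨e, -⟩ <;> omega
  refine ⟨le_antisymm ?_ (wOf_le_Qk K), h16, fun hbot => ?_⟩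
  · -- `W C` has index at most two in `Qc`
    set W := wOf K with hWdef
    have hWn : ∀ {g : G}, g ∈ normalizer (K : Set G) → g ∈ normalizer (W : Set G) :=
      fun hg => normalizer_le_normalizer_wOf K hg
    set S := W ⊔ C with hS
    have hCQ : C ≤ Qc B K := cor_le_Qc p f
    have hSQ : S ≤ Qc B K := sup_le (p.W_le_Qc f) hCQ
    have hnorm : ∀ {Y : Subgroup G}, Y ≤ normalizer (K : Set G) → Y ≤ normalizer (C : Set G) →
        Y ≤ normalizer (S : Set G) := fun hY1 hY2 g hg =>
      mem_normalizer_iff_map_conj_eq.2 (by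
        rw [hS, Subgroup.map_sup, mem_normalizer_iff_map_conj_eq.1 (hWn (hY1 hg)),
          mem_normalizer_iff_map_conj_eq.1 (hY2 hg)])
    have hKS : K ≤ normalizer (S : Set G) :=
      hnorm le_normalizer (le_sup_left.trans H_norm_cor)
    have hQS : Qc B K ≤ normalizer (S : Set G) :=
      hnorm (inf_le_left.trans p.normB) (inf_le_left.trans (le_sup_right.trans H_norm_cor))
    have hidx : S.relIndex (Qc B K) ≤ 2 := by
      have h1 := relIndex_mul_relIndex C S (Qc B K) le_sup_right hSQ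
      have h2 := relIndex_mul_relIndex C (Qc B K) B hCQ inf_le_left
      rw [p.Qc_index f] at h2
      have h3 : C.relIndex S = 4 := by
        have hSn : C ≤ normalizer (W : Set G) := (hCB.trans p.normB).trans (normalizer_le_normalizer_wOf K)
        have h4 := card_sup_mul_inf hSn
        rw [hW, card_bot, mul_one, comp_wcard p.comp, ← hS,
          ← card_mul_relIndex' (le_sup_right : C ≤ S), mul_comm 4] at h4
        exact Nat.eq_of_mul_eq_mul_left Nat.card_pos h4
      rw [h3] at h1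
      omega
    obtain ⟨x, hx, hxo⟩ := comp_exists_three p.comp
    have hxQ : x ∈ normalizer (Qc B K : Set G) := p.H_norm_Qc f (mem_sup_left hx)
    have hstep : ∀ q ∈ Qc B K, ⁅x, q⁆ ∈ S := by
      intro q hq
      rw [commutatorElement_def]
      have hxq := conj_mem_normalizer hxQ hq
      by_cases hqS : q ∈ S
      · exact mul_mem (conj_mem_normalizer (hKS hx) hqS) (inv_mem hqS)
      · have h2 : S.relIndex (Qc B K) = 2 := by
          have h0 : S.relIndex (Qc B K) ≠ 0 := index_ne_zero_of_finite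
          have h1 : S.relIndex (Qc B K) ≠ 1 := fun e => hqS (relIndex_eq_one.1 e hq)
          omega
        have := (mul_mem_iff_of_index_two h2 (a := (⟨x * q * x⁻¹, hxq⟩ : ↥(Qc B K)))
          (b := ⟨q⁻¹, inv_mem hq⟩)).2 (iff_of_false (fun e => hqS ?_) fun e => hqS ?_)
        · exact this
        · rw [mem_subgroupOf] at e
          exact (mem_normalizer_iff.1 (hKS hx) q).2 e
        · rw [mem_subgroupOf] at e
          exact inv_mem_iff.1 e
    have h1 : Qk K ≤ S := p.Qk_le_of f (hSQ.trans inf_le_left) hKS hx hxo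
      fun q hq => hstep q (p.Qk_le_Qc f hq)
    refine p.Qk_le_of f (p.W_le_B f) (fun g hg => hWn (le_normalizer hg)) hx hxo fun q hq => ?_
    obtain ⟨w, hw, c, hc, rfl⟩ := exists_mul_of_le_normalizer
      ((hCB.trans p.normB).trans (normalizer_le_normalizer_wOf K)) (h1 hq)
    rw [commutatorElement_mul_right_eq_mul_conj,
      commutatorElement_eq_one_iff_mul_comm.2 (h hx c hc).symm, mul_one, mul_inv_cancel_right]
    rw [commutatorElement_def]
    exact mul_mem (conj_mem_normalizer (hWn (le_normalizer hx)) hw) (inv_mem hw)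
  · have hπinj : Function.Injective π := by
      rw [← MonoidHom.ker_eq_bot_iff, hπdef, QuotientGroup.ker_mk', hbot, bot_subgroupOf]
    let eB : ↥B ≃* ↥Bb :=
      (subgroupOfEquivOfLe hBN).symm.trans (equivMapOfInjective _ π hπinj)
    have hle : Bb ≤ qIm π H := qIm_mono π le_sup_right
    rcases hmain with ⟨e8, ⟨e⟩⟩ | ⟨e16, ⟨e⟩⟩
    · let i := e.toMonoidHom.comp (Subgroup.inclusion hle)
      have hi : Function.Injective i := e.injective.comp (inclusion_injective hle)
      obtain ⟨d⟩ := sylow_perm_four i.range (by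
        rw [← Nat.card_congr (MonoidHom.ofInjective hi).toEquiv, e8])
      exact Or.inl ⟨eB.trans ((MonoidHom.ofInjective hi).trans d)⟩
    · let i := e.toMonoidHom.comp (Subgroup.inclusion hle)
      have hi : Function.Injective i := e.injective.comp (inclusion_injective hle)
      obtain ⟨d⟩ := sylow_perm_four_prod i.range (by
        rw [← Nat.card_congr (MonoidHom.ofInjective hi).toEquiv, e16])
      exact Or.inr ⟨eB.trans ((MonoidHom.ofInjective hi).trans d)⟩

end Cfsg.Agent.QTTwoMax
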