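import Cfsg.Agent.Lib.QTTwoMax.Cor
import Cfsg.Agent.Lib.PLocal.CommonNormal.Seed
import Cfsg.Agent.Lib.CharP.FittingAction

/-!
If `O₂(K)` lies in the largest normal `2`-subgroup of the other piece, it lies in the common core.
-/

set_option autoImplicit false
set_option linter.unusedSectionVars false
set_option linter.style.haveILetI false
set_option linter.style.longLine false

namespace Cfsg.Agent.QTTwoMax

open Subgroup Cfsg Cfsg.Agent.CharP Cfsg.Agent.JComp
open scoped commutatorElement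

variable {G : Type*} [Group G] [Finite G] {T B K K' : Subgroup G}

/-- `⟨K, R⟩` for `R ≤ B` meeting `K` in `O₂(K)`. -/
theorem relIndex_sup_eq_three {T B K R : Subgroup G} (p : Piece T B K) (f : Frame T B) (hRB : R ≤ B)
    (hQR : Qk K ≤ R) : R.relIndex (K ⊔ R) = 3 := by
  have hRn : R ≤ normalizer (K : Set G) := hRB.trans p.normB
  have hinf : K ⊓ R = Qk K :=
    le_antisymm ((inf_le_inf_left K hRB).trans (p.inf_B f).le) (le_inf (pCoreOf_le 2 K) hQR)
  have h := card_sup_mul_inf hRn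
  rw [hinf, comp_card p.comp, ← card_mul_relIndex' (le_sup_right : R ≤ K ⊔ R)] at h
  refine Nat.eq_of_mul_eq_mul_left (Nat.mul_pos (Nat.card_pos (α := R)) (Nat.card_pos (α := Qk K))) ?_
  linear_combination h

/-- A characteristic subgroup is normalised by the normaliser. -/
theorem normalizer_le_of_char {L C : Subgroup G} (hCL : C ≤ L)
    (hC : (C.subgroupOf L).Characteristic) : normalizer (L : Set G) ≤ normalizer (C : Set G) := by
  haveI := hC
  have h := le_normalizer_map_subtype_of_characteristic (le_refl (normalizer (L : Set G))) (C.subgroupOf L)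
  rwa [map_subgroupOf_eq_of_le hCL] at h

theorem normalizer_le_normalizer_baumann (S : Subgroup G) :
    normalizer (S : Set G) ≤ normalizer (baumannSubgroupOf 2 S : Set G) := fun g hg => by
  refine mem_normalizer_iff_map_conj_eq.2 ?_
  rw [PLocal.CommonNormal.map_baumann (MulAut.conj g).injective]
  exact congrArg _ (mem_normalizer_iff_map_conj_eq.1 hg)

theorem normalizer_le_normalizer_omegaOneCenter (S : Subgroup G) :
    normalizer (S : Set G) ≤ normalizer (omegaOneCenter 2 S : Set G) := fun g hg => by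
  refine mem_normalizer_iff_map_conj_eq.2 ?_
  rw [CharP.PushingUpMCL.map_omegaOneCenter (MulAut.conj g).injective]
  exact congrArg _ (mem_normalizer_iff_map_conj_eq.1 hg)

/-- The span of the conjugates under `X` is normalised by `X`. -/
theorem le_normalizer_span (X U : Subgroup G) :
    X ≤ normalizer ((⨆ x : ↥X, PLocal.CommonNormal.cj (x : G) U : Subgroup G) : Set G) :=
  PLocal.CommonNormal.le_normalizer_of_cj fun y hy => by
    rw [PLocal.CommonNormal.cj, Subgroup.map_iSup]
    refine iSup_le fun b => le_iSup_of_le (⟨y * b, mul_mem hy b.2⟩ : ↥X) ?_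
    exact (PLocal.CommonNormal.cj_cj y b U).le

/-- The span of the conjugates under `X` is normalised by what `X` normalises and fixes `U`. -/
theorem span_le_normalizer {X U Y : Subgroup G} (hY : X ≤ normalizer (Y : Set G))
    (hYU : Y ≤ normalizer (U : Set G)) :
    Y ≤ normalizer ((⨆ x : ↥X, PLocal.CommonNormal.cj (x : G) U : Subgroup G) : Set G) :=
  PLocal.CommonNormal.le_normalizer_of_cj fun y hy => by
    rw [PLocal.CommonNormal.cj, Subgroup.map_iSup]
    refine iSup_le fun b => le_iSup_of_le b ?_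
    have hb : (b : G)⁻¹ * y * b ∈ Y := by
      have := (mem_normalizer_iff.1 (hY (inv_mem b.2)) y).1 hy
      rwa [inv_inv] at this
    refine (PLocal.CommonNormal.cj_cj y b U).le.trans (le_of_eq ?_)
    rw [show y * (b : G) = b * ((b : G)⁻¹ * y * b) by group, ← PLocal.CommonNormal.cj_cj,
      PLocal.CommonNormal.cj_of_mem (hYU hb)]

section Quotient

variable {Q : Type*} [Group Q] {N : Subgroup G} (π : ↥N →* Q)

/-- The image of the part in `N`. -/
def qIm (X : Subgroup G) : Subgroup Q := (X.subgroupOf N).map π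

theorem qIm_mono {X Y : Subgroup G} (h : X ≤ Y) : qIm π X ≤ qIm π Y := map_mono (comap_mono h)

theorem mem_qIm {X : Subgroup G} {x : G} (hx : x ∈ X) (hN : x ∈ N) : π ⟨x, hN⟩ ∈ qIm π X :=
  mem_map_of_mem π (mem_subgroupOf.2 hx)

theorem qIm_sup {X Y : Subgroup G} (hX : X ≤ N) (hY : Y ≤ N) : qIm π (X ⊔ Y) = qIm π X ⊔ qIm π Y := by
  rw [qIm, subgroupOf_sup hX hY, Subgroup.map_sup]
  rfl

theorem qIm_norm {X Y : Subgroup G} (h : X ≤ normalizer (Y : Set G)) :
    qIm π X ≤ normalizer (qIm π Y : Set Q) := by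
  refine (map_mono ?_).trans (Subgroup.le_normalizer_map π)
  intro x hx
  rw [mem_normalizer_iff]
  exact fun y => mem_normalizer_iff.1 (h (mem_subgroupOf.1 hx)) (y : G)

/-- The preimage. -/
def qPre (U : Subgroup Q) : Subgroup G := (U.comap π).map N.subtype

theorem qIm_qPre (hπ : Function.Surjective π) (U : Subgroup Q) : qIm π (qPre π U) = U := by
  rw [qIm, qPre, subgroupOf, comap_map_eq_self_of_injective N.subtype_injective,
    map_comap_eq_self_of_surjective hπ]

theorem qPre_le {X : Subgroup G} {U : Subgroup Q} (h : U ≤ qIm π X)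
    (hker : π.ker ≤ X.subgroupOf N) : qPre π U ≤ X := by
  rintro _ ⟨x, hx, rfl⟩
  have h1 : x ∈ ((X.subgroupOf N).map π).comap π := Subgroup.mem_comap.2 (h hx)
  rw [comap_map_eq_self hker] at h1
  exact h1

theorem qPre_norm {X : Subgroup G} (hXN : X ≤ N) {U : Subgroup Q}
    (h : qIm π X ≤ normalizer (U : Set Q)) : X ≤ normalizer (qPre π U : Set G) := by
  intro x hx
  have hn := h (mem_qIm π hx (hXN hx))
  refine mem_normalizer_of_cjg_le ?_
  rintro _ ⟨_, ⟨y, hy, rfl⟩, rfl⟩
  refine ⟨⟨x, hXN hx⟩ * y * ⟨x, hXN hx⟩⁻¹, ?_, rfl⟩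
  show π (⟨x, hXN hx⟩ * y * ⟨x, hXN hx⟩⁻¹) ∈ U
  rw [map_mul, map_mul, map_inv]
  exact (mem_normalizer_iff.1 hn (π y)).1 hy

theorem qIm_relIndex_dvd {X Y : Subgroup G} (hYN : Y ≤ N) :
    (qIm π X).relIndex (qIm π Y) ∣ X.relIndex Y := by
  rw [qIm, qIm, ← relIndex_comap]
  refine (relIndex_dvd_of_le_left _ (le_comap_map π _)).trans ?_
  exact dvd_of_eq (relIndex_subgroupOf hYN)

end Quotient

set_option maxHeartbeats 1600000 in
/-- If `O₂(K)` lies in `Qc B K'`, it lies in the core of the two pieces. -/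
theorem seed (f : Frame T B) (p : Piece T B K) (p' : Piece T B K') (hQ : Qk K ≤ Qc B K') :
    Qk K ≤ cor B K K' := by
  classical
  by_contra hnot
  set C := cor B K K' with hC
  set R := Qc B K' with hR
  have hRB : R ≤ B := inf_le_left
  have hCR : C ≤ R := (cor_comm (B := B) (K := K) (K' := K')).le.trans (cor_le_Qc p' f)
  have hCB : C ≤ B := cor_le
  have hBR : B ≤ normalizer (R : Set G) := le_sup_right.trans (p'.H_norm_Qc f)
  have hK'R : K' ≤ normalizer (R : Set G) := le_sup_left.trans (p'.H_norm_Qc f)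
  have hKR : ¬ K ≤ normalizer (R : Set G) := fun h => hnot (hQ.trans (le_cor hRB hBR h hK'R))
  set N := normalizer (C : Set G) with hN
  have hKN : K ≤ N := le_sup_left.trans H_norm_cor
  have hBN : B ≤ N := le_sup_right.trans H_norm_cor
  have hK'N : K' ≤ N := le_sup_left.trans H_norm_cor'
  have hRN : R ≤ N := hRB.trans hBN
  have hCN : C ≤ N := le_normalizer
  haveI : (C.subgroupOf N).Normal := normal_in_normalizer
  set π := QuotientGroup.mk' (C.subgroupOf N) with hπdef
  have hπ : Function.Surjective π := QuotientGroup.mk'_surjective _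
  have hker : ∀ {X : Subgroup G}, C ≤ X → π.ker ≤ X.subgroupOf N := fun h => by
    rw [hπdef, QuotientGroup.ker_mk']; exact comap_mono h
  have hcor : ∀ U : Subgroup (↥N ⧸ C.subgroupOf N), U ≤ qIm π B → qIm π B ≤ normalizer (U : Set _) →
      qIm π K ≤ normalizer (U : Set _) → qIm π K' ≤ normalizer (U : Set _) → U = ⊥ := by
    intro U hUB hB hK hK'
    have h1 : qPre π U ≤ C := le_cor (qPre_le π hUB (hker hCB)) (qPre_norm π hBN hB)
      (qPre_norm π hKN hK) (qPre_norm π hK'N hK')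
    rw [← qIm_qPre π hπ U, eq_bot_iff]
    refine (qIm_mono π h1).trans ?_
    rw [qIm, hπdef, QuotientGroup.map_mk'_self]
  set P := K ⊔ R with hP
  have hPN : P ≤ N := sup_le hKN hRN
  set Kb := qIm π K with hKb
  set Rb := qIm π R with hRb
  set Bb := qIm π B with hBb
  set Pb := qIm π P with hPb
  set K'b := qIm π K' with hK'b
  have hPbeq : Pb = Kb ⊔ Rb := qIm_sup π hKN hRN
  have hRP : Rb ≤ Pb := qIm_mono π le_sup_right
  have hRBb : Rb ≤ Bb := qIm_mono π hRB
  have hR2 : IsPGroup 2 ↥Rb := ((f.pB.to_le hRB).comap_subtype (K := N)).map π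
  have h3P : Rb.relIndex Pb ∣ 3 :=
    (qIm_relIndex_dvd π hPN).trans (dvd_of_eq (relIndex_sup_eq_three p f hRB hQ))
  have hnR : ¬ Pb ≤ normalizer (Rb : Set _) := by
    intro h
    refine hKR ?_
    have hpre : qPre π Rb = R := by
      refine le_antisymm (qPre_le π le_rfl (hker hCR)) fun r hr => ?_
      exact ⟨⟨r, hRN hr⟩, Subgroup.mem_comap.2 (mem_qIm π hr (hRN hr)), rfl⟩
    exact hpre ▸ qPre_norm π hKN ((qIm_mono π le_sup_left).trans h)
  have hlt : Rb < Pb := lt_of_le_of_ne hRP fun e => hnR (e ▸ le_normalizer)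
  have hsyl : IsSylIn 2 Rb Pb := isSylIn_of_not_dvd hR2 hRP fun h => by
    have := h.trans h3P
    norm_num at this
  have huniq : ∀ X : Subgroup (↥N ⧸ C.subgroupOf N), Rb ≤ X → X < Pb → X ≤ Rb := by
    intro X hX hXP
    rw [← relIndex_eq_one]
    have h1 : X.relIndex Pb ≠ 1 := fun e => hXP.not_ge (relIndex_eq_one.1 e)
    have h2 := relIndex_mul_relIndex Rb X Pb hX hXP.le
    rcases (Nat.dvd_prime Nat.prime_three).1 ((Dvd.intro_left _ h2).trans h3P) with e | e
    · exact absurd e h1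
    · rcases (Nat.dvd_prime Nat.prime_three).1 (h2 ▸ h3P) with e' | e' <;>
        rw [e] at e' <;> omega
  -- characteristic 2
  have hKR' : R ≤ normalizer (Qk K : Set G) :=
    (hRB.trans p.normB).trans (normalizer_le_normalizer_Qk K)
  have hQPb : qIm π (Qk K) ≤ pCoreOf 2 Pb := by
    refine le_pCoreOf (qIm_mono π ((pCoreOf_le 2 K).trans le_sup_left)) ?_
      (((isPGroup_pCoreOf 2 K).comap_subtype (K := N)).map π)
    rw [hPbeq]
    exact sup_le (qIm_norm π ((le_normalizer).trans (normalizer_le_normalizer_Qk K))) (qIm_norm π hKR')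
  have hnPb : ∀ {S : Subgroup (↥N ⧸ C.subgroupOf N)}, Pb ≤ normalizer (S : Set _) →
      Pb ≤ normalizer ((centralizer (S : Set (↥N ⧸ C.subgroupOf N)) : Subgroup (↥N ⧸ C.subgroupOf N)) :
        Set (↥N ⧸ C.subgroupOf N)) := fun h =>
    h.trans (normalizer_le_normalizer_centralizer' _)
  have hcP : IsCharP 2 Pb := by
    set D := Pb ⊓ centralizer (pCoreOf 2 Pb : Set _) with hD
    have hDn : Pb ≤ normalizer (D : Set _) :=
      (le_inf le_normalizer (hnPb (le_normalizer_pCoreOf 2 Pb))).trans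
        (normalizer_inf_le_normalizer_inf _ _)
    refine le_pCoreOf inf_le_left hDn ?_
    obtain ⟨n, hn⟩ := IsPGroup.iff_card.1 hR2
    have hcard : Nat.card ↥Pb ∣ 3 * 2 ^ n := by
      rw [← card_mul_relIndex' hRP, ← hn, mul_comm 3]
      exact mul_dvd_mul_left _ h3P
    by_contra hD2
    have h3 : 3 ∣ Nat.card ↥D := by
      by_contra h3
      refine hD2 ?_
      have hd := (card_dvd_of_le (inf_le_left : D ≤ Pb)).trans hcard
      have hd' : Nat.card ↥D ∣ 2 ^ n :=
        (((Nat.prime_three.coprime_iff_not_dvd).2 h3).symm).dvd_of_dvd_mul_left hd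
      obtain ⟨k, -, hk⟩ := (Nat.dvd_prime_pow Nat.prime_two).1 hd'
      exact IsPGroup.of_card hk
    have hidx : D.relIndex Pb ∣ 2 ^ n := by
      have h1 : D.relIndex Pb * Nat.card ↥D ∣ 2 ^ n * 3 := by
        rw [mul_comm (D.relIndex Pb), card_mul_relIndex' (inf_le_left : D ≤ Pb), mul_comm _ 3]
        exact hcard
      obtain ⟨c, hc⟩ := h3
      rw [hc, mul_left_comm, mul_comm (2 ^ n) 3] at h1
      exact dvd_of_mul_right_dvd (Nat.dvd_of_mul_dvd_mul_left (by norm_num) h1)
    obtain ⟨x, hx, hxo⟩ := comp_exists_three p.comp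
    have hxP : π ⟨x, hKN hx⟩ ∈ Pb := mem_qIm π (mem_sup_left hx) _
    have hxD : π ⟨x, hKN hx⟩ ∈ D := by
      refine odd_mem_of_two_index hDn hidx hxP (Odd.of_dvd_nat ?_ (orderOf_map_dvd π _))
      rw [Subgroup.orderOf_mk, hxo]
      decide
    refine hnot (p.Qk_le_of f hCB hKN hx hxo fun q hq => ?_)
    have hqN : q ∈ N := hKN (pCoreOf_le 2 K hq)
    have hcm := commutatorElement_eq_one_iff_mul_comm.2
      (hxD.2 _ (hQPb (mem_qIm π hq hqN))).symm
    rw [← map_commutatorElement] at hcm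
    exact mem_subgroupOf.1 ((QuotientGroup.eq_one_iff _).1 hcm)
  -- the block
  have hBK : Bb ≤ normalizer (Kb : Set _) := qIm_norm π p.normB
  have hBK' : Bb ≤ normalizer (K'b : Set _) := qIm_norm π p'.normB
  have hBRb : Bb ≤ normalizer (Rb : Set _) := qIm_norm π hBR
  have hK'Rb : K'b ≤ normalizer (Rb : Set _) := qIm_norm π hK'R
  have hBauB : baumannSubgroupOf 2 Rb ≤ Bb := (PLocal.BlockBasic.baumann_le _).trans hRBb
  obtain ⟨E, W, -, hPE, hblk, hcen, hWQ, -⟩ := PLocal.CommonNormal.exists_seed (P := Pb) (R := Rb)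
    (M := Rb) hsyl hcP hnR hlt le_rfl huniq
    (fun C' hC'B hC'1 hch h => hC'1 (hcor C' (hC'B.trans hBauB)
      ((hBRb.trans (normalizer_le_normalizer_baumann Rb)).trans (normalizer_le_of_char hC'B hch))
      ((qIm_mono π le_sup_left).trans h)
      ((hK'Rb.trans (normalizer_le_normalizer_baumann Rb)).trans (normalizer_le_of_char hC'B hch))))
    (fun h => by
      have hz := hcor (omegaOneCenter 2 Rb) (fun x hx => hRBb (PushingUpMCL.mem_omegaOneCenter.1 hx).1)
        (hBRb.trans (normalizer_le_normalizer_omegaOneCenter Rb))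
        ((qIm_mono π le_sup_left).trans h)
        (hK'Rb.trans (normalizer_le_normalizer_omegaOneCenter Rb))
      obtain ⟨z, hz1, hz2, hz3⟩ := exists_order_prime_central (p := 2) hR2 le_rfl le_normalizer
        (fun e => hnR (by rw [e]; exact fun _ _ => mem_normalizer_iff.2 fun y => by simp))
      have hmem : z ∈ omegaOneCenter 2 Rb :=
        Cfsg.Agent.PLocal.Omega.mem_omegaOne ⟨hz1, hz3⟩ (hz2 ▸ pow_orderOf_eq_one z)
      rw [hz, mem_bot] at hmem
      rw [hmem, orderOf_one] at hz2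
      omega)
  set Γ := K'b ⊔ Rb with hΓ
  have hΓn : Γ ≤ normalizer (Rb : Set _) := sup_le hK'Rb le_normalizer
  have hΓB : Γ ≤ normalizer (baumannSubgroupOf 2 Rb : Set _) :=
    hΓn.trans (normalizer_le_normalizer_baumann Rb)
  have hBauR : baumannSubgroupOf 2 Rb ≤ Rb := PLocal.BlockBasic.baumann_le _
  have hWΓ : W ≤ Γ := hblk.wB.trans (hBauR.trans le_sup_right)
  have hodd : Odd (Rb.relIndex Γ) := by
    have h : Rb.relIndex Γ ∣ 3 := by
      rw [hΓ, hK'b, hRb, ← qIm_sup π hK'N hRN]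
      exact (qIm_relIndex_dvd π (sup_le hK'N hRN)).trans
        (dvd_of_eq (relIndex_sup_eq_three p' f hRB (p'.Qk_le_Qc f)))
    exact Odd.of_dvd_nat (by decide) h
  have hcom : ∀ g ∈ Γ, PLocal.CommonNormal.cj g W ≤ centralizer (W : Set _) := by
    intro g hg
    haveI : (Rb.subgroupOf Γ).Normal := (normal_subgroupOf_iff_le_normalizer le_sup_right).2 hΓn
    have hnode := hblk.node.subgroupOf (hBauR.trans (le_sup_right : Rb ≤ Γ))
    have h := hnode.commute_of_odd_index (S₀ := Rb.subgroupOf Γ) hodd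
      (fun y => mem_normalizer_iff.2 fun z => mem_normalizer_iff.1 (hΓB y.2) (z : _))
      (fun s hs => ?_) ⟨g, hg⟩
    · rintro _ ⟨w, hw, rfl⟩ v hv
      exact congrArg Subtype.val (h ⟨⟨w, hWΓ hw⟩, hw, rfl⟩ ⟨v, hWΓ hv⟩ hv)
    · rintro _ ⟨w, hw, rfl⟩ v hv
      have hsP : (s : ↥N ⧸ C.subgroupOf N) ∈ Pb := hRP hs
      exact Subtype.ext (hcen _ (pCoreOf_le 2 Pb) (isPGroup_pCoreOf 2 Pb) (le_normalizer_pCoreOf 2 Pb)
        ((mem_normalizer_iff.1 (le_normalizer_pCoreOf 2 Pb hsP) _).1 (hWQ hw)) _ hv)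
  set U := ⨆ g : ↥Γ, PLocal.CommonNormal.cj (g : ↥N ⧸ C.subgroupOf N) W with hU
  have hWU : W ≤ U := le_iSup_of_le 1 (PLocal.CommonNormal.cj_one W).ge
  have hUB : U ≤ baumannSubgroupOf 2 Rb := iSup_le fun g =>
    (PLocal.CommonNormal.cj_mono _ hblk.wB).trans (PLocal.CommonNormal.cj_of_mem (hΓB g.2)).le
  have hUW : U ≤ centralizer (W : Set _) := iSup_le fun g => hcom g g.2
  have hΓU : Γ ≤ normalizer (U : Set _) := le_normalizer_span Γ W
  have hEU : E ≤ normalizer (U : Set _) := PLocal.CommonNormal.le_normalizer_of_cj fun e he => by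
    rintro _ ⟨x, hx, rfl⟩
    obtain ⟨w, hw, hew⟩ := hblk.conj_eq (hUB hx) (hUW hx) he
    show e * x * e⁻¹ ∈ U
    rw [hew]
    exact mul_mem (hWU hw) hx
  have hPU : Pb ≤ normalizer (U : Set _) := hPE.trans (sup_le hEU (le_sup_right.trans hΓU))
  have hKU : Kb ≤ normalizer (U : Set _) := (qIm_mono π le_sup_left).trans hPU
  have hK'U : K'b ≤ normalizer (U : Set _) := le_sup_left.trans hΓU
  clear_value U
  have hU2 : (⨆ b : ↥Bb, PLocal.CommonNormal.cj (b : ↥N ⧸ C.subgroupOf N) U) = ⊥ := by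
    refine hcor _ (iSup_le fun b => ?_) (le_normalizer_span Bb U) (span_le_normalizer hBK hKU)
      (span_le_normalizer hBK' hK'U)
    exact (PLocal.CommonNormal.cj_mono _ (hUB.trans hBauB)).trans
      (PLocal.CommonNormal.cj_of_mem (le_normalizer b.2)).le
  refine hblk.ymove ?_
  have hW : W = ⊥ := le_bot_iff.1 (hU2 ▸ hWU.trans
    (le_iSup_of_le 1 (PLocal.CommonNormal.cj_one U).ge))
  rw [hW, commutator_bot_left]
  exact bot_le

end Cfsg.Agent.QTTwoMax
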