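import Cfsg.Agent.Lib.QTTwoMax.PairTwo
import Cfsg.Agent.Lib.QTTwoMax.Seed
import Cfsg.Agent.Lib.QTTwoMax.PairCent

/-!
Two pieces over one Baumann subgroup.
-/

set_option autoImplicit false
set_option linter.unusedSectionVars false
set_option linter.style.haveILetI false

namespace Cfsg.Agent.QTTwoMax

open Subgroup Cfsg Cfsg.Agent.CharP Cfsg.Agent.JComp
open scoped commutatorElement

variable {G : Type*} [Group G] [Finite G] {T B K K' : Subgroup G}

/-- If both pieces move their core, each core is in the other piece's kernel. -/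
theorem Act.both (c : Act B K K') (f : Frame T B) (p : Piece T B K) (p' : Piece T B K') :
    Qk K ≤ Qc B K' ∧ Qk K' ≤ Qc B K := by
  set C := cor B K K' with hC
  have hne : ∃ A, MaxEA T A ∧ ¬ A ≤ Qc B K ⊓ Qc B K' := by
    obtain ⟨A, hA, a, ha, haC⟩ := comp_exists_moving p.comp
    exact ⟨A, hA, fun h => haC (h ha).1.2⟩
  obtain ⟨A, ⟨hA, hAn⟩, hmin⟩ := Set.exists_min_image
    {A : Subgroup G | MaxEA T A ∧ ¬ A ≤ Qc B K ⊓ Qc B K'} (fun A => Nat.card ↥(A ⊔ C))
    (Set.toFinite _) hne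
  have hAB : A ≤ B := hA.le_J.trans f.J_le_B
  rcases not_and_or.1 (fun h : A ≤ Qc B K ∧ A ≤ Qc B K' => hAn (le_inf h.1 h.2)) with h | h
  · obtain ⟨a, ha, haQ⟩ := SetLike.not_le_iff_exists.1 h
    have h1 := c.dir_one f p p' hA ha (fun e => haQ ⟨hAB ha, e⟩) fun A₁ h1 h2 => hmin A₁ ⟨h1, h2⟩
    exact ⟨h1, c.dir_two f p p' (seed f p p' h1)⟩
  · obtain ⟨a, ha, haQ⟩ := SetLike.not_le_iff_exists.1 h
    have h1 := (c.swap f p p').dir_one f p' p hA ha (fun e => haQ ⟨hAB ha, e⟩) fun A₁ h1 h2 => by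
      rw [cor_comm]
      exact hmin A₁ ⟨h1, fun e => h2 (inf_comm (Qc B K) (Qc B K') ▸ e)⟩
    exact ⟨(c.swap f p p').dir_two f p' p (seed f p' p h1), h1⟩

/-- It is impossible that exactly the first piece centralises the core. -/
theorem no_mixed (f : Frame T B) (p : Piece T B K) (p' : Piece T B K')
    (h : K ≤ centralizer (cor B K K' : Set G)) :
    K' ≤ centralizer (cor B K K' : Set G) := by
  by_contra h'
  have hR := (p'.centralizes_or f (H_norm_cor' (B := B) (K := K) (K' := K'))).resolve_left h'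
  have hQ : Qk K ≤ Qc B K' := fun q hq =>
    hR ⟨mem_sup_right (p.Qk_le_B f hq), h (pCoreOf_le 2 K hq)⟩
  obtain ⟨x, hx, hxo⟩ := comp_exists_three p.comp
  exact comp_not_centralizes p.comp hx hxo fun w hw =>
    h hx w (seed f p p' hQ (wOf_le_Qk K hw))

/-- A pair with a moving kernel centralises its core, and the four-groups share their fixed point. -/
theorem pair (f : Frame T B) (p : Piece T B K) (p' : Piece T B K') (h : ¬ Qk K ≤ Qc B K') :
    Qk K = wOf K ∧ Qk K' = wOf K' ∧ (cor B K K').relIndex B ≤ 16 ∧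
      K ≤ centralizer (cor B K K' : Set G) ∧ K' ≤ centralizer (cor B K K' : Set G) ∧
      (cor B K K' = ⊥ → Nonempty (↥B ≃* DihedralGroup 4) ∨
        Nonempty (↥B ≃* Multiplicative (ZMod 2) × DihedralGroup 4)) := by
  have hK : K ≤ centralizer (cor B K K' : Set G) := by
    by_contra hK
    by_cases hK' : K' ≤ centralizer (cor B K K' : Set G)
    · refine hK ?_
      rw [cor_comm] at hK' ⊢
      exact no_mixed f p' p hK'
    · exact h ((Act.both ⟨hK, hK'⟩ f p p').1)
  have hK' := no_mixed f p p' hK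
  obtain ⟨e, hi, hd⟩ := both_central f p p' hK hK'
  obtain ⟨e', -, -⟩ := both_central f p' p (by rw [cor_comm]; exact hK') (by rw [cor_comm]; exact hK)
  exact ⟨e, e', hi, hK, hK', hd⟩

/-- The fixed points of two noncommuting four-groups agree. -/
theorem fix_eq (f : Frame T B) (p : Piece T B K) (p' : Piece T B K')
    (h : ¬ wOf K ≤ centralizer (wOf K' : Set G)) {v v' : G} (hv : v ∈ wOf K) (hv0 : v ∈ Z0 T)
    (hv1 : v ≠ 1) (hv' : v' ∈ wOf K') (hv'0 : v' ∈ Z0 T) (hv'1 : v' ≠ 1) : v = v' := by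
  obtain ⟨w, hw, hwn⟩ := SetLike.not_le_iff_exists.1 h
  obtain ⟨w', hw', hne⟩ : ∃ w' ∈ wOf K', w * w' ≠ w' * w := by
    by_contra hh
    push Not at hh
    exact hwn fun u hu => (hh u hu).symm
  have h1 : w * w' * w⁻¹ = v' * w' :=
    (p'.comm_mem f hv' hv'0 hv'1 (p.W_le_B f hw) hw').resolve_left fun e =>
      hne (mul_inv_eq_iff_eq_mul.1 e)
  have h2 : w' * w * w'⁻¹ = v * w :=
    (p.comm_mem f hv hv0 hv1 (p'.W_le_B f hw') hw).resolve_left fun e =>
      hne (mul_inv_eq_iff_eq_mul.1 e).symm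
  calc v = v⁻¹ := (inv_eq_of_mul_eq_one_right (comp_wexp p.comp v hv)).symm
    _ = w * (v * w)⁻¹ := by group
    _ = w * w' * w⁻¹ * w'⁻¹ := by rw [← h2]; group
    _ = v' := by rw [h1, mul_inv_cancel_right]

end Cfsg.Agent.QTTwoMax
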