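import Cfsg.Agent.Lib.QTTwoMax.Common
import Cfsg.Agent.Lib.QTTwoMax.Pair

/-!
The cases with a component normalised by `T`.
-/

set_option autoImplicit false
set_option linter.unusedSectionVars false
set_option linter.style.haveILetI false

namespace Cfsg.Agent.QTTwoMax

open Subgroup Cfsg Cfsg.Agent.CharP Cfsg.Agent.JComp
open scoped commutatorElement

universe u

variable {G : Type u} [Group G] [Finite G] {T : Sylow 2 G} (c : Ctx T)
include c

theorem Bm_ne_bot {M : Subgroup G} (hM : Mx T M) : Bm T ≠ ⊥ := by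
  intro e
  have hT : (T : Subgroup G) ≠ ⊥ := fun h =>
    c.core_ne hM (le_bot_iff.1 ((c.hyp M hM).core_le.trans h.le))
  exact J_ne_bot T.isPGroup' hT (le_bot_iff.1 (c.frame.J_le_B.trans e.le))

theorem Single.nJ_le {M K : Subgroup G} (s : Single T M K) (hM : Mx T M) :
    normalizer (Jt (T : Subgroup G) : Set G) ≤ M := by
  rw [← c.frame.normalizer_B]
  exact (s.gen c).push c (c.hyp M hM).even c.frame.T_norm (Bm_ne_bot c hM) inf_le_left
    ((s.inf_T c).le.trans (s.piece.Qk_le_B c.frame)) le_rfl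

theorem Double.nJ_le {M K₁ K₂ : Subgroup G} (d : Double T M K₁ K₂) (hM : Mx T M) :
    normalizer (Jt (T : Subgroup G) : Set G) ≤ M := by
  rw [← c.frame.normalizer_B]
  exact (d.gen c hM).push c (c.hyp M hM).even c.frame.T_norm (Bm_ne_bot c hM) inf_le_left
    ((d.inf_T c hM).trans (sup_le (d.piece₁.Qk_le_B c.frame) (d.piece₂.Qk_le_B c.frame))) le_rfl

theorem nJ_le_of_moved {M : Subgroup G} (hM : Mx T M) (hJ : ¬ Jt (T : Subgroup G) ≤ Qk M) :
    normalizer (Jt (T : Subgroup G) : Set G) ≤ M := by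
  rcases c.single_or_double hM hJ with ⟨K, s⟩ | ⟨K₁, K₂, d⟩
  · exact s.nJ_le c hM
  · exact d.nJ_le c hM

/-- `J(T)` lies in no `O₂` of a maximal 2-local subgroup over `T`. -/
theorem moved {M : Subgroup G} (hM : Mx T M) : ¬ Jt (T : Subgroup G) ≤ Qk M := by
  have hle : ∀ {N : Subgroup G}, Mx T N → Jt (T : Subgroup G) ≤ Qk N →
      N ≤ normalizer (Jt (T : Subgroup G) : Set G) := by
    intro N hN h
    have e : Jt (Qk N) = Jt (T : Subgroup G) := J_eq_of_le_of_le h (c.hyp N hN).core_le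
    rw [← e]
    exact (le_normalizer_pCoreOf 2 N).trans (normalizer_le_normalizer_J _)
  have hJ1 : Jt (T : Subgroup G) ≠ ⊥ := fun e => Bm_ne_bot c hM (by
    have hT : (T : Subgroup G) = ⊥ := by
      by_contra h
      exact J_ne_bot T.isPGroup' h e
    exact le_bot_iff.1 (inf_le_left.trans hT.le))
  intro hJM
  obtain ⟨N, N', hN, hN', hne⟩ := c.two
  obtain ⟨L, hL, hLJ⟩ : ∃ L, Mx T L ∧ ¬ Jt (T : Subgroup G) ≤ Qk L := by
    by_contra h
    push Not at h
    exact hne (c.eq_of_norm hN hN' (isPGroup_J T.isPGroup') hJ1 (hle hN (h N hN))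
      (hle hN' (h N' hN')))
  have e := hM.1.2 L hL.1.1 ((hle hM hJM).trans (nJ_le_of_moved c hL hLJ))
  exact hLJ (e ▸ hJM)

theorem kind {M : Subgroup G} (hM : Mx T M) :
    (∃ K, Single T M K) ∨ ∃ K₁ K₂, Double T M K₁ K₂ :=
  c.single_or_double hM (moved c hM)

theorem nJ_le {M : Subgroup G} (hM : Mx T M) : normalizer (Jt (T : Subgroup G) : Set G) ≤ M :=
  nJ_le_of_moved c hM (moved c hM)

/-- A piece normalises the part of `T` centralising its four-group and containing its core. -/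
theorem norm_kernel {L R : Subgroup G} (p : Piece (T : Subgroup G) (Bm T) L)
    (hR : ∀ t ∈ R, t ∈ normalizer (L : Set G)) (hRW : R ≤ centralizer (wOf L : Set G))
    (hQ : Qk L ≤ R) : L ≤ normalizer (R : Set G) := by
  intro x hx
  refine mem_normalizer_of_cjg_le ?_
  rintro _ ⟨t, ht, rfl⟩
  rw [MulEquiv.coe_toMonoidHom, MulAut.conj_apply]
  have hxL : ⁅x, t⁆ ∈ L := by
    rw [commutatorElement_def, show x * t * x⁻¹ * t⁻¹ = x * (t * x⁻¹ * t⁻¹) by group]
    exact mul_mem hx (conj_mem_normalizer (hR t ht) (inv_mem hx))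
  have hxC : ⁅x, t⁆ ∈ centralizer (wOf L : Set G) := by
    rw [commutatorElement_def]
    exact mul_mem (conj_mem_normalizer ((normalizer_le_normalizer_wOf L).trans
      (normalizer_le_normalizer_centralizer' _) (le_normalizer hx)) (hRW ht)) (inv_mem (hRW ht))
  have hxQ : ⁅x, t⁆ ∈ Qk L := (p.inf_B c.frame).le
    ⟨hxL, ((p.H_inf_cent c.frame).le ⟨mem_sup_left hxL, hxC⟩).1⟩
  rw [show x * t * x⁻¹ = ⁅x, t⁆ * t by rw [commutatorElement_def]; group]
  exact mul_mem (hQ hxQ) ht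

theorem W_le_T {L : Subgroup G} (p : Piece (T : Subgroup G) (Bm T) L) :
    wOf L ≤ (T : Subgroup G) := (p.W_le_B c.frame).trans inf_le_left

theorem Single.W_ne_bot {L : Subgroup G} (p : Piece (T : Subgroup G) (Bm T) L) : wOf L ≠ ⊥ := by
  intro e
  have := comp_wcard p.comp
  rw [e, card_bot] at this
  omega

/-- Pushing up the kernel of a single component. -/
theorem Single.no_vanish {M M' X K' : Subgroup G} (g : Gen T M X) (s' : Single T M' K')
    (hM : Mx T M) (hne : M ≠ M')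
    (hX : X ⊓ (T : Subgroup G) ≤ centralizer (wOf K' : Set G)) : False := by
  set R := (T : Subgroup G) ⊓ centralizer (wOf K' : Set G)
  set M₀ := K' ⊔ (T : Subgroup G)
  have hWR : wOf K' ≤ R := le_inf (W_le_T c s'.piece) fun w hw u hu =>
    comp_W_comm s'.piece.comp hu hw
  have hTR : (T : Subgroup G) ≤ normalizer (R : Set G) :=
    (le_inf le_normalizer ((s'.T_norm.trans (normalizer_le_normalizer_wOf K')).trans
      (normalizer_le_normalizer_centralizer' _))).trans (normalizer_inf_le_normalizer_inf _ _)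
  have hKR : K' ≤ normalizer (R : Set G) := norm_kernel c s'.piece (fun t ht => s'.T_norm ht.1)
    inf_le_right (le_inf ((s'.piece.Qk_le_B c.frame).trans inf_le_left) (Qk_le_centralizer_wOf K'))
  have h := g.push c (c.hyp M hM).even (M₀ := M₀) le_sup_right
    (fun e => Single.W_ne_bot c s'.piece (le_bot_iff.1 (hWR.trans e.le))) inf_le_left
    (le_inf inf_le_right hX) (sup_le hKR hTR)
  exact hne (s'.uniq M hM (le_sup_left.trans h))

/-- Pushing up the kernel of two components. -/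
theorem Double.no_vanish {M M' X L₁ L₂ : Subgroup G} (g : Gen T M X) (d' : Double T M' L₁ L₂)
    (hM : Mx T M) (hM' : Mx T M') (hne : M ≠ M')
    (hX₁ : X ⊓ (T : Subgroup G) ≤ centralizer (wOf L₁ : Set G))
    (hX₂ : X ⊓ (T : Subgroup G) ≤ centralizer (wOf L₂ : Set G)) : False := by
  set R := (T : Subgroup G) ⊓ centralizer (wOf L₁ : Set G) ⊓ centralizer (wOf L₂ : Set G)
  set M₀ := L₁ ⊔ L₂ ⊔ (T : Subgroup G)
  have f := c.frame
  have hWR : wOf L₁ ≤ R := by
    refine le_inf (le_inf (W_le_T c d'.piece₁) fun w hw u hu => comp_W_comm d'.piece₁.comp hu hw) ?_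
    exact ((wOf_le_Qk L₁).trans (pCoreOf_le 2 L₁)).trans d'.cent₁
  have hTR : (T : Subgroup G) ≤ normalizer (R : Set G) := by
    intro t ht
    refine mem_normalizer_of_cjg_le ?_
    rw [cjg, map_inf _ _ _ (MulAut.conj t).injective, map_inf _ _ _ (MulAut.conj t).injective,
      conj_map_of_mem (le_normalizer ht)]
    have hc : ∀ L, (centralizer (wOf L : Set G)).map (MulAut.conj t).toMonoidHom =
        centralizer (wOf (cjg t L) : Set G) := fun L => by
      rw [wOf_cjg]; exact cjg_centralizer t _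
    rw [hc, hc]
    rcases d'.perm t (hM'.2 ht) with ⟨h1, h2⟩ | ⟨h1, h2⟩
    · rw [cjg_eq_self.2 h1, cjg_eq_self.2 h2]
    · rw [h1, h2, inf_right_comm]
  have hnorm : ∀ t ∈ R, t ∈ normalizer (L₁ : Set G) ∧ t ∈ normalizer (L₂ : Set G) := fun t ht =>
    d'.stab t (hM'.2 ht.1.1) (centralizer_le_normalizer _ ht.1.2)
  have hQ₁ : Qk L₁ ≤ R := le_inf (le_inf ((d'.piece₁.Qk_le_B f).trans inf_le_left)
    (Qk_le_centralizer_wOf L₁)) ((pCoreOf_le 2 L₁).trans d'.cent₁)
  have hQ₂ : Qk L₂ ≤ R := le_inf (le_inf ((d'.piece₂.Qk_le_B f).trans inf_le_left)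
    ((pCoreOf_le 2 L₂).trans d'.cent₂)) (Qk_le_centralizer_wOf L₂)
  have h₁ := norm_kernel c d'.piece₁ (fun t ht => (hnorm t ht).1)
    (inf_le_left.trans inf_le_right) hQ₁
  have h₂ := norm_kernel c d'.piece₂ (fun t ht => (hnorm t ht).2) inf_le_right hQ₂
  have h := g.push c (c.hyp M hM).even (M₀ := M₀) le_sup_right
    (fun e => Single.W_ne_bot c d'.piece₁ (le_bot_iff.1 (hWR.trans e.le)))
    (inf_le_left.trans inf_le_left) (le_inf (le_inf inf_le_right hX₁) hX₂)
    (sup_le (sup_le h₁ h₂) hTR)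
  exact hne (d'.uniq M hM ((le_sup_left.trans le_sup_left).trans h)
    ((le_sup_right.trans le_sup_left).trans h))

theorem Bm_norm : (T : Subgroup G) ≤ normalizer (Bm T : Set G) := c.frame.T_norm

theorem cjg_Qc {t : G} (ht : t ∈ (T : Subgroup G)) (L : Subgroup G) :
    cjg t (Qc (Bm T) L) = Qc (Bm T) (cjg t L) := by
  rw [cjg, map_inf _ _ _ (MulAut.conj t).injective, conj_map_of_mem (Bm_norm c ht)]
  congr 1
  show cjg t (centralizer (wOf L : Set G)) = _
  rw [cjg_centralizer, wOf_cjg]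

/-- Some moving pair between two maximal subgroups with two components each. -/
theorem dir {N N' L₁ L₂ L₁' L₂' : Subgroup G} (hN : Mx T N) (hN' : Mx T N') (hne : N ≠ N')
    (d : Double T N L₁ L₂) (d' : Double T N' L₁' L₂') :
    ¬ Qk L₁ ≤ Qc (Bm T) L₁' ∨ ¬ Qk L₁ ≤ Qc (Bm T) L₂' := by
  by_contra h
  push Not at h
  obtain ⟨t, ht, hswap⟩ := d.swap
  have h₂ : ∀ {L L' : Subgroup G}, Qk L₁ ≤ Qc (Bm T) L → cjg t L = L' → Qk L₂ ≤ Qc (Bm T) L' := by
    intro L L' hle e
    rw [← hswap, Qk_cjg, ← e, ← cjg_Qc c ht]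
    exact cjg_mono hle
  have hboth : Qk L₂ ≤ Qc (Bm T) L₁' ∧ Qk L₂ ≤ Qc (Bm T) L₂' := by
    rcases d'.perm t (hN'.2 ht) with ⟨a, b⟩ | ⟨a, b⟩
    · exact ⟨h₂ h.1 (cjg_eq_self.2 a), h₂ h.2 (cjg_eq_self.2 b)⟩
    · exact ⟨h₂ h.2 b, h₂ h.1 a⟩
  refine d'.no_vanish c (d.gen c hN) hN hN' hne ?_ ?_
  · exact (d.inf_T c hN).trans (sup_le (h.1.trans inf_le_right) (hboth.1.trans inf_le_right))
  · exact (d.inf_T c hN).trans (sup_le (h.2.trans inf_le_right) (hboth.2.trans inf_le_right))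

theorem Single.no_double {M M' K L₁ L₂ : Subgroup G} (s : Single T M K) (d' : Double T M' L₁ L₂)
    (hM : Mx T M) (hM' : Mx T M') : False := by
  have f := c.frame
  have hne : M ≠ M' := by
    rintro rfl
    obtain ⟨Ws, E, o⟩ := c.exists_ovg hM (moved c hM)
    have hQ₁ : Qk M ≤ normalizer (K : Set G) := (c.hyp M hM).core_le.trans s.T_norm
    obtain ⟨W, hW, hKW, -⟩ := c.block_of hM o s.piece.comp s.le hQ₁
    have hTW : (T : Subgroup G) ≤ normalizer (W : Set G) :=
      hKW ▸ s.T_norm.trans (normalizer_le_normalizer_wOf K)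
    have hQL : Qk M ≤ normalizer (L₁ : Set G) ∧ Qk M ≤ normalizer (L₂ : Set G) := by
      have key : ∀ q ∈ Qk M, q ∈ normalizer (L₁ : Set G) ∧ q ∈ normalizer (L₂ : Set G) := by
        intro q hq
        rcases d'.perm q (pCoreOf_le 2 M hq) with h | ⟨h1, -⟩
        · exact h
        exfalso
        obtain ⟨x, hx, hxo⟩ := comp_exists_three d'.piece₁.comp
        obtain ⟨v, hv, hv0, hv1, -⟩ := d'.piece₁.exists_v f
        have hqx : q * x * q⁻¹ ∈ L₂ := h1.le (conj_mem_cjg hx)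
        have hd : q * x * q⁻¹ * x⁻¹ ∈ Qk M := by
          rw [show q * x * q⁻¹ * x⁻¹ = q * (x * q⁻¹ * x⁻¹) by group]
          exact mul_mem hq (conj_mem_normalizer (le_normalizer_pCoreOf 2 M (d'.le₁ hx)) (inv_mem hq))
        have hdB := (c.hyp M hM).core_le hd
        have hdn : q * x * q⁻¹ * x⁻¹ ∈ normalizer (L₁ : Set G) :=
          mul_mem (d'.norm₁ hqx) (inv_mem (le_normalizer hx))
        have e := d'.fix_v c hM hv hv0 hv1 hdB hdn
        have hxi : x⁻¹ ∈ L₁ := inv_mem hx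
        refine hv1 (comp_fixed_W d'.piece₁.comp hxi (by rw [orderOf_inv, hxo]) hv ?_)
        have hw := conj_mem_normalizer (normalizer_le_normalizer_wOf L₁ (le_normalizer hxi)) hv
        rw [inv_inv] at hw
        have e2 := d'.cent₂ hqx _ hw
        refine mul_inv_eq_iff_eq_mul.1 ?_
        rw [inv_inv]
        calc x⁻¹ * v * x = (q * x * q⁻¹) * (x⁻¹ * v * x) * (q * x * q⁻¹)⁻¹ := by
              rw [← e2, mul_inv_cancel_right]
          _ = (q * x * q⁻¹ * x⁻¹) * v * (q * x * q⁻¹ * x⁻¹)⁻¹ := by group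
          _ = v := by rw [e, mul_inv_cancel_right]
      exact ⟨fun q hq => (key q hq).1, fun q hq => (key q hq).2⟩
    obtain ⟨U₁, hU₁, hL₁, -⟩ := c.block_of hM o d'.piece₁.comp d'.le₁ hQL.1
    obtain ⟨U₂, hU₂, hL₂, -⟩ := c.block_of hM o d'.piece₂.comp d'.le₂ hQL.2
    obtain ⟨t, ht, hswap⟩ := d'.swap
    have hU : U₁ ≠ U₂ := by
      intro e
      have h := d'.disj
      rw [hL₁, hL₂, ← e, inf_idem] at h
      have := comp_wcard d'.piece₁.comp
      rw [hL₁, h, card_bot] at this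
      omega
    have hne' : cjg t U₁ ≠ U₁ := by
      rw [← hL₁, ← wOf_cjg, hswap, hL₁, hL₂]
      exact hU.symm
    rcases c.eq_or_eq hM o hU₁ hU₂ hU hW with e | e
    · exact hne' (cjg_eq_self.2 (e ▸ hTW ht))
    · refine hne' ?_
      have h2 : cjg t U₁ = U₂ := by rw [← hL₁, ← wOf_cjg, hswap, hL₂]
      have h3 : t ∈ normalizer (U₂ : Set G) := e ▸ hTW ht
      exact (hU (map_injective (MulAut.conj t).injective (h2.trans (cjg_eq_self.2 h3).symm))).elim
  -- a moving pair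
  have hdir : ¬ Qk K ≤ Qc (Bm T) L₁ ∨ ¬ Qk K ≤ Qc (Bm T) L₂ := by
    by_contra h
    push Not at h
    exact d'.no_vanish c (s.gen c) hM hM' hne ((s.inf_T c).le.trans (h.1.trans inf_le_right))
      ((s.inf_T c).le.trans (h.2.trans inf_le_right))
  obtain ⟨t, ht, hswap⟩ := d'.swap
  have hswap₂ : cjg t L₂ = L₁ := by
    rcases d'.perm t (hM'.2 ht) with ⟨h1, -⟩ | ⟨-, h2⟩
    · exfalso
      rw [cjg_eq_self.2 h1] at hswap
      have h := d'.disj
      rw [← hswap, inf_idem] at h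
      exact Single.W_ne_bot c d'.piece₁ h
    · exact h2
  have hmove : ∀ {L L' : Subgroup G}, ¬ Qk K ≤ Qc (Bm T) L → cjg t L = L' →
      ¬ Qk K ≤ Qc (Bm T) L' := by
    intro L L' hn e hle
    refine hn fun q hq => ?_
    have h1 : t * q * t⁻¹ ∈ cjg t (Qc (Bm T) L) := by
      rw [cjg_Qc c ht, e]
      exact hle (conj_mem_normalizer (normalizer_le_normalizer_Qk K (s.T_norm ht)) hq)
    simpa [mem_cjg, mul_assoc] using h1
  have h12 : ¬ Qk K ≤ Qc (Bm T) L₁ ∧ ¬ Qk K ≤ Qc (Bm T) L₂ := by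
    rcases hdir with h | h
    · exact ⟨h, hmove h hswap⟩
    · exact ⟨hmove h hswap₂, h⟩
  obtain ⟨v, hv, hv0, hv1, -⟩ := s.piece.exists_v f
  obtain ⟨v₁, hv₁, hv₁0, hv₁1, -⟩ := d'.piece₁.exists_v f
  obtain ⟨v₂, hv₂, hv₂0, hv₂1, -⟩ := d'.piece₂.exists_v f
  have key : ∀ {L : Subgroup G} (p : Piece (T : Subgroup G) (Bm T) L), ¬ Qk K ≤ Qc (Bm T) L →
      ∀ u ∈ wOf L, u ∈ Z0 (T : Subgroup G) → u ≠ 1 → v = u := by
    intro L p hn u hu hu0 hu1
    obtain ⟨e, -⟩ := pair f s.piece p hn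
    refine fix_eq f s.piece p (fun hc => hn ?_) hv hv0 hv1 hu hu0 hu1
    exact le_inf (s.piece.Qk_le_B f) (e.le.trans hc)
  exact hv₁1 (mem_bot.1 (d'.disj.le ⟨hv₁,
    ((key d'.piece₁ h12.1 v₁ hv₁ hv₁0 hv₁1).symm.trans
      (key d'.piece₂ h12.2 v₂ hv₂ hv₂0 hv₂1)) ▸ hv₂⟩))

theorem Single.two {M M' K K' : Subgroup G} (s : Single T M K) (s' : Single T M' K') (hM : Mx T M)
    (hM' : Mx T M') (hne : M ≠ M') :
    Nonempty (↥(T : Subgroup G) ≃* DihedralGroup 4) ∨
      Nonempty (↥(T : Subgroup G) ≃* Multiplicative (ZMod 2) × DihedralGroup 4) := by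
  have f := c.frame
  have hdir : ¬ Qk K ≤ Qc (Bm T) K' := fun h =>
    s'.no_vanish c (s.gen c) hM hne ((s.inf_T c).le.trans (h.trans inf_le_right))
  obtain ⟨e, -, -, -, -, hd⟩ := pair f s.piece s'.piece hdir
  have hcommon : ∀ R : Subgroup G, IsPGroup 2 ↥R → (T : Subgroup G) ≤ normalizer (R : Set G) →
      K ≤ normalizer (R : Set G) → K' ≤ normalizer (R : Set G) → R = ⊥ := by
    intro R hR hTR hKR hK'R
    by_contra hR1
    obtain ⟨N, hN, hle⟩ := c.exists_max hR hR1 hTR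
    exact hne ((s.uniq N hN (hKR.trans hle)).symm.trans (s'.uniq N hN (hK'R.trans hle)))
  have hcor : cor (Bm T) K K' = ⊥ := by
    refine hcommon _ (f.pB.to_le cor_le) ?_ ((le_sup_right.trans le_sup_left).trans le_normalizer_cor)
      (le_sup_right.trans le_normalizer_cor)
    intro t ht
    refine mem_normalizer_of_cjg_le ?_
    have hn : ∀ {A : Subgroup G}, t ∈ normalizer (A : Set G) →
        A ≤ normalizer (cor (Bm T) K K' : Set G) →
        A ≤ normalizer (cjg t (cor (Bm T) K K') : Set G) := by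
      intro A hA hn
      calc A = cjg t A := (cjg_eq_self.2 hA).symm
        _ ≤ cjg t (normalizer (cor (Bm T) K K' : Set G)) := cjg_mono hn
        _ ≤ _ := Subgroup.le_normalizer_map _
    exact le_cor ((cjg_mono cor_le).trans (cjg_eq_self.2 (Bm_norm c ht)).le)
      (hn (Bm_norm c ht) ((le_sup_left.trans le_sup_left).trans le_normalizer_cor))
      (hn (s.T_norm ht) ((le_sup_right.trans le_sup_left).trans le_normalizer_cor))
      (hn (s'.T_norm ht) (le_sup_right.trans le_normalizer_cor))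
  -- `T` centralises `Y`
  obtain ⟨v, hv, hv0, hv1, -⟩ := s.piece.exists_v f
  obtain ⟨v', hv', hv'0, hv'1, -⟩ := s'.piece.exists_v f
  have hWW : ¬ wOf K ≤ centralizer (wOf K' : Set G) := fun h =>
    hdir (le_inf (s.piece.Qk_le_B f) (e.le.trans h))
  have hvv := fix_eq f s.piece s'.piece hWW hv hv0 hv1 hv' hv'0 hv'1
  subst hvv
  set Y := Z0 (T : Subgroup G)
  have hYe : IsElementaryAbelian 2 Y := elem_omegaCenterOf _
  have hTY : (T : Subgroup G) ≤ normalizer (Y : Set G) :=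
    (le_normalizer_J _).trans (normalizer_le_normalizer_omegaCenterOf _)
  set F := Y ⊓ centralizer (K : Set G) with hF
  have hnF : ∀ {L : Subgroup G}, (T : Subgroup G) ≤ normalizer (L : Set G) →
      (T : Subgroup G) ≤ normalizer ((Y ⊓ centralizer (L : Set G) : Subgroup G) : Set G) := fun h =>
    (le_inf hTY (h.trans (normalizer_le_normalizer_centralizer' _))).trans
      (normalizer_inf_le_normalizer_inf _ _)
  have hFF : F ⊓ (Y ⊓ centralizer (K' : Set G)) = ⊥ := by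
    refine hcommon _ (f.pB.to_le ((inf_le_left.trans inf_le_left).trans f.Z0_le_B)) ?_ ?_ ?_
    · exact (le_inf (hnF s.T_norm) (hnF s'.T_norm)).trans (normalizer_inf_le_normalizer_inf _ _)
    · exact (le_centralizer_iff.1 (inf_le_left.trans inf_le_right)).trans (centralizer_le_normalizer _)
    · exact (le_centralizer_iff.1 (inf_le_right.trans inf_le_right)).trans (centralizer_le_normalizer _)
  have hshift : ∀ y ∈ F, y ≠ 1 → v * y ∈ Y ⊓ centralizer (K' : Set G) := by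
    intro y hy hy1
    obtain ⟨d, hd0, hdK, h | h⟩ := s'.piece.Z0_split f hv' hv0 hv1 hy.1
    · exact absurd (mem_bot.1 (hFF.le ⟨hy, hy.1, h ▸ hdK⟩)) hy1
    · rw [h, ← mul_assoc, comp_wexp s.piece.comp v hv, one_mul]
      exact ⟨hd0, hdK⟩
  have huniq : ∀ y₁ ∈ F, ∀ y₂ ∈ F, y₁ ≠ 1 → y₂ ≠ 1 → y₁ = y₂ := by
    intro y₁ h₁ y₂ h₂ n₁ n₂
    have h3 := mul_mem (inv_mem (hshift y₁ h₁ n₁)) (hshift y₂ h₂ n₂)
    rw [show (v * y₁)⁻¹ * (v * y₂) = y₁⁻¹ * y₂ by group] at h3
    exact inv_mul_eq_one.1 (mem_bot.1 (hFF.le ⟨mul_mem (Subgroup.inv_mem _ h₁) h₂, h3⟩))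
  have hTv : ∀ t ∈ (T : Subgroup G), t * v * t⁻¹ = v := by
    intro t ht
    obtain ⟨z, -, -, -, hu⟩ := comp_exists_z T.isPGroup' s.piece.comp
    have e1 := (hu _ (conj_mem_normalizer (normalizer_le_normalizer_wOf K (s.T_norm ht)) hv)
      (conj_mem_normalizer (hTY ht) hv0)).resolve_left fun e => hv1 (conj_eq_one_iff.1 e)
    exact e1.trans ((hu v hv hv0).resolve_left hv1).symm
  have hTB : Bm T = (T : Subgroup G) := by
    refine le_antisymm inf_le_left (le_inf le_rfl fun t ht y hy => ?_)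
    obtain ⟨d, hd0, hdK, h⟩ := s.piece.Z0_split f hv hv0 hv1 hy
    have hd : t * d * t⁻¹ = d := by
      rcases eq_or_ne d 1 with rfl | hd1
      · simp
      · exact huniq _ (conj_mem_normalizer (hnF s.T_norm ht) ⟨hd0, hdK⟩) _ ⟨hd0, hdK⟩
          (fun e => hd1 (conj_eq_one_iff.1 e)) hd1
    refine (mul_inv_eq_iff_eq_mul.1 ?_).symm
    rcases h with rfl | rfl
    · exact hd
    · rw [show t * (v * d) * t⁻¹ = (t * v * t⁻¹) * (t * d * t⁻¹) by group, hTv t ht, hd]
  have := hd hcor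
  rwa [hTB] at this

end Cfsg.Agent.QTTwoMax
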