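import Cfsg.Agent.Lib.QTTwoMax.Cor

/-!
Two pieces acting nontrivially on their core.
-/

set_option autoImplicit false
set_option linter.unusedSectionVars false
set_option linter.style.haveILetI false

namespace Cfsg.Agent.QTTwoMax

open Subgroup Cfsg Cfsg.Agent.CharP Cfsg.Agent.JComp
open scoped commutatorElement

variable {G : Type*} [Group G] [Finite G] {T B K K' : Subgroup G}

theorem two_mul_card_le {H S : Subgroup G} (hle : H ≤ S) {s : G} (hs : s ∈ S) (hsH : s ∉ H) :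
    2 * Nat.card H ≤ Nat.card S := by
  have h := card_mul_relIndex' hle
  have h1 : H.relIndex S ≠ 1 := fun e => hsH (relIndex_eq_one.1 e hs)
  have h0 : H.relIndex S ≠ 0 := index_ne_zero_of_finite
  have h3 : 2 ≤ H.relIndex S := by omega
  rw [← h, mul_comm 2]
  exact Nat.mul_le_mul_left _ h3

/-- Both pieces move their core. -/
structure Act (B K K' : Subgroup G) : Prop where
  left : ¬ K ≤ centralizer (cor B K K' : Set G)
  right : ¬ K' ≤ centralizer (cor B K K' : Set G)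

namespace Act

variable (c : Act B K K') (f : Frame T B) (p : Piece T B K) (p' : Piece T B K')
include c f p p'

theorem swap : Act B K' K := ⟨cor_comm (B := B) ▸ c.right, cor_comm (B := B) ▸ c.left⟩

theorem cent_cor_le : B ⊓ centralizer (cor B K K' : Set G) ≤ cor B K K' := by
  have h := (p.centralizes_or f H_norm_cor).resolve_left c.left
  have h' := (p'.centralizes_or f H_norm_cor').resolve_left c.right
  have e : (K ⊔ B) ⊓ centralizer (cor B K K' : Set G) = B ⊓ centralizer (cor B K K' : Set G) :=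
    le_antisymm (le_inf (h.trans inf_le_left) inf_le_right) (inf_le_inf_right _ le_sup_right)
  have e' : (K' ⊔ B) ⊓ centralizer (cor B K K' : Set G) = B ⊓ centralizer (cor B K K' : Set G) :=
    le_antisymm (le_inf (h'.trans inf_le_left) inf_le_right) (inf_le_inf_right _ le_sup_right)
  have hn : ∀ {L : Subgroup G}, L ≤ normalizer (cor B K K' : Set G) → L ≤ normalizer
      ((L ⊓ centralizer (cor B K K' : Set G) : Subgroup G) : Set G) := fun hL =>
    (le_inf le_normalizer (hL.trans (normalizer_le_normalizer_centralizer' _))).trans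
      (normalizer_inf_le_normalizer_inf _ _)
  have h1 := hn (H_norm_cor (B := B) (K := K) (K' := K'))
  have h2 := hn (H_norm_cor' (B := B) (K := K) (K' := K'))
  rw [e] at h1
  rw [e'] at h2
  exact le_cor inf_le_left (le_sup_right.trans h1) (le_sup_left.trans h1) (le_sup_left.trans h2)

theorem Z0_le_U : Z0 T ≤ omegaCenterOf (cor B K K') := fun y hy => by
  have hyB := f.Z0_le_B hy
  have hc : ∀ k ∈ cor B K K', k * y = y * k := fun k hk => f.B_cent (cor_le hk) hy
  exact mem_omegaCenterOf.2 ⟨c.cent_cor_le f p p' ⟨hyB, fun k hk => hc k hk⟩, hc,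
    (mem_omegaCenterOf.1 hy).2.2⟩

theorem H_norm_U : K ⊔ B ≤ normalizer (omegaCenterOf (cor B K K') : Set G) :=
  H_norm_cor.trans (normalizer_le_normalizer_omegaCenterOf _)

theorem W_le_U : wOf K ≤ omegaCenterOf (cor B K K') := by
  obtain ⟨v, hv, hv0, hv1, -⟩ := p.exists_v f
  obtain ⟨x, hx, hxo⟩ := comp_exists_three p.comp
  have hvU := c.Z0_le_U f p p' hv0
  refine inf_eq_left.1 (four_eq_of_invariant (comp_wcard p.comp) (comp_wexp p.comp) inf_le_left
    (x := x) (h := v) ⟨hv, hvU⟩ hv1 ⟨?_, ?_⟩ fun e => hv1 ?_)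
  · exact conj_mem_normalizer (normalizer_le_normalizer_wOf K (le_normalizer hx)) hv
  · exact conj_mem_normalizer (c.H_norm_U f p p' (mem_sup_left hx)) hvU
  · exact comp_fixed_W p.comp hx hxo hv (mul_inv_eq_iff_eq_mul.1 e)

theorem W'_le_U : wOf K' ≤ omegaCenterOf (cor B K K') := by
  rw [cor_comm]; exact (c.swap f p p').W_le_U f p' p

theorem U_le_cor : omegaCenterOf (cor B K K') ≤ cor B K K' := omegaCenterOf_le _

theorem U_le_centW : omegaCenterOf (cor B K K') ≤ centralizer (wOf K : Set G) :=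
  ((c.U_le_cor f p p').trans (cor_le_Qc p f)).trans inf_le_right

/-- Replacing the part of an offender moving `W`. -/
theorem offender {A : Subgroup G} (hA : MaxEA T A) {a : G} (ha : a ∈ A)
    (haC : a ∉ centralizer (wOf K : Set G)) :
    MaxEA T (A ⊓ centralizer (wOf K : Set G) ⊔
        omegaCenterOf (cor B K K') ⊓ centralizer ((A ⊓ centralizer (wOf K : Set G) : Subgroup G) : Set G)) ∧
      Nat.card A = 2 * Nat.card ↥(A ⊓ centralizer (wOf K : Set G)) ∧
      Nat.card ↥(omegaCenterOf (cor B K K') ⊓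
          centralizer ((A ⊓ centralizer (wOf K : Set G) : Subgroup G) : Set G)) =
        2 * Nat.card ↥(omegaCenterOf (cor B K K') ⊓ centralizer (A : Set G)) ∧
      omegaCenterOf (cor B K K') ⊓ centralizer (A : Set G) ≤ A := by
  set U := omegaCenterOf (cor B K K')
  set A0 := A ⊓ centralizer (wOf K : Set G)
  set C0 := U ⊓ centralizer (A0 : Set G)
  set CA := U ⊓ centralizer (A : Set G)
  have hUe : IsElementaryAbelian 2 U := elem_omegaCenterOf _
  have hCAA : CA ≤ A := fun u hu => mem_maxEA_of_centralizes hA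
    (f.B_le (cor_le (c.U_le_cor f p p' hu.1))) (fun b hb => hu.2 b hb)
    (isElementaryAbelian_two_sq hUe hu.1)
  have hCAC0 : CA ≤ C0 := le_inf inf_le_left
    (inf_le_right.trans (centralizer_le (SetLike.coe_subset_coe.2 inf_le_left)))
  obtain ⟨w, hw, hwa⟩ : ∃ w ∈ wOf K, a * w ≠ w * a := by
    by_contra h
    push Not at h
    exact haC fun w hw => (h w hw).symm
  have hwC0 : w ∈ C0 := ⟨c.W_le_U f p p' hw, fun b hb => (hb.2 w hw).symm⟩
  have h2 := two_mul_card_le hCAC0 hwC0 fun h => hwa (h.2 a ha)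
  have hidx := comp_A_index p.comp hA ha haC
  have hidx' := two_mul_card_le (inf_le_left : A0 ≤ A) ha fun h => haC h.2
  have hcomm : ∀ b ∈ A0, ∀ u ∈ C0, b * u = u * b := fun b hb u hu => hu.2 b hb
  have hSe : IsElementaryAbelian 2 (A0 ⊔ C0) :=
    PLocal.ThompsonSubgroup.IsElementaryAbelian.sup
      (PLocal.ThompsonSubgroup.IsElementaryAbelian.mono hA.2.1 inf_le_left)
      (PLocal.ThompsonSubgroup.IsElementaryAbelian.mono hUe inf_le_left)
      fun b hb u hu => (hcomm b hb u hu).symm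
  have hST : A0 ⊔ C0 ≤ T := sup_le (inf_le_left.trans hA.1)
    ((inf_le_left.trans ((c.U_le_cor f p p').trans cor_le)).trans f.B_le)
  have hinf : Nat.card ↥(A0 ⊓ C0) ≤ Nat.card CA := card_le_of_le fun u hu =>
    ⟨hu.2.1, fun b hb => isElementaryAbelian_two_comm hA.2.1 hb hu.1.1⟩
  have hc := card_sup_mul_inf (le_normalizer_of_commute (A := A0) (B := C0) hcomm)
  have hle : Nat.card ↥(A0 ⊔ C0) ≤ Nat.card A := by rw [hA.card]; exact card_le_aOrd hST hSe
  have hge : Nat.card A ≤ Nat.card ↥(A0 ⊔ C0) := by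
    have h : Nat.card A * Nat.card CA ≤ Nat.card ↥(A0 ⊔ C0) * Nat.card CA := by
      calc _ ≤ (2 * Nat.card A0) * Nat.card CA := Nat.mul_le_mul_right _ hidx
        _ = Nat.card A0 * (2 * Nat.card CA) := by ring
        _ ≤ Nat.card A0 * Nat.card C0 := Nat.mul_le_mul_left _ h2
        _ = _ := hc.symm
        _ ≤ _ := Nat.mul_le_mul_left _ hinf
    exact Nat.le_of_mul_le_mul_right h Nat.card_pos
  refine ⟨maxEA_of_card hST hSe (hA.card ▸ hge), le_antisymm hidx hidx', le_antisymm ?_ h2, hCAA⟩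
  have h : Nat.card A0 * Nat.card C0 ≤ Nat.card A0 * (2 * Nat.card CA) := by
    rw [← hc]
    calc _ ≤ (2 * Nat.card A0) * Nat.card CA := Nat.mul_le_mul (hle.trans hidx) hinf
      _ = _ := by ring
  exact Nat.le_of_mul_le_mul_left h Nat.card_pos

/-- Commutators of the kernel of an offender with the offender. -/
theorem offender_comm {A : Subgroup G} (hA : MaxEA T A) {a u : G} (ha : a ∈ A)
    (haC : a ∉ centralizer (wOf K : Set G)) (hu : u ∈ omegaCenterOf (cor B K K'))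
    (hu0 : u ∈ centralizer ((A ⊓ centralizer (wOf K : Set G) : Subgroup G) : Set G)) :
    ∃ w ∈ wOf K, u * w ∈ centralizer (A : Set G) := by
  obtain ⟨-, -, hC, -⟩ := c.offender f p p' hA ha haC
  set U := omegaCenterOf (cor B K K')
  set C0 := U ⊓ centralizer ((A ⊓ centralizer (wOf K : Set G) : Subgroup G) : Set G)
  set CA := U ⊓ centralizer (A : Set G)
  by_cases huA : u ∈ centralizer (A : Set G)
  · exact ⟨1, one_mem _, by rwa [mul_one]⟩
  obtain ⟨w, hw, hwa⟩ : ∃ w ∈ wOf K, a * w ≠ w * a := by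
    by_contra h
    push Not at h
    exact haC fun w hw => (h w hw).symm
  have hle : CA ≤ C0 := le_inf inf_le_left
    (inf_le_right.trans (centralizer_le (SetLike.coe_subset_coe.2 inf_le_left)))
  have hidx : (CA.subgroupOf C0).index = 2 := by
    have h := card_mul_relIndex' hle
    rw [hC, mul_comm 2] at h
    exact Nat.eq_of_mul_eq_mul_left Nat.card_pos h
  have hwC0 : w ∈ C0 := ⟨c.W_le_U f p p' hw, fun b hb => (hb.2 w hw).symm⟩
  refine ⟨w, hw, (mem_subgroupOf.1 ((mul_mem_iff_of_index_two (H := CA.subgroupOf C0) hidx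
    (a := ⟨u, hu, hu0⟩) (b := ⟨w, hwC0⟩)).2 (iff_of_false ?_ ?_))).2⟩
  · exact fun h => huA (mem_subgroupOf.1 h).2
  · exact fun h => hwa ((mem_subgroupOf.1 h).2 a ha)

/-- The direction given by an offender of smallest image. -/
theorem dir_one {A : Subgroup G} (hA : MaxEA T A) {a : G} (ha : a ∈ A)
    (haC : a ∉ centralizer (wOf K : Set G))
    (hmin : ∀ A₁, MaxEA T A₁ → ¬ A₁ ≤ Qc B K ⊓ Qc B K' →
      Nat.card ↥(A ⊔ cor B K K') ≤ Nat.card ↥(A₁ ⊔ cor B K K')) :
    Qk K ≤ Qc B K' := by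
  obtain ⟨hAs, -, -, hCAA⟩ := c.offender f p p' hA ha haC
  set C := cor B K K' with hCdef
  set U := omegaCenterOf C with hUdef
  set A0 := A ⊓ centralizer (wOf K : Set G)
  set C0 := U ⊓ centralizer (A0 : Set G)
  have hAB : A ≤ B := hA.le_J.trans f.J_le_B
  have hA0Q : A0 ≤ Qc B K := inf_le_inf_right _ hAB
  have hUQ : U ≤ Qc B K := (c.U_le_cor f p p').trans (cor_le_Qc p f)
  have hSQ : A0 ⊔ C0 ≤ Qc B K := sup_le hA0Q (inf_le_left.trans hUQ)
  have hlt : Nat.card ↥((A0 ⊔ C0) ⊔ C) < Nat.card ↥(A ⊔ C) := by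
    have hle : (A0 ⊔ C0) ⊔ C ≤ A ⊔ C := sup_le (sup_le (inf_le_left.trans le_sup_left)
      ((inf_le_left.trans (c.U_le_cor f p p')).trans le_sup_right)) le_sup_right
    refine lt_of_le_of_ne (card_le_of_le hle) fun e => haC ?_
    exact (sup_le hSQ (cor_le_Qc p f) ((eq_of_le_of_card_ge hle e.ge).ge (mem_sup_left ha))).2
  have hconj : ∀ h ∈ K ⊔ B, cjg h (A0 ⊔ C0) ≤ Qc B K' := by
    intro h hh
    have hQ : cjg h (A0 ⊔ C0) ≤ Qc B K :=
      (cjg_mono hSQ).trans (cjg_eq_self.2 (p.H_norm_Qc f hh)).le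
    have hM : MaxEA T (cjg h (A0 ⊔ C0)) := maxEA_of_card ((hQ.trans inf_le_left).trans f.B_le)
      (PLocal.ThompsonSubgroup.IsElementaryAbelian.map hAs.2.1 _) (by rw [card_cjg, hAs.card])
    by_contra hne
    have h1 := hmin _ hM fun hle => hne (hle.trans inf_le_right)
    have e : cjg h (A0 ⊔ C0) ⊔ C = cjg h ((A0 ⊔ C0) ⊔ C) := by
      conv_rhs => rw [cjg, Subgroup.map_sup, conj_map_of_mem (H_norm_cor hh)]
    rw [e, card_cjg] at h1
    exact absurd h1 (not_le.2 hlt)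
  -- the subgroup of `U` centralised by the conjugates of `A₀`
  set N0 := ⨆ h : ↥(K ⊔ B), cjg (h : G) A0
  have hN0K' : N0 ≤ Qc B K' := iSup_le fun h => (cjg_mono le_sup_left).trans (hconj h h.2)
  have hA0N : A0 ≤ N0 := le_iSup_of_le (1 : ↥(K ⊔ B)) (by simp [SetLike.le_def])
  set U1 := U ⊓ centralizer (N0 : Set G)
  have hN0n : K ⊔ B ≤ normalizer (N0 : Set G) := by
    intro g hg
    refine mem_normalizer_of_cjg_le ?_
    rw [cjg, Subgroup.map_iSup]
    refine iSup_le fun h => le_iSup_of_le (⟨g, hg⟩ * h : ↥(K ⊔ B)) ?_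
    rw [Subgroup.coe_mul, ← cjg_cjg]
  have hU1n : K ⊔ B ≤ normalizer (U1 : Set G) :=
    (le_inf (c.H_norm_U f p p') (hN0n.trans (normalizer_le_normalizer_centralizer' _))).trans
      (normalizer_inf_le_normalizer_inf _ _)
  have hW'U1 : wOf K' ≤ U1 := le_inf (c.W'_le_U f p p')
    (le_centralizer_iff.1 (hN0K'.trans inf_le_right))
  have hU1C0 : U1 ≤ C0 := le_inf inf_le_left
    (inf_le_right.trans (centralizer_le (SetLike.coe_subset_coe.2 hA0N)))
  have hWn : K ⊔ B ≤ normalizer (wOf K : Set G) :=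
    (p.H_le_normK f).trans (normalizer_le_normalizer_wOf K)
  let S : Subgroup G :=
    { carrier := {g | g ∈ K ⊔ B ∧ ∀ u ∈ U1, g * u * g⁻¹ * u⁻¹ ∈ wOf K}
      one_mem' := ⟨one_mem _, fun u _ => by simp⟩
      mul_mem' := fun {g h} hg hh => ⟨mul_mem hg.1 hh.1, fun u hu => by
        have e : g * h * u * (g * h)⁻¹ * u⁻¹ =
            g * (h * u * h⁻¹ * u⁻¹) * g⁻¹ * (g * u * g⁻¹ * u⁻¹) := by group
        rw [e]
        exact mul_mem (conj_mem_normalizer (hWn hg.1) (hh.2 u hu)) (hg.2 u hu)⟩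
      inv_mem' := fun {g} hg => ⟨inv_mem hg.1, fun u hu => by
        have e : g⁻¹ * u * g⁻¹⁻¹ * u⁻¹ = (g⁻¹ * (g * u * g⁻¹ * u⁻¹) * g⁻¹⁻¹)⁻¹ := by group
        rw [e]
        exact inv_mem (conj_mem_normalizer (hWn (inv_mem hg.1)) (hg.2 u hu))⟩ }
  have haS : a ∈ S := by
    refine ⟨mem_sup_right (hAB ha), fun u hu => ?_⟩
    obtain ⟨w, hw, hwA⟩ := c.offender_comm f p p' hA ha haC hu.1 (hU1C0 hu).2
    have e : a * (u * w) * a⁻¹ = u * w := by
      rw [hwA a ha, mul_inv_cancel_right]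
    have haw := conj_mem_normalizer (hWn (mem_sup_right (hAB ha))) (inv_mem hw)
    have e2 : a * u * a⁻¹ * u⁻¹ = u * (w * (a * w⁻¹ * a⁻¹)) * u⁻¹ := by
      calc a * u * a⁻¹ * u⁻¹ = (a * (u * w) * a⁻¹) * (a * w⁻¹ * a⁻¹) * u⁻¹ := by group
        _ = _ := by rw [e]; group
    rw [e2, ← c.U_le_centW f p p' hu.1 _ (mul_mem hw haw), mul_inv_cancel_right]
    exact mul_mem hw haw
  have hSn : K ⊔ B ≤ normalizer (S : Set G) := by
    intro g hg
    refine mem_normalizer_of_cjg_le ?_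
    rintro _ ⟨s, ⟨hs, hsU⟩, rfl⟩
    refine ⟨mul_mem (mul_mem hg hs) (inv_mem hg), fun u hu => ?_⟩
    have hu' := conj_mem_normalizer (hU1n (inv_mem hg)) hu
    rw [inv_inv] at hu'
    rw [MulEquiv.coe_toMonoidHom, MulAut.conj_apply,
      show g * s * g⁻¹ * u * (g * s * g⁻¹)⁻¹ * u⁻¹ =
        g * (s * (g⁻¹ * u * g) * s⁻¹ * (g⁻¹ * u * g)⁻¹) * g⁻¹ by group]
    exact conj_mem_normalizer (hWn hg) (hsU _ hu')
  have hKS : K ≤ S :=
    (p.dichotomy f (show S ≤ K ⊔ B from fun g hg => hg.1) hSn).resolve_left fun h => haC (h haS).2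
  -- conclusion
  obtain ⟨v', hv', hv'0, hv'1, -⟩ := p'.exists_v f
  obtain ⟨x, hx, hxo⟩ := comp_exists_three p.comp
  intro q hq
  refine ⟨p.Qk_le_B f hq, fun u hu => ?_⟩
  refine (mul_inv_eq_iff_eq_mul.1 ?_).symm
  rcases p'.comm_mem f hv' hv'0 hv'1 (p.Qk_le_B f hq) hu with h | h
  · exact h
  exfalso
  have huU : u ∈ U := (hW'U1 hu).1
  obtain ⟨ω, hω, hxu⟩ : ∃ ω ∈ wOf K, x * u * x⁻¹ = ω * u :=
    ⟨_, (hKS hx).2 u (hW'U1 hu), (inv_mul_cancel_right _ _).symm⟩
  set q' := x * q * x⁻¹ with hq'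
  have hq'K : q' ∈ Qk K := conj_mem_normalizer (normalizer_le_normalizer_Qk K (le_normalizer hx)) hq
  have hq'ω : q' * ω = ω * q' := ((Qk_le_centralizer_wOf K hq'K) ω hω).symm
  -- `x v' x⁻¹ = [q', u]`
  have e : x * v' * x⁻¹ = q' * u * q'⁻¹ * u⁻¹ := by
    have h0 : v' = q * u * q⁻¹ * u⁻¹ := by rw [h, mul_inv_cancel_right]
    have h3 : q' * (ω * u) * q'⁻¹ * (ω * u)⁻¹ = ω * (q' * u * q'⁻¹ * u⁻¹) * ω⁻¹ := by
      calc q' * (ω * u) * q'⁻¹ * (ω * u)⁻¹ = (q' * ω) * u * q'⁻¹ * u⁻¹ * ω⁻¹ := by group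
        _ = _ := by rw [hq'ω]; group
    have h4 : ω * (q' * u * q'⁻¹ * u⁻¹) * ω⁻¹ = q' * u * q'⁻¹ * u⁻¹ := by
      have hmem : q' * u * q'⁻¹ * u⁻¹ ∈ U := mul_mem
        (conj_mem_normalizer (c.H_norm_U f p p' (mem_sup_right (p.Qk_le_B f hq'K))) huU) (inv_mem huU)
      rw [isElementaryAbelian_two_comm (elem_omegaCenterOf _) (c.W_le_U f p p' hω) hmem,
        mul_inv_cancel_right]
    rw [← h4, ← h3, ← hxu, h0, hq']
    group
  have h5 : x * v' * x⁻¹ = v' := by
    rcases p'.comm_mem f hv' hv'0 hv'1 (p.Qk_le_B f hq'K) hu with h' | h'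
    · rw [h', mul_inv_cancel] at e
      exact absurd (conj_eq_one_iff.1 e) hv'1
    · rwa [h', mul_inv_cancel_right] at e
  have hv'W : v' ∈ wOf K := by
    have := (hKS (pCoreOf_le 2 K hq)).2 u (hW'U1 hu)
    rwa [h, mul_inv_cancel_right] at this
  exact hv'1 (comp_fixed_W p.comp hx hxo hv'W (mul_inv_eq_iff_eq_mul.1 h5))

end Act

end Cfsg.Agent.QTTwoMax
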