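import Cfsg.Agent.Lib.QTTwoMax.PairAct
import Cfsg.Agent.Lib.JComp.OverExist

/-!
The module of a piece with core in the common core is its four-group.
-/

set_option autoImplicit false
set_option linter.unusedSectionVars false
set_option linter.style.haveILetI false

namespace Cfsg.Agent.QTTwoMax

open Subgroup Cfsg Cfsg.Agent.CharP Cfsg.Agent.JComp
open scoped commutatorElement

variable {G : Type*} [Group G] [Finite G] {T B K K' : Subgroup G}

namespace Piece

variable (p : Piece T B K) (f : Frame T B)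
include p f

theorem comm_Qc {g q : G} (hg : g ∈ K) (hq : q ∈ Qc B K) : ⁅g, q⁆ ∈ Qk K := by
  refine (p.inf_B f).le (mem_inf.2 ⟨?_, ?_⟩)
  · rw [commutatorElement_def, show g * q * g⁻¹ * q⁻¹ = g * (q * g⁻¹ * q⁻¹) by group]
    exact mul_mem hg (conj_mem_normalizer (p.normB hq.1) (inv_mem hg))
  · rw [commutatorElement_def]
    exact mul_mem (conj_mem_normalizer (p.H_norm_Qc f (mem_sup_left hg)) hq).1 (inv_mem hq.1)

/-- An element moving `W` inverts an element of order three modulo `O₂(K)`. -/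
theorem inverts {a x : G} (ha : a ∈ B) (haC : a ∉ centralizer (wOf K : Set G)) (hx : x ∈ K)
    (hxo : orderOf x = 3) : ∃ q ∈ Qk K, a * x * a⁻¹ = q * x⁻¹ := by
  have hd : a * x * a⁻¹ ∈ K := conj_mem_normalizer (p.normB ha) hx
  obtain ⟨q, hq, y, hy, he⟩ := exists_mul_of_le_normalizer
    (zpowers_le.2 (normalizer_le_normalizer_Qk K (le_normalizer hx)))
    ((comp_gen_three p.comp hx hxo).ge hd)
  refine ⟨q, hq, ?_⟩
  have hx3 : x * x * x = 1 := by
    have := pow_orderOf_eq_one x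
    rwa [hxo, pow_succ, pow_two] at this
  have hxi : x * x = x⁻¹ := eq_inv_of_mul_eq_one_left hx3
  classical
  have hy' := (IsOfFinOrder.mem_powers_iff_mem_zpowers (isOfFinOrder_of_finite x)).2 hy
  obtain ⟨i, rfl⟩ := hy'
  have hi : i % 3 < 3 := Nat.mod_lt _ (by norm_num)
  rw [he]
  simp only
  rw [← pow_mod_orderOf, hxo]
  interval_cases h : i % 3
  · exfalso
    simp only at he
    rw [← pow_mod_orderOf, hxo, h, pow_zero, mul_one] at he
    have h1 : a * x * a⁻¹ = 1 := eq_one_of_mem_pgroup (isPGroup_pCoreOf 2 K) (he ▸ hq) (by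
      rw [show a * x * a⁻¹ = MulAut.conj a x from rfl, MulEquiv.orderOf_eq, hxo]; norm_num)
    rw [conj_eq_one_iff] at h1
    rw [h1, orderOf_one] at hxo
    omega
  · exfalso
    simp only at he
    rw [← pow_mod_orderOf, hxo, h, pow_one] at he
    obtain ⟨v, hv, hv0, hv1, -⟩ := p.exists_v f
    have hxv := conj_mem_normalizer (normalizer_le_normalizer_wOf K (le_normalizer hx)) hv
    have e : a * (x * v * x⁻¹) * a⁻¹ = x * v * x⁻¹ := by
      have ev : a * v * a⁻¹ = v := by rw [f.B_cent ha hv0, mul_inv_cancel_right]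
      calc a * (x * v * x⁻¹) * a⁻¹ = (a * x * a⁻¹) * (a * v * a⁻¹) * (a * x * a⁻¹)⁻¹ := by group
        _ = q * (x * v * x⁻¹) * q⁻¹ := by rw [he, ev]; group
        _ = x * v * x⁻¹ := by
          rw [← Qk_le_centralizer_wOf K hq _ hxv, mul_inv_cancel_right]
    rw [p.act f hv hv0 hv1 ha haC hxv (fun e => hv1 (conj_eq_one_iff.1 e))
      (fun e => hv1 (comp_fixed_W p.comp hx hxo hv (mul_inv_eq_iff_eq_mul.1 e)))] at e
    exact hv1 (by simpa using e)
  · rw [pow_two, hxi]

end Piece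

namespace Act

variable (c : Act B K K') (f : Frame T B) (p : Piece T B K) (p' : Piece T B K')
include c f p p'

/-- If `O₂(K)` lies in the core then `K` moves `U` only inside `W`. -/
theorem module (hQK : Qk K ≤ cor B K K') :
    ∀ g ∈ K, ∀ u ∈ omegaCenterOf (cor B K K'), g * u * g⁻¹ * u⁻¹ ∈ wOf K := by
  obtain ⟨A, hA, a, ha, haC⟩ := comp_exists_moving p.comp
  obtain ⟨x, hx, hxo⟩ := comp_exists_three p.comp
  obtain ⟨v, hv, hv0, hv1, -⟩ := p.exists_v f
  obtain ⟨-, hA2, -, hCAA⟩ := c.offender f p p' hA ha haC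
  set U := omegaCenterOf (cor B K K') with hUdef
  have hUe : IsElementaryAbelian 2 U := elem_omegaCenterOf _
  have hQU : ∀ q ∈ Qk K, ∀ u ∈ U, q * u = u * q := fun q hq u hu =>
    (mem_omegaCenterOf.1 hu).2.1 q (hQK hq)
  have haB : a ∈ B := f.J_le_B (hA.le_J ha)
  have hUn := c.H_norm_U f p p'
  have hWU := c.W_le_U f p p'
  have hxU : ∀ u ∈ U, x * u * x⁻¹ ∈ U := fun u hu => conj_mem_normalizer (hUn (mem_sup_left hx)) hu
  have hxU' : ∀ u ∈ U, x⁻¹ * u * x ∈ U := fun u hu => by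
    simpa using conj_mem_normalizer (hUn (mem_sup_left (inv_mem hx))) hu
  obtain ⟨q, hq, hax⟩ := p.inverts f haB haC hx hxo
  have hinv : ∀ u ∈ U, a * (x * u * x⁻¹) * a⁻¹ = x⁻¹ * (a * u * a⁻¹) * x := by
    intro u hu
    have hu' := hxU' _ (conj_mem_normalizer (hUn (mem_sup_right haB)) hu)
    calc a * (x * u * x⁻¹) * a⁻¹ = (a * x * a⁻¹) * (a * u * a⁻¹) * (a * x * a⁻¹)⁻¹ := by group
      _ = q * (x⁻¹ * (a * u * a⁻¹) * x) * q⁻¹ := by rw [hax]; group
      _ = _ := by rw [hQU q hq _ hu', mul_inv_cancel_right]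
  have hx3 : x * x * x = 1 := by
    have := pow_orderOf_eq_one x
    rwa [hxo, pow_succ, pow_two] at this
  let phi : U →* G :=
    { toFun := fun u => x * u * x⁻¹ * u
      map_one' := by simp
      map_mul' := fun u w => by
        have e := isElementaryAbelian_two_comm hUe u.2 (hxU w w.2)
        show x * ((u : G) * w) * x⁻¹ * ((u : G) * w) = _
        calc x * ((u : G) * w) * x⁻¹ * ((u : G) * w)
            = x * u * x⁻¹ * ((x * w * x⁻¹) * u) * w := by group
          _ = _ := by rw [← e]; group }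
  set M := phi.range with hMdef
  have hMU : M ≤ U := by
    rintro _ ⟨u, rfl⟩
    exact mul_mem (hxU u u.2) u.2
  have hMe : IsElementaryAbelian 2 M := PLocal.ThompsonSubgroup.IsElementaryAbelian.mono hUe hMU
  have hxM : ∀ m ∈ M, x * m * x⁻¹ ∈ M := by
    rintro _ ⟨u, rfl⟩
    refine ⟨⟨x * u * x⁻¹, hxU u u.2⟩, ?_⟩
    show x * (x * u * x⁻¹) * x⁻¹ * (x * u * x⁻¹) = x * (x * u * x⁻¹ * u) * x⁻¹
    group
  -- no fixed points
  have hfix : ∀ m ∈ M, x * m = m * x → m = 1 := by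
    rintro _ ⟨u, rfl⟩ hxm
    set m := phi u with hm
    have hm0 : m = x * u * x⁻¹ * u := rfl
    have hm2 : m * m = 1 := isElementaryAbelian_two_sq hMe ⟨u, rfl⟩
    have e : x * (u : G) * x⁻¹ = m * u := by
      rw [hm0, mul_assoc _ (u : G) (u : G), isElementaryAbelian_two_sq hUe u.2, mul_one]
    have ev : x * m * x⁻¹ = m := by rw [hxm, mul_inv_cancel_right]
    have f' : ∀ w, x * (m * w) * x⁻¹ = m * (x * w * x⁻¹) := fun w => by
      calc x * (m * w) * x⁻¹ = (x * m * x⁻¹) * (x * w * x⁻¹) := by group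
        _ = _ := by rw [ev]
    have e3 : m * (m * (m * (u : G))) = u := by
      calc m * (m * (m * (u : G))) = x * (x * (x * (u : G) * x⁻¹) * x⁻¹) * x⁻¹ := by
            rw [e, f', e, f', f', e]
        _ = (x * x * x) * (u : G) * (x * x * x)⁻¹ := by group
        _ = u := by rw [hx3]; group
    rw [← mul_assoc m m, hm2, one_mul] at e3
    simpa using e3
  -- `a` normalises `M`
  have haM : a ∈ normalizer (M : Set G) := by
    refine mem_normalizer_of_cjg_le ?_
    rintro _ ⟨_, ⟨u, rfl⟩, rfl⟩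
    have hau := conj_mem_normalizer (hUn (mem_sup_right haB)) u.2
    refine ⟨⟨_, hxU' _ hau⟩, ?_⟩
    show x * (x⁻¹ * (a * u * a⁻¹) * x) * x⁻¹ * (x⁻¹ * (a * u * a⁻¹) * x) =
      a * (x * u * x⁻¹ * u) * a⁻¹
    rw [show a * (x * (u : G) * x⁻¹ * u) * a⁻¹ = a * (x * u * x⁻¹) * a⁻¹ * (a * u * a⁻¹) by group,
      hinv u u.2, isElementaryAbelian_two_comm hUe (hxU' _ hau) hau]
    group
  set A0 := A ⊓ centralizer (wOf K : Set G) with hA0def
  have hA0Q : A0 ≤ Qc B K := inf_le_inf_right _ (hA.le_J.trans f.J_le_B)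
  have hA0x : ∀ b ∈ A0, ∀ u ∈ U, b * (x * u * x⁻¹) * b⁻¹ = x * (b * u * b⁻¹) * x⁻¹ := by
    intro b hb u hu
    have hj := p.comm_Qc f hx (hA0Q hb)
    have hu' := conj_mem_normalizer (hUn (mem_sup_right (hA0Q hb).1)) (hxU u hu)
    calc b * (x * u * x⁻¹) * b⁻¹
        = ⁅x, b⁆ * (b * (x * u * x⁻¹) * b⁻¹) * ⁅x, b⁆⁻¹ := by
          rw [hQU _ hj _ hu', mul_inv_cancel_right]
      _ = x * (b * u * b⁻¹) * x⁻¹ := by simp only [commutatorElement_def]; group
  have hA0M : A0 ≤ normalizer (M : Set G) := by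
    intro b hb
    refine mem_normalizer_of_cjg_le ?_
    rintro _ ⟨_, ⟨u, rfl⟩, rfl⟩
    refine ⟨⟨_, conj_mem_normalizer (hUn (mem_sup_right (hA0Q hb).1)) u.2⟩, ?_⟩
    show x * (b * u * b⁻¹) * x⁻¹ * (b * u * b⁻¹) = b * (x * u * x⁻¹ * u) * b⁻¹
    rw [← hA0x b hb u u.2]
    group
  have hWM : wOf K ≤ M := by
    have hxW := normalizer_le_normalizer_wOf K (le_normalizer hx)
    have h1 : x * v * x⁻¹ * v ≠ 1 := by
      intro e
      refine hv1 (comp_fixed_W p.comp hx hxo hv (mul_inv_eq_iff_eq_mul.1 ?_))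
      rw [eq_inv_of_mul_eq_one_left e, inv_eq_of_mul_eq_one_right (comp_wexp p.comp v hv)]
    have hmem : x * v * x⁻¹ * v ∈ wOf K ⊓ M :=
      ⟨mul_mem (conj_mem_normalizer hxW hv) hv, ⟨⟨v, hWU hv⟩, rfl⟩⟩
    exact inf_eq_left.1 (four_eq_of_invariant (comp_wcard p.comp) (comp_wexp p.comp) inf_le_left
      hmem h1 ⟨conj_mem_normalizer hxW hmem.1, hxM _ hmem.2⟩ fun e =>
        h1 (hfix _ hmem.2 (mul_inv_eq_iff_eq_mul.1 e)))
  -- fixed points of `a`
  set Ma := M ⊓ centralizer ({a} : Set G) with hMa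
  have ha2 : a * a = 1 := isElementaryAbelian_two_sq hA.2.1 ha
  have hM1 : Nat.card M ≤ Nat.card Ma * Nat.card Ma := card_le_sq_fixed hMe haM ha2
  have hMx : Ma ⊓ cjg x Ma = ⊥ := (eq_bot_iff_forall _).2 fun m hm => by
    obtain ⟨⟨hm1, hm2⟩, hm3⟩ := hm
    rw [SetLike.mem_coe] at hm3
    obtain ⟨hn1, hn2⟩ := mem_cjg.1 hm3
    have e1 : a * m * a⁻¹ = m := by
      rw [← mem_centralizer_singleton_iff.1 hm2, mul_inv_cancel_right]
    have e2 : a * (x⁻¹ * m * x) * a⁻¹ = x⁻¹ * m * x := by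
      rw [← mem_centralizer_singleton_iff.1 hn2, mul_inv_cancel_right]
    have e3 := hinv _ (hMU hn1)
    rw [show x * (x⁻¹ * m * x) * x⁻¹ = m by group, e1, e2] at e3
    refine hfix m hm1 ?_
    have e4 : x * x * m = m * (x * x) := by
      calc x * x * m = x * x * (x⁻¹ * (x⁻¹ * m * x) * x) := by rw [← e3]
        _ = m * (x * x) := by group
    calc x * m = (x * x) * ((x * x) * m) := by
          rw [← mul_assoc (x * x) (x * x) m, show x * x * (x * x) = (x * x * x) * x by group, hx3,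
            one_mul]
      _ = (x * x) * (m * (x * x)) := by rw [e4]
      _ = ((x * x) * m) * (x * x) := by group
      _ = m * x := by
          rw [e4, mul_assoc, show x * x * (x * x) = (x * x * x) * x by group, hx3, one_mul]
  have hMaM : cjg x Ma ≤ M := by
    rintro _ ⟨m, hm, rfl⟩
    exact hxM m hm.1
  have hM2 : Nat.card Ma * Nat.card Ma ≤ Nat.card M := by
    have h := card_sup_mul_inf (le_normalizer_of_commute (A := Ma) (B := cjg x Ma)
      fun m hm n hn => isElementaryAbelian_two_comm hMe hm.1 (hMaM hn))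
    rw [hMx, card_bot, mul_one, card_cjg] at h
    rw [← h]
    exact card_le_of_le (sup_le inf_le_left hMaM)
  have hgen : Ma ⊔ cjg x Ma = M := by
    refine eq_of_le_of_card_ge (sup_le inf_le_left hMaM) ?_
    have h := card_sup_mul_inf (le_normalizer_of_commute (A := Ma) (B := cjg x Ma)
      fun m hm n hn => isElementaryAbelian_two_comm hMe hm.1 (hMaM hn))
    rw [hMx, card_bot, mul_one, card_cjg] at h
    exact hM1.trans h.ge
  -- the fixed points of `A`
  have hCA : ∀ m ∈ M, m ∈ centralizer (A : Set G) → m = 1 ∨ m = v := by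
    have hstep : ∀ m ∈ M, m ∈ centralizer (A : Set G) →
        ∃ w ∈ wOf K, x * m * x⁻¹ * w ∈ centralizer (A : Set G) := fun m hm hmA =>
      c.offender_comm f p p' hA ha haC (hxU m (hMU hm)) fun b hb => by
        have e := hA0x b hb m (hMU hm)
        rw [show b * m * b⁻¹ = m by rw [hmA b hb.1, mul_inv_cancel_right]] at e
        exact mul_inv_eq_iff_eq_mul.1 e
    intro m hm hmA
    by_contra hne
    push Not at hne
    have hvA : v ∈ centralizer (A : Set G) := fun b hb => f.B_cent (f.J_le_B (hA.le_J hb)) hv0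
    have hzero : ∀ n ∈ M, n ∈ centralizer (A : Set G) → x * n * x⁻¹ ∈ centralizer (A : Set G) →
        n = 1 := by
      intro n hn hnA hxn
      have h : x * n * x⁻¹ ∈ Ma ⊓ cjg x Ma := ⟨⟨hxM n hn, mem_centralizer_singleton_iff.2
        (hxn a ha).symm⟩, conj_mem_cjg ⟨hn, mem_centralizer_singleton_iff.2 (hnA a ha).symm⟩⟩
      rw [hMx, mem_bot] at h
      exact conj_eq_one_iff.1 h
    obtain ⟨w, hw, hwA⟩ := hstep m hm hmA
    obtain ⟨w', hw', hw'A⟩ := hstep v (hWM hv) hvA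
    by_cases hwA' : w ∈ centralizer (A : Set G)
    · exact hne.1 (hzero m hm hmA (by simpa using mul_mem hwA (inv_mem hwA')))
    have hw'nA : w' ∉ centralizer (A : Set G) := fun h =>
      hv1 (hzero v (hWM hv) hvA (by simpa using mul_mem hw'A (inv_mem h)))
    have hww : w * w' ∈ centralizer (A : Set G) := by
      have hs1 : w ≠ 1 := fun e => hwA' (e ▸ one_mem _)
      have hsv : w ≠ v := fun e => hwA' (e ▸ hvA)
      rcases four_cases (comp_wcard p.comp) (comp_wexp p.comp) hv hw hv1 hs1 hsv.symm hw' with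
        e | e | e | e
      · exact absurd (e ▸ one_mem _) hw'nA
      · exact absurd (e ▸ hvA) hw'nA
      · rw [e, comp_wexp p.comp w hw]; exact one_mem _
      · rw [e, ← mul_assoc, comp_W_comm p.comp hw hv, mul_assoc, comp_wexp p.comp w hw, mul_one]
        exact hvA
    have h3 := mul_mem (mul_mem hwA hw'A) (inv_mem hww)
    have ec : w * (x * v * x⁻¹) = x * v * x⁻¹ * w :=
      isElementaryAbelian_two_comm hUe (hWU hw) (hxU v (hWU hv))
    rw [show x * m * x⁻¹ * w * (x * v * x⁻¹ * w') * (w * w')⁻¹ =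
      x * m * x⁻¹ * (w * (x * v * x⁻¹)) * w⁻¹ by group, ec,
      show x * m * x⁻¹ * (x * v * x⁻¹ * w) * w⁻¹ = x * (m * v) * x⁻¹ by group] at h3
    have h4 := hzero (m * v) (mul_mem hm (hWM hv)) (mul_mem hmA hvA) h3
    exact hne.2 ((eq_inv_of_mul_eq_one_left h4).trans
      (inv_eq_of_mul_eq_one_right (comp_wexp p.comp v hv)))
  have hvMa : v ∈ Ma := ⟨hWM hv, mem_centralizer_singleton_iff.2 (f.B_cent haB hv0).symm⟩
  have hA0Ma : A0 ≤ normalizer (Ma : Set G) := by
    refine (le_inf hA0M ?_).trans (normalizer_inf_le_normalizer_inf _ _)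
    rw [← centralizer_closure]
    refine le_trans ?_ (normalizer_le_normalizer_centralizer' _)
    refine le_trans (fun b hb => ?_) (centralizer_le_normalizer _)
    rw [centralizer_closure]
    exact mem_centralizer_singleton_iff.2 (isElementaryAbelian_two_comm hA.2.1 hb.1 ha)
  have htrans := card_transvections (A0 := A0) (M := Ma) (z := v)
    (PLocal.ThompsonSubgroup.IsElementaryAbelian.mono hA.2.1 inf_le_left)
    (PLocal.ThompsonSubgroup.IsElementaryAbelian.mono hMe inf_le_left) hA0Ma hvMa hv1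
    (fun b hb => f.B_cent (hA0Q hb).1 hv0) fun m hm hmf => hCA m hm.1 fun b hb => by
      by_cases hbC : b ∈ centralizer (wOf K : Set G)
      · exact hmf b ⟨hb, hbC⟩
      have h1 : a * b ∈ A0 := ⟨mul_mem ha hb, p.mul_mem_cent f haB haC
        (f.J_le_B (hA.le_J hb)) hbC⟩
      have h2 : Commute (a * b) m := hmf _ h1
      have h3 : Commute a m := (mem_centralizer_singleton_iff.1 hm.2).symm
      have h4 := h3.inv_left.mul_left h2
      rwa [inv_mul_cancel_left] at h4
  set A1 := A0 ⊓ centralizer (Ma : Set G) with hA1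
  have hA1M : A1 ≤ centralizer (M : Set G) := by
    rw [← hgen, le_centralizer_iff]
    refine sup_le (le_centralizer_iff.1 inf_le_right) ?_
    rintro _ ⟨m, hm, rfl⟩ b hb
    rw [MulEquiv.coe_toMonoidHom, MulAut.conj_apply]
    refine mul_inv_eq_iff_eq_mul.1 ?_
    rw [hA0x b hb.1 m (hMU hm.1), ← hb.2 m hm, mul_inv_cancel_right]
  have hA1T : A1 ≤ T := (inf_le_left.trans inf_le_left).trans hA.1
  have hMT : M ≤ T := hMU.trans (((c.U_le_cor f p p').trans cor_le).trans f.B_le)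
  have hAC : IsElementaryAbelian 2 (A1 ⊔ M) :=
    PLocal.ThompsonSubgroup.IsElementaryAbelian.sup
      (PLocal.ThompsonSubgroup.IsElementaryAbelian.mono hA.2.1 (inf_le_left.trans inf_le_left))
      hMe hA1M
  have h1 := card_le_aOrd (sup_le hA1T hMT) hAC
  rw [← hA.card, hA2] at h1
  have h2 := card_sup_mul_inf (le_normalizer_of_commute (A := A1) (B := M)
    fun b hb m hm => (hA1M hb m hm).symm)
  have h3 : Nat.card ↥(A1 ⊓ M) ≤ 2 := card_le_two_of_forall fun m hm =>
    hCA m hm.2 fun b hb => isElementaryAbelian_two_comm hA.2.1 hb hm.1.1.1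
  have h4 : Nat.card A1 * Nat.card M ≤ Nat.card A1 * (2 * Nat.card Ma) := by
    rw [← h2]
    calc _ ≤ (2 * Nat.card A0) * 2 := Nat.mul_le_mul h1 h3
      _ ≤ (Nat.card Ma * Nat.card A1) * 2 := Nat.mul_le_mul_right _ htrans
      _ = _ := by ring
  have h5 := Nat.le_of_mul_le_mul_left h4 Nat.card_pos
  have h6 : Nat.card Ma ≤ 2 := Nat.le_of_mul_le_mul_right (hM2.trans h5) Nat.card_pos
  have hMW : M = wOf K := (eq_of_le_of_card_ge hWM (by rw [comp_wcard p.comp]; omega)).symm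
  -- conclusion
  have hWn : K ≤ normalizer (wOf K : Set G) := le_normalizer.trans (normalizer_le_normalizer_wOf K)
  let S : Subgroup G :=
    { carrier := {g | g ∈ K ∧ ∀ u ∈ U, g * u * g⁻¹ * u⁻¹ ∈ wOf K}
      one_mem' := ⟨one_mem _, fun u _ => by simp⟩
      mul_mem' := fun {g h} hg hh => ⟨mul_mem hg.1 hh.1, fun u hu => by
        have e : g * h * u * (g * h)⁻¹ * u⁻¹ =
            g * (h * u * h⁻¹ * u⁻¹) * g⁻¹ * (g * u * g⁻¹ * u⁻¹) := by group
        rw [e]
        exact mul_mem (conj_mem_normalizer (hWn hg.1) (hh.2 u hu)) (hg.2 u hu)⟩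
      inv_mem' := fun {g} hg => ⟨inv_mem hg.1, fun u hu => by
        have e : g⁻¹ * u * g⁻¹⁻¹ * u⁻¹ = (g⁻¹ * (g * u * g⁻¹ * u⁻¹) * g⁻¹⁻¹)⁻¹ := by group
        rw [e]
        exact inv_mem (conj_mem_normalizer (hWn (inv_mem hg.1)) (hg.2 u hu))⟩ }
  have hxS : x ∈ S := ⟨hx, fun u hu => by
    rw [inv_eq_of_mul_eq_one_right (isElementaryAbelian_two_sq hUe hu), ← hMW]
    exact ⟨⟨u, hu⟩, rfl⟩⟩
  have hSn : K ≤ normalizer (S : Set G) := by
    intro g hg
    refine mem_normalizer_of_cjg_le ?_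
    rintro _ ⟨s, ⟨hs, hsU⟩, rfl⟩
    refine ⟨mul_mem (mul_mem hg hs) (inv_mem hg), fun u hu => ?_⟩
    have hu' := conj_mem_normalizer (hUn (mem_sup_left (inv_mem hg))) hu
    rw [inv_inv] at hu'
    rw [MulEquiv.coe_toMonoidHom, MulAut.conj_apply,
      show g * s * g⁻¹ * u * (g * s * g⁻¹)⁻¹ * u⁻¹ =
        g * (s * (g⁻¹ * u * g) * s⁻¹ * (g⁻¹ * u * g)⁻¹) * g⁻¹ by group]
    exact conj_mem_normalizer (hWn hg) (hsU _ hu')
  exact fun g hg => ((comp_induct p.comp hx hxo hxS hSn) hg).2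

end Act

end Cfsg.Agent.QTTwoMax
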