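import Cfsg.Agent.Lib.QTTwoMax.PairMod

/-!
The second direction.
-/

set_option autoImplicit false
set_option linter.unusedSectionVars false
set_option linter.style.haveILetI false

namespace Cfsg.Agent.QTTwoMax

open Subgroup Cfsg Cfsg.Agent.CharP Cfsg.Agent.JComp
open scoped commutatorElement

variable {G : Type*} [Group G] [Finite G] {T B K K' : Subgroup G}

/-- Some element of `O₂(K')` moves `W` while its image under a given element of order three does
not. -/
theorem exists_split_elem (f : Frame T B) (p : Piece T B K) (p' : Piece T B K')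
    (hno : ¬ Qk K' ≤ Qc B K) {x : G} (hx : x ∈ K') (hxo : orderOf x = 3) :
    ∃ n ∈ Qk K', n ∉ centralizer (wOf K : Set G) ∧ x * n * x⁻¹ ∈ centralizer (wOf K : Set G) := by
  by_contra h
  push Not at h
  refine hno ?_
  set C : Subgroup G := centralizer (wOf K : Set G)
  set S := Qk K' ⊓ C
  have hQB := p'.Qk_le_B f
  have hQn : K' ≤ normalizer (Qk K' : Set G) := le_normalizer.trans (normalizer_le_normalizer_Qk K')
  -- `x` maps the elements moving `W` into themselves
  have hinv : ∀ n ∈ Qk K', (x * n * x⁻¹ ∈ C ↔ n ∈ C) := by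
    refine fun n hn => ⟨fun hxn => by_contra fun hnC => h n hn hnC hxn, fun hnC => by_contra fun hxn => ?_⟩
    have hy := conj_mem_normalizer (hQn hx) hn
    have hy2 := conj_mem_normalizer (hQn hx) hy
    have h2 := h _ hy hxn
    have h3 := h _ hy2 h2
    have e : x * (x * (x * n * x⁻¹) * x⁻¹) * x⁻¹ = n := by
      have hx3 : x * x * x = 1 := by
        have := pow_orderOf_eq_one x
        rwa [hxo, pow_succ, pow_two] at this
      calc x * (x * (x * n * x⁻¹) * x⁻¹) * x⁻¹ = (x * x * x) * n * (x * x * x)⁻¹ := by group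
        _ = n := by rw [hx3]; group
    rw [e] at h3
    exact h3 hnC
  have hSn : K' ≤ normalizer (S : Set G) := by
    rw [← comp_gen_three p'.comp hx hxo]
    refine sup_le (fun q hq => mem_normalizer_of_cjg_le ?_)
      (zpowers_le.2 (mem_normalizer_of_cjg_le ?_))
    · rintro _ ⟨n, ⟨hn, hnC⟩, rfl⟩
      refine ⟨conj_mem_normalizer (hQn (pCoreOf_le 2 K' hq)) hn, ?_⟩
      exact conj_mem_normalizer (((p.H_le_normK f).trans (normalizer_le_normalizer_wOf K)).trans
        (normalizer_le_normalizer_centralizer' _) (mem_sup_right (hQB hq))) hnC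
    · rintro _ ⟨n, ⟨hn, hnC⟩, rfl⟩
      exact ⟨conj_mem_normalizer (hQn hx) hn, (hinv n hn).2 hnC⟩
  have hle : Qk K' ≤ S := p'.Qk_le_of f (inf_le_left.trans hQB) hSn hx hxo fun q hq => by
    have hxq := conj_mem_normalizer (hQn hx) hq
    refine ⟨by rw [commutatorElement_def]; exact mul_mem hxq (Subgroup.inv_mem _ hq), ?_⟩
    rw [commutatorElement_def]
    by_cases hqC : q ∈ C
    · exact mul_mem ((hinv q hq).2 hqC) (Subgroup.inv_mem _ hqC)
    · exact p.mul_mem_cent f (hQB hxq) (fun e => hqC ((hinv q hq).1 e)) (hQB (Subgroup.inv_mem _ hq))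
        fun e => hqC (by simpa using Subgroup.inv_mem _ e)
  exact le_inf hQB (hle.trans inf_le_right)

namespace Act

variable (c : Act B K K') (f : Frame T B) (p : Piece T B K) (p' : Piece T B K')
include c f p p'

/-- An element with conjugate in `C(W)` moves the conjugate of `v` only inside `C(K)`. -/
theorem conj_v_central (hQK : Qk K ≤ cor B K K')
    (hmod : ∀ g ∈ K, ∀ u ∈ omegaCenterOf (cor B K K'), g * u * g⁻¹ * u⁻¹ ∈ wOf K)
    {v y n : G} (hv : v ∈ wOf K) (hv0 : v ∈ Z0 T) (hv1 : v ≠ 1) (hy : y ∈ K') (hn : n ∈ B)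
    (hnC : n ∉ centralizer (wOf K : Set G)) (hyn : y * n * y⁻¹ ∈ Qc B K) :
    ∀ x ∈ K, orderOf x = 3 → x * (y * v * y⁻¹) = y * v * y⁻¹ * x := by
  intro x hx hxo
  obtain ⟨w, hw, hw1, hwv⟩ := four_exists_other (comp_wcard p.comp) v
  set U := omegaCenterOf (cor B K K')
  set u := y * w * y⁻¹ with hu
  set r := y * n * y⁻¹ with hr
  have hun := c.H_norm_U f p p'
  have huU : u ∈ U := conj_mem_normalizer
    ((le_sup_right.trans le_normalizer_cor).trans (normalizer_le_normalizer_omegaCenterOf _) hy)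
    (c.W_le_U f p p' hw)
  have hru : r * u * r⁻¹ * u⁻¹ = y * v * y⁻¹ := by
    have h1 : n * w * n⁻¹ * w⁻¹ = v := by
      rw [p.act f hv hv0 hv1 hn hnC hw hw1 hwv, mul_inv_cancel_right]
    calc r * u * r⁻¹ * u⁻¹ = y * (n * w * n⁻¹ * w⁻¹) * y⁻¹ := by rw [hr, hu]; group
      _ = _ := by rw [h1]
  have hj := hQK (p.comm_Qc f hx hyn)
  have hxu := conj_mem_normalizer (hun (mem_sup_left hx)) huU
  have hrU : ∀ z ∈ U, r * z * r⁻¹ ∈ U := fun z hz =>
    conj_mem_normalizer (hun (mem_sup_right hyn.1)) hz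
  have e1 : x * (r * u * r⁻¹) * x⁻¹ = r * (x * u * x⁻¹) * r⁻¹ := by
    calc x * (r * u * r⁻¹) * x⁻¹ = ⁅x, r⁆ * (r * (x * u * x⁻¹) * r⁻¹) * ⁅x, r⁆⁻¹ := by
          simp only [commutatorElement_def]; group
      _ = _ := by rw [(mem_omegaCenterOf.1 (hrU _ hxu)).2.1 _ hj, mul_inv_cancel_right]
  refine mul_inv_eq_iff_eq_mul.1 ?_
  set ω := x * u * x⁻¹ * u⁻¹ with hω
  have hωW : ω ∈ wOf K := hmod x hx u huU
  have hrω : r * ω = ω * r := (hyn.2 ω hωW).symm
  calc x * (y * v * y⁻¹) * x⁻¹ = x * (r * u * r⁻¹) * x⁻¹ * (x * u * x⁻¹)⁻¹ := by rw [← hru]; group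
    _ = r * (ω * u) * r⁻¹ * (ω * u)⁻¹ := by rw [e1, hω]; group
    _ = ω * (r * u * r⁻¹ * u⁻¹) * ω⁻¹ := by
        rw [show r * (ω * u) = r * ω * u by group, hrω]; group
    _ = r * u * r⁻¹ * u⁻¹ := by
        rw [isElementaryAbelian_two_comm (elem_omegaCenterOf _) (c.W_le_U f p p' hωW)
          (mul_mem (hrU u huU) (inv_mem huU)), mul_inv_cancel_right]
    _ = _ := hru

/-- The second direction. -/
theorem dir_two (hQK : Qk K ≤ cor B K K') : Qk K' ≤ Qc B K := by
  by_contra hno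
  have hmod := c.module f p p' hQK
  set U := omegaCenterOf (cor B K K') with hUdef
  have hUe : IsElementaryAbelian 2 U := elem_omegaCenterOf _
  have hK'n : K' ≤ normalizer (U : Set G) :=
    (le_sup_right.trans le_normalizer_cor).trans (normalizer_le_normalizer_omegaCenterOf _)
  obtain ⟨v, hv, hv0, hv1, -⟩ := p.exists_v f
  obtain ⟨w, hw, hw1, hwv⟩ := four_exists_other (comp_wcard p.comp) v
  obtain ⟨A, hA, a, ha, haC⟩ := comp_exists_moving p'.comp
  obtain ⟨x, hx, hxo⟩ := comp_exists_three p.comp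
  obtain ⟨y, hy, hyo⟩ := comp_exists_three p'.comp
  obtain ⟨-, hA2, hC0, hCAA⟩ := (c.swap f p p').offender f p' p hA ha haC
  rw [cor_comm, ← hUdef] at hC0 hCAA
  have haB : a ∈ B := f.J_le_B (hA.le_J ha)
  have hyi : orderOf y⁻¹ = 3 := by rw [orderOf_inv, hyo]
  have hwU := c.W_le_U f p p' hw
  -- the three translates of `v` differ
  have hcen : ∀ z ∈ K', orderOf z = 3 → z * v * z⁻¹ ≠ v := by
    intro z hz hzo e
    obtain ⟨n, hn, hnC, hzn⟩ := exists_split_elem f p p' hno hz hzo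
    have h := c.conj_v_central f p p' hQK hmod hv hv0 hv1 hz (p'.Qk_le_B f hn) hnC
      ⟨p'.Qk_le_B f (conj_mem_normalizer (normalizer_le_normalizer_Qk K' (le_normalizer hz)) hn),
        hzn⟩ x hx hxo
    rw [e] at h
    exact hv1 (comp_fixed_W p.comp hx hxo hv h)
  -- `a` inverts `y`
  obtain ⟨q, hq, hay⟩ := p'.inverts f haB haC hy hyo
  -- the translates
  have hBconj : ∀ {b : G}, b ∈ Qc B K' → ∀ {z : G}, z ∈ K' → z * b * z⁻¹ ∈ B := fun {b} hb {z} hz =>
    (conj_mem_normalizer (p'.H_norm_Qc f (mem_sup_left hz)) hb).1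
  have hmove : ∀ {b z : G}, b ∈ Qc B K' → z ∈ K' →
      b * (z * w * z⁻¹) * b⁻¹ = z * w * z⁻¹ ∨
        b * (z * w * z⁻¹) * b⁻¹ = (z * v * z⁻¹) * (z * w * z⁻¹) := by
    intro b z hb hz
    have hb' : z⁻¹ * b * z ∈ B := by simpa using hBconj hb (inv_mem hz)
    have e : b * (z * w * z⁻¹) * b⁻¹ =
        z * ((z⁻¹ * b * z) * w * (z⁻¹ * b * z)⁻¹) * z⁻¹ := by group
    rcases p.comm_mem f hv hv0 hv1 hb' hw with h | h <;> rw [e, h]
    · exact Or.inl rfl
    · exact Or.inr (by group)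
  have hfixv : ∀ {b z : G}, b ∈ Qc B K' → z ∈ K' →
      b * (z * v * z⁻¹) * b⁻¹ = z * v * z⁻¹ := by
    intro b z hb hz
    have hb' : z⁻¹ * b * z ∈ B := by simpa using hBconj hb (inv_mem hz)
    calc b * (z * v * z⁻¹) * b⁻¹ = z * ((z⁻¹ * b * z) * v * (z⁻¹ * b * z)⁻¹) * z⁻¹ := by group
      _ = _ := by rw [f.B_cent hb' hv0, mul_inv_cancel_right]
  set u2 := y * w * y⁻¹ with hu2
  set u3 := a * u2 * a⁻¹ with hu3
  set v2 := y * v * y⁻¹ with hv2
  set v3 := y⁻¹ * v * y with hv3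
  have hu2U : u2 ∈ U := conj_mem_normalizer (hK'n hy) hwU
  have hu3U : u3 ∈ U := conj_mem_normalizer (c.H_norm_U f p p' (mem_sup_right haB)) hu2U
  have hv2U : v2 ∈ U := conj_mem_normalizer (hK'n hy) (c.W_le_U f p p' hv)
  have hv21 : v2 ≠ 1 := fun e => hv1 (conj_eq_one_iff.1 e)
  have hv23 : v2 ≠ v3 := by
    intro e
    have hy2 : orderOf (y * y) = 3 := by
      rw [← pow_two, Nat.Coprime.orderOf_pow (by rw [hyo]; norm_num), hyo]
    refine hcen (y * y) (mul_mem hy hy) hy2 ?_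
    calc y * y * v * (y * y)⁻¹ = y * v2 * y⁻¹ := by rw [hv2]; group
      _ = v := by rw [e, hv3]; group
  set β := y⁻¹ * a * w * (y⁻¹ * a)⁻¹ with hβdef
  have hu3z : ∃ w' ∈ wOf K, w' ≠ 1 ∧ w' ≠ v ∧ u3 = y⁻¹ * w' * y := by
    set b := y * q * y⁻¹ * a with hb
    have hbB : b ∈ B := mul_mem (hBconj (p'.Qk_le_Qc f hq) hy) haB
    have he : a * y * a⁻¹ = y⁻¹ * (y * q * y⁻¹) := by rw [hay]; group
    refine ⟨b * w * b⁻¹, conj_mem_normalizer (normalizer_le_normalizer_wOf K (p.normB hbB)) hw,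
      fun e => hw1 (conj_eq_one_iff.1 e), fun e => hwv ?_, ?_⟩
    · calc w = b⁻¹ * (b * w * b⁻¹) * b := by group
        _ = b⁻¹ * (b * v) := by rw [e, f.B_cent hbB hv0]; group
        _ = v := inv_mul_cancel_left b v
    · calc u3 = (a * y * a⁻¹) * (a * w * a⁻¹) * (a * y * a⁻¹)⁻¹ := by rw [hu3, hu2]; group
        _ = _ := by rw [he, hb]; group
  have hau3 : a * v2 * a⁻¹ = v3 := by
    set b := y * q * y⁻¹ * a with hb
    have hbB : b ∈ B := mul_mem (hBconj (p'.Qk_le_Qc f hq) hy) haB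
    have he : a * y * a⁻¹ = y⁻¹ * (y * q * y⁻¹) := by rw [hay]; group
    calc a * v2 * a⁻¹ = (a * y * a⁻¹) * (a * v * a⁻¹) * (a * y * a⁻¹)⁻¹ := by rw [hv2]; group
      _ = y⁻¹ * (b * v * b⁻¹) * y := by rw [he, hb]; group
      _ = v3 := by rw [f.B_cent hbB hv0, mul_inv_cancel_right]
  -- an element of `O₂(K')` separating the translates
  obtain ⟨n, hn, hnC, hyn⟩ := exists_split_elem f p p' hno (inv_mem hy) hyi
  set r := y * n * y⁻¹ with hr
  have hrQ : r ∈ Qc B K' :=
    conj_mem_normalizer (p'.H_norm_Qc f (mem_sup_left hy)) (p'.Qk_le_Qc f hn)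
  have hr2 : r * u2 * r⁻¹ = v2 * u2 := by
    calc r * u2 * r⁻¹ = y * (n * w * n⁻¹) * y⁻¹ := by rw [hr, hu2]; group
      _ = v2 * u2 := by
        rw [p.act f hv hv0 hv1 (p'.Qk_le_B f hn) hnC hw hw1 hwv, hv2, hu2]; group
  have hr3 : r * u3 * r⁻¹ = u3 := by
    obtain ⟨w', hw', -, -, e⟩ := hu3z
    have hyr : y * r * y⁻¹ = y⁻¹ * n * y⁻¹⁻¹ := by
      have hy3 : y * y * y = 1 := by
        have := pow_orderOf_eq_one y
        rwa [hyo, pow_succ, pow_two] at this
      rw [hr, inv_inv]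
      calc y * (y * n * y⁻¹) * y⁻¹ = (y * y * y) * (y⁻¹ * n * y) * (y * y * y)⁻¹ := by group
        _ = _ := by rw [hy3]; group
    rw [e, show r * (y⁻¹ * w' * y) * r⁻¹ = y⁻¹ * ((y * r * y⁻¹) * w' * (y * r * y⁻¹)⁻¹) * y by group,
      hyr, ← hyn w' hw', mul_inv_cancel_right]
  set A0 := A ⊓ centralizer (wOf K' : Set G)
  have hAB : A ≤ B := hA.le_J.trans f.J_le_B
  have hA0Q : A0 ≤ Qc B K' := inf_le_inf_right _ hAB
  by_cases hfix : ∀ b ∈ A0, b * u2 * b⁻¹ = u2
  · -- `u₂` is fixed by the kernel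
    obtain ⟨s, hs, hsA⟩ := (c.swap f p p').offender_comm f p' p hA ha haC
      (by rw [cor_comm]; exact hu2U) fun b hb => mul_inv_eq_iff_eq_mul.1 (hfix b hb)
    have has := conj_mem_normalizer (normalizer_le_normalizer_wOf K' (p'.normB haB)) hs
    have e : a * (u2 * s) * a⁻¹ = u2 * s := by rw [hsA a ha, mul_inv_cancel_right]
    have hW'U : ∀ t ∈ wOf K', t ∈ U := fun t ht => c.W'_le_U f p p' ht
    have hprod : u2 * u3 = s * (a * s * a⁻¹) := by
      have e2 : u3 * (a * s * a⁻¹) = u2 * s := by rw [← e, hu3]; group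
      have e3 : u3 = u2 * s * (a * s * a⁻¹) := by
        rw [← e2, mul_assoc, comp_wexp p'.comp _ has, mul_one]
      rw [e3, show u2 * (u2 * s * (a * s * a⁻¹)) = u2 * u2 * (s * (a * s * a⁻¹)) by group,
        isElementaryAbelian_two_sq hUe hu2U, one_mul]
    have hrs : r * (u2 * u3) * r⁻¹ = u2 * u3 := by
      rw [hprod]
      have hc : ∀ t ∈ wOf K', r * t * r⁻¹ = t := fun t ht => by
        rw [← hrQ.2 t ht, mul_inv_cancel_right]
      rw [show r * (s * (a * s * a⁻¹)) * r⁻¹ = (r * s * r⁻¹) * (r * (a * s * a⁻¹) * r⁻¹) by group,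
        hc s hs, hc _ has]
    rw [show r * (u2 * u3) * r⁻¹ = (r * u2 * r⁻¹) * (r * u3 * r⁻¹) by group, hr2, hr3,
      mul_assoc] at hrs
    exact hv21 (by simpa using hrs)
  · push Not at hfix
    obtain ⟨b, hb, hb2⟩ := hfix
    have hmov2 : ∀ c ∈ A0, c * u2 * c⁻¹ = u2 ∨ c * u2 * c⁻¹ = v2 * u2 := fun c hc =>
      hmove (hA0Q hc) hy
    have hb2' : b * u2 * b⁻¹ = v2 * u2 := (hmov2 b hb).resolve_left hb2
    have hb3 : b * u3 * b⁻¹ = v3 * u3 := by
      have hba : b * a = a * b := isElementaryAbelian_two_comm hA.2.1 hb.1 ha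
      calc b * u3 * b⁻¹ = (b * a) * u2 * (b * a)⁻¹ := by rw [hu3]; group
        _ = a * (b * u2 * b⁻¹) * a⁻¹ := by rw [hba]; group
        _ = v3 * u3 := by rw [hb2', ← hau3, hu3]; group
    set A2 := A0 ⊓ centralizer ({u2} : Set G) with hA2def
    have hA2card : Nat.card A0 ≤ 2 * Nat.card A2 := by
      have h := card_mul_relIndex' (inf_le_left : A2 ≤ A0)
      have h2 : A2.relIndex A0 = 2 := by
        rw [relIndex, index_eq_two_iff_exists_notMem_and]
        refine ⟨⟨b, hb⟩, fun h => hb2 (mul_inv_eq_iff_eq_mul.2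
          (mem_centralizer_singleton_iff.1 (mem_subgroupOf.1 h).2)), fun d => ?_⟩
        · rcases hmov2 d d.2 with h | h
          · exact Or.inr (mem_subgroupOf.2 ⟨d.2,
              mem_centralizer_singleton_iff.2 (mul_inv_eq_iff_eq_mul.1 h)⟩)
          · refine Or.inl (mem_subgroupOf.2 ⟨mul_mem d.2 hb,
              mem_centralizer_singleton_iff.2 (mul_inv_eq_iff_eq_mul.1 ?_)⟩)
            show (d : G) * b * u2 * ((d : G) * b)⁻¹ = u2
            calc (d : G) * b * u2 * ((d : G) * b)⁻¹ = d * (b * u2 * b⁻¹) * (d : G)⁻¹ := by group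
              _ = ((d : G) * v2 * (d : G)⁻¹) * ((d : G) * u2 * (d : G)⁻¹) := by rw [hb2']; group
              _ = v2 * (v2 * u2) := by rw [h, hv2, hfixv (hA0Q d.2) hy]
              _ = u2 := by rw [← mul_assoc, isElementaryAbelian_two_sq hUe hv2U, one_mul]
      rw [h2] at h
      exact h.ge.trans (mul_comm _ _).le
    set C0 := U ⊓ centralizer (A0 : Set G) with hC0def
    set CA := U ⊓ centralizer (A : Set G)
    set C2 := U ⊓ centralizer (A2 : Set G)
    have hC0C2 : C0 ≤ C2 := le_inf inf_le_left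
      (inf_le_right.trans (centralizer_le (SetLike.coe_subset_coe.2 inf_le_left)))
    have hu2C : u2 ∈ C2 := ⟨hu2U, fun d hd => mem_centralizer_singleton_iff.1 hd.2⟩
    have hu3C : u3 ∈ C2 := ⟨hu3U, fun d hd => by
      have hda : Commute d a := isElementaryAbelian_two_comm hA.2.1 hd.1.1 ha
      have hdu : Commute d u2 := mem_centralizer_singleton_iff.1 hd.2
      exact ((hda.mul_right hdu).mul_right hda.inv_right).eq⟩
    have hbfix : ∀ u ∈ C0, b * u * b⁻¹ = u := fun u hu => by rw [hu.2 b hb, mul_inv_cancel_right]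
    set S2 := C0 ⊔ zpowers u2
    have hS2 : 2 * Nat.card C0 ≤ Nat.card S2 :=
      two_mul_card_le le_sup_left (mem_sup_right (mem_zpowers u2)) fun h => hb2 (hbfix _ h)
    have hu3S : u3 ∉ S2 := by
      intro h
      obtain ⟨d, hd, s, hs, e⟩ := exists_mul_of_le_normalizer (le_normalizer_of_commute
        (A := C0) (B := zpowers u2)
        fun d hd s hs => isElementaryAbelian_two_comm hUe hd.1 (zpowers_le.2 hu2U hs)) h
      have hb3' : b * u3 * b⁻¹ ≠ u3 := by
        rw [hb3]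
        intro e'
        exact hv21 (conj_eq_one_iff.1 (hau3.trans (mul_eq_right.1 e')))
      classical
      obtain ⟨i, rfl⟩ := (IsOfFinOrder.mem_powers_iff_mem_zpowers (isOfFinOrder_of_finite u2)).2 hs
      have hu22 : u2 ^ 2 = 1 := by rw [pow_two]; exact isElementaryAbelian_two_sq hUe hu2U
      simp only at e
      rw [← Nat.div_add_mod i 2, pow_add, pow_mul, hu22, one_pow, one_mul] at e
      rcases Nat.mod_two_eq_zero_or_one i with h' | h' <;> rw [h'] at e
      · rw [pow_zero, mul_one] at e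
        exact hb3' (e ▸ hbfix d hd)
      · rw [pow_one] at e
        have e' : b * u3 * b⁻¹ = d * (v2 * u2) := by
          rw [e, show b * (d * u2) * b⁻¹ = (b * d * b⁻¹) * (b * u2 * b⁻¹) by group, hbfix d hd, hb2']
        rw [hb3, e] at e'
        replace e' : v3 * d = d * v2 := mul_right_cancel (b := u2)
          ((mul_assoc v3 d u2).trans (e'.trans (mul_assoc d v2 u2).symm))
        have hv3U : v3 ∈ U := by simpa [hv3] using conj_mem_normalizer (hK'n (inv_mem hy)) (c.W_le_U f p p' hv)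
        rw [isElementaryAbelian_two_comm hUe hv3U hd.1, mul_right_inj] at e'
        exact hv23 e'.symm
    have hC2 : 2 * Nat.card S2 ≤ Nat.card C2 := two_mul_card_le
      (sup_le hC0C2 (zpowers_le.2 hu2C)) hu3C hu3S
    have hcomm : ∀ d ∈ A2, ∀ u ∈ C2, d * u = u * d := fun d hd u hu => hu.2 d hd
    have hSe : IsElementaryAbelian 2 (A2 ⊔ C2) :=
      PLocal.ThompsonSubgroup.IsElementaryAbelian.sup
        (PLocal.ThompsonSubgroup.IsElementaryAbelian.mono hA.2.1 (inf_le_left.trans inf_le_left))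
        (PLocal.ThompsonSubgroup.IsElementaryAbelian.mono hUe inf_le_left)
        fun d hd u hu => (hcomm d hd u hu).symm
    have hST : A2 ⊔ C2 ≤ T := sup_le ((inf_le_left.trans inf_le_left).trans hA.1)
      ((inf_le_left.trans ((c.U_le_cor f p p').trans cor_le)).trans f.B_le)
    have hinf : Nat.card ↥(A2 ⊓ C2) ≤ Nat.card CA := card_le_of_le fun u hu =>
      ⟨hu.2.1, fun d hd => isElementaryAbelian_two_comm hA.2.1 hd hu.1.1.1⟩
    have hc := card_sup_mul_inf (le_normalizer_of_commute (A := A2) (B := C2) hcomm)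
    have hle : Nat.card ↥(A2 ⊔ C2) ≤ Nat.card A := by rw [hA.card]; exact card_le_aOrd hST hSe
    have h1 : Nat.card A0 * (4 * Nat.card C0) ≤ 2 * (Nat.card A * Nat.card CA) := by
      calc Nat.card A0 * (4 * Nat.card C0) ≤ (2 * Nat.card A2) * Nat.card C2 :=
            Nat.mul_le_mul hA2card (by omega)
        _ = 2 * (Nat.card A2 * Nat.card C2) := by ring
        _ = 2 * (Nat.card ↥(A2 ⊔ C2) * Nat.card ↥(A2 ⊓ C2)) := by rw [hc]
        _ ≤ _ := Nat.mul_le_mul_left _ (Nat.mul_le_mul hle hinf)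
    rw [hA2, hC0] at h1
    have hpos : 0 < Nat.card A0 * Nat.card CA := Nat.mul_pos Nat.card_pos Nat.card_pos
    nlinarith

end Act

end Cfsg.Agent.QTTwoMax
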