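import Cfsg.Agent.Lib.JComp.Component
import Cfsg.Agent.Lib.JComp.Four

/-!
A `J(T)`-component normalised by the Baumann subgroup.
-/

set_option autoImplicit false
set_option linter.unusedSectionVars false
set_option linter.style.haveILetI false

namespace Cfsg.Agent.QTTwoMax

open Subgroup Cfsg Cfsg.Agent.CharP Cfsg.Agent.JComp
open scoped commutatorElement

variable {G : Type*} [Group G] [Finite G] {T B K : Subgroup G}

/-- `B = C(Ω₁Z(J(T)))` is contained in the `2`-group `T`. -/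
structure Frame (T B : Subgroup G) : Prop where
  hT : IsPGroup 2 ↥T
  eq : B = T ⊓ centralizer (Z0 T : Set G)
  cent : centralizer (Z0 T : Set G) ≤ T

namespace Frame

variable (f : Frame T B)
include f

theorem B_le : B ≤ T := f.eq.le.trans inf_le_left

theorem cent_eq : centralizer (Z0 T : Set G) = B := by
  rw [f.eq, inf_eq_right.2 f.cent]

theorem J_le_B : Jt T ≤ B := by
  rw [← f.cent_eq]
  exact fun j hj y hy => ((mem_omegaCenterOf.1 hy).2.1 j hj).symm

theorem Z0_le_B : Z0 T ≤ B := (omegaCenterOf_le _).trans f.J_le_B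

theorem B_cent {b y : G} (hb : b ∈ B) (hy : y ∈ Z0 T) : b * y = y * b :=
  ((f.cent_eq.ge hb) y hy).symm

theorem pB : IsPGroup 2 ↥B := f.hT.to_le f.B_le

theorem J_B : Jt B = Jt T := J_eq_of_le_of_le f.J_le_B f.B_le

theorem normalizer_B : normalizer (B : Set G) = normalizer (Jt T : Set G) := by
  refine le_antisymm ?_ ?_
  · rw [← f.J_B]
    exact normalizer_le_normalizer_J B
  · rw [← f.cent_eq]
    exact (normalizer_le_normalizer_omegaCenterOf (Jt T)).trans
      (normalizer_le_normalizer_centralizer' _)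

theorem T_norm : T ≤ normalizer (B : Set G) := by
  rw [f.normalizer_B]; exact le_normalizer_J T

end Frame

/-- A component normalised by `B`. -/
structure Piece (T B K : Subgroup G) : Prop where
  comp : IsJComponent T K
  normB : B ≤ normalizer (K : Set G)

/-- The largest normal `2`-subgroup of `⟨K, B⟩`. -/
abbrev Qc (B K : Subgroup G) : Subgroup G := B ⊓ centralizer (wOf K : Set G)

namespace Piece

variable (p : Piece T B K) (f : Frame T B)
include p f

theorem W_le_B : wOf K ≤ B := (comp_W_le_J f.hT p.comp).trans f.J_le_B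

theorem Qk_le_B : Qk K ≤ B := by
  rw [← f.cent_eq, le_centralizer_iff, ← comp_Z0_split f.hT p.comp]
  refine sup_le ?_ (inf_le_right.trans (le_centralizer_iff.1 (Qk_le_centralizer_wOf K)))
  exact inf_le_right.trans (inf_le_right.trans
    (centralizer_le (SetLike.coe_subset_coe.2 ((pCoreOf_le 2 K).trans le_sup_left))))

theorem Qk_le_Qc : Qk K ≤ Qc B K := le_inf (p.Qk_le_B f) (Qk_le_centralizer_wOf K)

theorem inf_B : K ⊓ B = Qk K :=
  le_antisymm (comp_two_le p.comp (f.pB.to_le inf_le_right) inf_le_left)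
    (le_inf (pCoreOf_le 2 K) (p.Qk_le_B f))

theorem card_H : Nat.card ↥(K ⊔ B) = 3 * Nat.card B := by
  have h := card_sup_mul_inf p.normB
  rw [p.inf_B f, comp_card p.comp] at h
  refine Nat.eq_of_mul_eq_mul_left (Nat.card_pos (α := Qk K)) ?_
  linear_combination h

theorem index_H : B.relIndex (K ⊔ B) = 3 := by
  have h := card_mul_relIndex' (le_sup_right : B ≤ K ⊔ B)
  rw [p.card_H f, mul_comm 3] at h
  exact Nat.eq_of_mul_eq_mul_left Nat.card_pos h

theorem syl : IsSylIn 2 B (K ⊔ B) :=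
  isSylIn_of_not_dvd f.pB le_sup_right (by rw [p.index_H f]; norm_num)

theorem exists_v : ∃ v ∈ wOf K, v ∈ Z0 T ∧ v ≠ 1 ∧
    ∀ w ∈ wOf K, (∀ j ∈ Jt T, j * w = w * j) → w = 1 ∨ w = v := by
  obtain ⟨v, hv, hv0, hv1, h⟩ := comp_exists_z f.hT p.comp
  refine ⟨v, hv, hv0, hv1, fun w hw hc => h w hw ?_⟩
  exact mem_Z0 (J_le T (comp_W_le_J f.hT p.comp hw)) hc (comp_wexp p.comp w hw)

theorem act {v b w : G} (hv : v ∈ wOf K) (hv0 : v ∈ Z0 T) (hv1 : v ≠ 1) (hb : b ∈ B)
    (hbC : b ∉ centralizer (wOf K : Set G)) (hw : w ∈ wOf K) (hw1 : w ≠ 1) (hwv : w ≠ v) :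
    b * w * b⁻¹ = v * w := by
  have hbN := normalizer_le_normalizer_wOf K (p.normB hb)
  have hbv : b * v * b⁻¹ = v := by rw [f.B_cent hb hv0, mul_inv_cancel_right]
  rcases four_cases (comp_wcard p.comp) (comp_wexp p.comp) hv hw hv1 hw1 hwv.symm
    (conj_mem_normalizer hbN hw) with h | h | h | h
  · exact absurd (conj_eq_one_iff.1 h) hw1
  · rw [← hbv] at h
    exact absurd (mul_left_cancel (mul_right_cancel h)) hwv
  · exact absurd (fun u hu => (four_commutes (comp_wcard p.comp) (comp_wexp p.comp) hv hw hv1 hw1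
      hwv.symm (f.B_cent hb hv0) (mul_inv_eq_iff_eq_mul.1 h) u hu).symm) hbC
  · exact h

theorem comm_mem {v b w : G} (hv : v ∈ wOf K) (hv0 : v ∈ Z0 T) (hv1 : v ≠ 1) (hb : b ∈ B)
    (hw : w ∈ wOf K) : b * w * b⁻¹ = w ∨ b * w * b⁻¹ = v * w := by
  by_cases hbC : b ∈ centralizer (wOf K : Set G)
  · exact Or.inl (mul_inv_eq_iff_eq_mul.2 (hbC w hw).symm)
  rcases eq_or_ne w 1 with rfl | hw1
  · exact Or.inl (by simp)
  rcases eq_or_ne w v with rfl | hwv
  · exact Or.inl (mul_inv_eq_iff_eq_mul.2 (f.B_cent hb hv0))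
  · exact Or.inr (p.act f hv hv0 hv1 hb hbC hw hw1 hwv)

theorem moves : ∃ b ∈ Jt T, b ∉ centralizer (wOf K : Set G) := by
  obtain ⟨A, hA, a, ha, haC⟩ := comp_exists_moving p.comp
  exact ⟨a, hA.le_J ha, haC⟩

/-- Two elements of `B` moving `W` differ by one centralising it. -/
theorem mul_mem_cent {a b : G} (ha : a ∈ B) (haC : a ∉ centralizer (wOf K : Set G)) (hb : b ∈ B)
    (hbC : b ∉ centralizer (wOf K : Set G)) : a * b ∈ centralizer (wOf K : Set G) := by
  obtain ⟨v, hv, hv0, hv1, -⟩ := p.exists_v f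
  intro w hw
  rcases eq_or_ne w 1 with rfl | hw1
  · simp
  rcases eq_or_ne w v with rfl | hwv
  · exact (f.B_cent (mul_mem ha hb) hv0).symm
  refine (mul_inv_eq_iff_eq_mul.1 ?_).symm
  have hav : a * v * a⁻¹ = v := by rw [f.B_cent ha hv0, mul_inv_cancel_right]
  calc a * b * w * (a * b)⁻¹ = a * (b * w * b⁻¹) * a⁻¹ := by group
    _ = (a * v * a⁻¹) * (a * w * a⁻¹) := by rw [p.act f hv hv0 hv1 hb hbC hw hw1 hwv]; group
    _ = w := by
      rw [hav, p.act f hv hv0 hv1 ha haC hw hw1 hwv, ← mul_assoc, comp_wexp p.comp v hv, one_mul]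

theorem Qc_index : (Qc B K).relIndex B = 2 := by
  obtain ⟨a, haJ, haC⟩ := p.moves f
  have ha := f.J_le_B haJ
  rw [relIndex, index_eq_two_iff_exists_notMem_and]
  refine ⟨⟨a, ha⟩, fun h => haC (mem_subgroupOf.1 h).2, fun b => ?_⟩
  by_cases hb : (b : G) ∈ centralizer (wOf K : Set G)
  · exact Or.inr (mem_subgroupOf.2 ⟨b.2, hb⟩)
  · exact Or.inl (mem_subgroupOf.2 ⟨mul_mem b.2 ha, p.mul_mem_cent f b.2 hb ha haC⟩)

theorem H_le_normK : K ⊔ B ≤ normalizer (K : Set G) := sup_le le_normalizer p.normB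

theorem H_inf_cent : (K ⊔ B) ⊓ centralizer (wOf K : Set G) = Qc B K := by
  refine le_antisymm (fun h hh => ?_) (inf_le_inf_right _ le_sup_right)
  obtain ⟨k, hk, b, hb, rfl⟩ := exists_mul_of_le_normalizer p.normB hh.1
  obtain ⟨x, hx, hxo⟩ := comp_exists_three p.comp
  obtain ⟨q, hq, y, hy, rfl⟩ := exists_mul_of_le_normalizer
    (zpowers_le.2 (normalizer_le_normalizer_Qk K (le_normalizer hx)))
    ((comp_gen_three p.comp hx hxo).ge hk)
  obtain ⟨v, hv, hv0, hv1, -⟩ := p.exists_v f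
  have hy1 : y = 1 := by
    by_contra hne
    have hyK : y ∈ K := zpowers_le.2 hx hy
    have hyo : orderOf y = 3 := by
      refine orderOf_eq_prime ?_ hne
      have h := (zpowers x).orderOf_dvd_natCard hy
      rw [Nat.card_zpowers, hxo] at h
      exact orderOf_dvd_iff_pow_eq_one.1 h
    refine hv1 (comp_fixed_W p.comp hyK hyo hv ?_)
    have e1 := hh.2 v hv
    have e2 := Qk_le_centralizer_wOf K hq v hv
    calc y * v = q⁻¹ * (q * y * b * v) * b⁻¹ := by
          rw [show q * y * b * v = q * y * (b * v) by group, f.B_cent hb hv0]; group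
      _ = q⁻¹ * (v * q) * y := by rw [← e1]; group
      _ = v * y := by rw [e2]; group
  subst hy1
  rw [mul_one] at hh ⊢
  refine ⟨mul_mem (p.Qk_le_B f hq) hb, hh.2⟩

theorem H_norm_Qc : K ⊔ B ≤ normalizer (Qc B K : Set G) := by
  rw [← p.H_inf_cent f]
  refine (le_inf le_normalizer ?_).trans (normalizer_inf_le_normalizer_inf _ _)
  exact (p.H_le_normK f).trans
    ((normalizer_le_normalizer_wOf K).trans (normalizer_le_normalizer_centralizer' _))

/-- Every normal `2`-subgroup of `⟨K, B⟩` centralises `W`. -/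
theorem two_le {R : Subgroup G} (hR : IsPGroup 2 ↥R) (hRH : R ≤ K ⊔ B)
    (hn : K ⊔ B ≤ normalizer (R : Set G)) : R ≤ Qc B K := by
  have hRB : R ≤ B := (le_pCoreOf hRH hn hR).trans (pCoreOf_le_of_isSylIn (p.syl f))
  refine le_inf hRB fun r hr => ?_
  by_contra hrC
  obtain ⟨v, hv, hv0, hv1, -⟩ := p.exists_v f
  obtain ⟨x, hx, hxo⟩ := comp_exists_three p.comp
  have hr' : x * r * x⁻¹ ∈ B := hRB (conj_mem_normalizer (hn (mem_sup_left hx)) hr)
  set u := x⁻¹ * v * x with hu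
  have huW : u ∈ wOf K := by
    have := conj_mem_normalizer (normalizer_le_normalizer_wOf K (le_normalizer (inv_mem hx))) hv
    rwa [inv_inv] at this
  have hu1 : u ≠ 1 := by
    intro e
    exact hv1 (by rw [show v = x * u * x⁻¹ by rw [hu]; group, e]; group)
  have huv : u ≠ v := by
    intro e
    refine hv1 (comp_fixed_W p.comp hx hxo hv ?_)
    calc x * v = x * u := by rw [e]
      _ = v * x := by rw [hu]; group
  have hfix : r * u * r⁻¹ = u := by
    have e := f.B_cent hr' hv0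
    calc r * u * r⁻¹ = x⁻¹ * ((x * r * x⁻¹) * v * (x * r * x⁻¹)⁻¹) * x := by rw [hu]; group
      _ = u := by rw [e, mul_inv_cancel_right]
  exact hv1 (by simpa [p.act f hv hv0 hv1 (hRB hr) hrC huW hu1 huv] using hfix)

/-- A normal subgroup of `⟨K, B⟩` lies in `Qc` or contains `K`. -/
theorem dichotomy {N : Subgroup G} (hN : N ≤ K ⊔ B) (hn : K ⊔ B ≤ normalizer (N : Set G)) :
    N ≤ Qc B K ∨ K ≤ N := by
  by_cases h2 : IsPGroup 2 ↥N
  · exact Or.inl (p.two_le f h2 hN hn)
  right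
  obtain ⟨n, hn2⟩ := IsPGroup.iff_card.1 f.pB
  have h3 : 3 ∣ Nat.card N := by
    by_contra h3
    refine h2 ?_
    have hd := card_dvd_of_le hN
    rw [p.card_H f, hn2] at hd
    have hd' : Nat.card N ∣ 2 ^ n :=
      (((Nat.prime_three.coprime_iff_not_dvd).2 h3).symm).dvd_of_dvd_mul_left hd
    obtain ⟨k, -, hk⟩ := (Nat.dvd_prime_pow Nat.prime_two).1 hd'
    exact IsPGroup.of_card hk
  haveI : Fact (Nat.Prime 3) := ⟨Nat.prime_three⟩
  obtain ⟨⟨g, hgN⟩, hgo⟩ := exists_prime_orderOf_dvd_card' (G := N) 3 h3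
  rw [Subgroup.orderOf_mk] at hgo
  have hgK : g ∈ K := by
    refine odd_mem_of_two_index (p.H_le_normK f) (n := n) ?_ (hN hgN) (by rw [hgo]; decide)
    have h := card_sup_mul_inf p.normB
    rw [← card_mul_relIndex' (le_sup_left : K ≤ K ⊔ B), mul_assoc] at h
    rw [← hn2]
    exact ⟨_, (Nat.eq_of_mul_eq_mul_left Nat.card_pos h).symm⟩
  exact comp_induct p.comp hgK hgo hgN ((le_sup_left.trans hn))

theorem centralizes_or {S : Subgroup G} (hS : K ⊔ B ≤ normalizer (S : Set G)) :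
    K ≤ centralizer (S : Set G) ∨ (K ⊔ B) ⊓ centralizer (S : Set G) ≤ Qc B K := by
  rcases p.dichotomy f (N := (K ⊔ B) ⊓ centralizer (S : Set G)) inf_le_left
    ((le_inf le_normalizer (hS.trans (normalizer_le_normalizer_centralizer' S))).trans
      (normalizer_inf_le_normalizer_inf _ _)) with h | h
  · exact Or.inr h
  · exact Or.inl (h.trans inf_le_right)

/-- If `x` centralises `O₂(K)` modulo `S ≤ B`, then `O₂(K) ≤ S`. -/
theorem Qk_le_of {S : Subgroup G} (hSB : S ≤ B) (hn : K ≤ normalizer (S : Set G)) {x : G}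
    (hx : x ∈ K) (hxo : orderOf x = 3) (hc : ∀ q ∈ Qk K, ⁅x, q⁆ ∈ S) : Qk K ≤ S := by
  have hxn : zpowers x ≤ normalizer (S : Set G) := zpowers_le.2 (hn hx)
  set L := S ⊔ zpowers x
  have hKL : K ≤ L := by
    refine comp_induct p.comp hx hxo (mem_sup_right (mem_zpowers x)) ?_
    rw [← comp_gen_three p.comp hx hxo]
    refine sup_le (fun q hq => ?_) (le_sup_right.trans le_normalizer)
    refine mem_normalizer_of_cjg_le ?_
    rw [cjg, Subgroup.map_sup, conj_map_of_mem (hn (pCoreOf_le 2 K hq)), MonoidHom.map_zpowers]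
    refine sup_le le_sup_left (zpowers_le.2 ?_)
    show q * x * q⁻¹ ∈ L
    rw [show q * x * q⁻¹ = ⁅x, q⁆⁻¹ * x by rw [commutatorElement_def]; group]
    exact mul_mem (mem_sup_left (inv_mem (hc q hq))) (mem_sup_right (mem_zpowers x))
  intro q hq
  obtain ⟨s, hs, y, hy, rfl⟩ := exists_mul_of_le_normalizer hxn (hKL (pCoreOf_le 2 K hq))
  have hy1 : y = 1 := by
    have hyB : y ∈ B := by
      have := mul_mem (inv_mem (hSB hs)) (p.Qk_le_B f hq)
      rwa [inv_mul_cancel_left] at this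
    refine eq_one_of_mem_pgroup f.pB hyB ?_
    have h := (zpowers x).orderOf_dvd_natCard hy
    rw [Nat.card_zpowers, hxo] at h
    exact Nat.Coprime.coprime_dvd_left h (by norm_num)
  rw [hy1, mul_one]
  exact hs

theorem Z0_split {v y : G} (hv : v ∈ wOf K) (hv0 : v ∈ Z0 T) (hv1 : v ≠ 1) (hy : y ∈ Z0 T) :
    ∃ c ∈ Z0 T, c ∈ centralizer (K : Set G) ∧ (y = c ∨ y = v * c) := by
  rw [← comp_Z0_split f.hT p.comp] at hy
  obtain ⟨c, hc, w, hw, rfl⟩ := exists_mul_of_le_normalizer (le_normalizer_of_commute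
    (A := Z0 T ⊓ ((K ⊔ Jt T) ⊓ centralizer ((K ⊔ Jt T : Subgroup G) : Set G)))
    (B := Z0 T ⊓ wOf K)
    fun a ha b hb => isElementaryAbelian_two_comm (elem_omegaCenterOf _)
      (show a ∈ Z0 T from ha.1) (show b ∈ Z0 T from hb.1)) hy
  refine ⟨c, hc.1, centralizer_le (SetLike.coe_subset_coe.2 le_sup_left) hc.2.2, ?_⟩
  obtain ⟨z, -, -, -, hu⟩ := comp_exists_z f.hT p.comp
  have hvz : v = z := (hu v hv hv0).resolve_left hv1
  rcases hu w hw.2 hw.1 with e | e
  · exact Or.inl (by rw [e, mul_one])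
  · exact Or.inr (by rw [e, ← hvz, isElementaryAbelian_two_comm (elem_omegaCenterOf _) hc.1 hv0])

end Piece

end Cfsg.Agent.QTTwoMax
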