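import Cfsg.Agent.Lib.QTTwoMax.Comps
import Cfsg.Agent.Lib.QTTwoMax.PairMod
import Cfsg.Agent.Lib.QTTwoMax.Pair
import Cfsg.Agent.Lib.QTTwoMax.FinalProof

/-!
All maximal 2-local subgroups over `T` have two components interchanged by `T`: this is impossible.
-/

set_option autoImplicit false
set_option linter.unusedSectionVars false
set_option linter.style.haveILetI false

namespace Cfsg.Agent.QTTwoMax

open Subgroup Cfsg Cfsg.Agent.CharP Cfsg.Agent.JComp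
open scoped commutatorElement

universe u

variable {G : Type u} [Group G] [Finite G] {T : Sylow 2 G}


namespace Piece

variable {T B K : Subgroup G} (p : Piece T B K) (f : Frame T B)
include p f

theorem v_eq {v w : G} (hv : v ∈ wOf K) (hv0 : v ∈ Z0 T) (hv1 : v ≠ 1) (hw : w ∈ wOf K)
    (hw0 : w ∈ Z0 T) (hw1 : w ≠ 1) : w = v := by
  obtain ⟨z, -, -, -, h⟩ := comp_exists_z f.hT p.comp
  rw [(h v hv hv0).resolve_left hv1, (h w hw hw0).resolve_left hw1]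

/-- An element of `Qc` is a product of an element of `W` and one centralising `K`. -/
theorem split_Qc (hQW : Qk K = wOf K) {x u : G} (hx : x ∈ K) (hxo : orderOf x = 3)
    (hu : u ∈ Qc B K) : ∃ e ∈ wOf K, e⁻¹ * u ∈ B ⊓ centralizer (K : Set G) := by
  have hxW : x ∈ normalizer (wOf K : Set G) := normalizer_le_normalizer_wOf K (le_normalizer hx)
  have hcm : ∀ e ∈ wOf K, x * e * x⁻¹ * e⁻¹ ∈ wOf K := fun e he =>
    mul_mem (conj_mem_normalizer hxW he) (inv_mem he)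
  let φ : wOf K → wOf K := fun e => ⟨x * e * x⁻¹ * (e : G)⁻¹, hcm e e.2⟩
  have hinj : Function.Injective φ := by
    intro a b h
    have h' : x * a * x⁻¹ * (a : G)⁻¹ = x * b * x⁻¹ * (b : G)⁻¹ := congrArg Subtype.val h
    have hab : (b : G)⁻¹ * a ∈ wOf K := mul_mem (inv_mem b.2) a.2
    refine Subtype.ext (inv_mul_eq_one.1 (comp_fixed_W p.comp hx hxo hab ?_)).symm
    refine mul_inv_eq_iff_eq_mul.1 ?_
    calc x * ((b : G)⁻¹ * a) * x⁻¹
        = (x * b * x⁻¹)⁻¹ * (x * a * x⁻¹ * (a : G)⁻¹) * a := by group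
      _ = (b : G)⁻¹ * a := by rw [h']; group
  obtain ⟨e, he⟩ := Finite.injective_iff_surjective.1 hinj
    ⟨⁅x, u⁆, hQW ▸ p.comm_Qc f hx hu⟩
  have he' : x * e * x⁻¹ * (e : G)⁻¹ = x * u * x⁻¹ * u⁻¹ := congrArg Subtype.val he
  have hW : ((e : G)⁻¹ * u) ∈ centralizer (wOf K : Set G) :=
    mul_mem (inv_mem (show (e : G) ∈ centralizer (wOf K : Set G) from
      fun w hw => comp_W_comm p.comp hw e.2)) hu.2
  have hxf : x * ((e : G)⁻¹ * u) = (e : G)⁻¹ * u * x := by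
    refine mul_inv_eq_iff_eq_mul.1 ?_
    calc x * ((e : G)⁻¹ * u) * x⁻¹
        = (x * e * x⁻¹)⁻¹ * (x * u * x⁻¹ * u⁻¹) * u := by group
      _ = (e : G)⁻¹ * u := by rw [← he']; group
  refine ⟨e, e.2, mem_inf.2 ⟨B.mul_mem (B.inv_mem (p.W_le_B f e.2)) (mem_inf.1 hu).1, ?_⟩⟩
  refine mem_centralizer_iff.2 fun k hk => ?_
  rw [SetLike.mem_coe, ← comp_gen_three p.comp hx hxo, hQW] at hk
  have hle : wOf K ⊔ zpowers x ≤ centralizer ({(e : G)⁻¹ * u} : Set G) :=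
    sup_le (fun w hw => mem_centralizer_singleton_iff.2 (hW w hw))
      (zpowers_le.2 (mem_centralizer_singleton_iff.2 hxf))
  exact mem_centralizer_singleton_iff.1 (hle hk)

theorem exists_conj {v u : G} (hv : v ∈ wOf K) (hv1 : v ≠ 1) (hu : u ∈ wOf K) (hu1 : u ≠ 1)
    (huv : u ≠ v) : ∃ y ∈ K, orderOf y = 3 ∧ y * v * y⁻¹ = u := by
  obtain ⟨x, hx, hxo⟩ := comp_exists_three p.comp
  have hN : ∀ {g : G}, g ∈ K → g * v * g⁻¹ ∈ wOf K := fun hg =>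
    conj_mem_normalizer (normalizer_le_normalizer_wOf K (le_normalizer hg)) hv
  have hmove : ∀ {g : G}, g ∈ K → orderOf g = 3 → g * v * g⁻¹ ≠ v := fun hg ho e =>
    hv1 (comp_fixed_W p.comp hg ho hv (mul_inv_eq_iff_eq_mul.1 e))
  have hcase : ∀ {g : G}, g ∈ K → orderOf g = 3 → g * v * g⁻¹ = u ∨ g * v * g⁻¹ = v * u := by
    intro g hg ho
    rcases four_cases (comp_wcard p.comp) (comp_wexp p.comp) hv hu hv1 hu1 huv.symm (hN hg) with
      e | e | e | e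
    · exact absurd (conj_eq_one_iff.1 e) hv1
    · exact absurd e (hmove hg ho)
    · exact Or.inl e
    · exact Or.inr e
  rcases hcase hx hxo with e | e
  · exact ⟨x, hx, hxo, e⟩
  rcases hcase (inv_mem hx) (by rw [orderOf_inv, hxo]) with e' | e'
  · exact ⟨x⁻¹, inv_mem hx, by rw [orderOf_inv, hxo], e'⟩
  exfalso
  have h2 : orderOf (x * x) = 3 := by
    rw [← pow_two, Nat.Coprime.orderOf_pow (by rw [hxo]; norm_num), hxo]
  refine hmove (mul_mem hx hx) h2 ?_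
  calc x * x * v * (x * x)⁻¹ = x * (x * v * x⁻¹) * x⁻¹ := by group
    _ = x * (x⁻¹ * v * x⁻¹⁻¹) * x⁻¹ := by rw [e, ← e']
    _ = v := by group

theorem W_inf_cent : wOf K ⊓ centralizer (K : Set G) = ⊥ := by
  obtain ⟨x, hx, hxo⟩ := comp_exists_three p.comp
  exact (eq_bot_iff_forall _).2 fun w hw => comp_fixed_W p.comp hx hxo hw.1 (hw.2 x hx)

end Piece

namespace Double

variable {N L₁ L₂ : Subgroup G}

theorem W_ne (d : Double T N L₁ L₂) : wOf L₁ ≠ wOf L₂ := by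
  intro e
  have h := comp_wcard d.piece₁.comp
  have h0 : wOf L₁ = ⊥ := by
    have := d.disj
    rwa [← e, inf_idem] at this
  rw [h0, card_bot] at h
  omega

theorem symm (d : Double T N L₁ L₂) (hN : (T : Subgroup G) ≤ N) : Double T N L₂ L₁ where
  piece₁ := d.piece₂
  piece₂ := d.piece₁
  le₁ := d.le₂
  le₂ := d.le₁
  cent₁ := d.cent₂
  cent₂ := d.cent₁
  disj := by rw [inf_comm]; exact d.disj
  norm₁ := d.norm₂
  norm₂ := d.norm₁
  perm g hg := (d.perm g hg).imp (fun h => ⟨h.2, h.1⟩) (fun h => ⟨h.2, h.1⟩)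
  stab g hg hW := by
    rcases d.perm g hg with h | h
    · exact ⟨h.2, h.1⟩
    · refine absurd ?_ d.W_ne
      rw [← h.2, wOf_cjg, cjg_eq_self.2 hW]
  swap := by
    obtain ⟨t, ht, h⟩ := d.swap
    refine ⟨t⁻¹, inv_mem ht, ?_⟩
    rw [← h, cjg_inv_cjg]
  mover := by
    obtain ⟨t, ht, h⟩ := d.swap
    obtain ⟨b, hb, hb₂, hb₁⟩ := d.mover
    have hne : L₁ ≠ L₂ := fun e => d.W_ne (congrArg wOf e)
    have h' : cjg t L₂ = L₁ := by
      rcases d.perm t (hN ht) with ⟨a, -⟩ | ⟨-, a⟩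
      · exact absurd ((cjg_eq_self.2 a).symm.trans h) hne
      · exact a
    have hnB : (T : Subgroup G) ≤ normalizer (Bm T : Set G) :=
      (le_inf le_normalizer (((le_normalizer_J _).trans
        (normalizer_le_normalizer_omegaCenterOf _)).trans (normalizer_le_normalizer_centralizer' _))).trans
        (normalizer_inf_le_normalizer_inf _ _)
    refine ⟨t * b * t⁻¹, conj_mem_normalizer (hnB ht) hb, fun w hw => ?_, fun hc => hb₁ fun w hw => ?_⟩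
    · rw [SetLike.mem_coe, ← h', wOf_cjg, mem_cjg] at hw
      calc w * (t * b * t⁻¹) = t * ((t⁻¹ * w * t) * b) * t⁻¹ := by group
        _ = t * (b * (t⁻¹ * w * t)) * t⁻¹ := by rw [hb₂ _ hw]
        _ = t * b * t⁻¹ * w := by group
    · have hw' : t * w * t⁻¹ ∈ wOf L₂ := by rw [← h, wOf_cjg]; exact conj_mem_cjg hw
      have e := hc _ hw'
      calc w * b = t⁻¹ * (t * w * t⁻¹ * (t * b * t⁻¹)) * t := by group
        _ = b * w := by rw [e]; group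
  uniq M hM h₁ h₂ := d.uniq M hM h₂ h₁
  odd_trivial g hg h₁ h₂ hc ho := d.odd_trivial g hg h₂ h₁ (by rwa [inf_right_comm]) ho

theorem v_not_mem (d : Double T N L₁ L₂) {v : G} (hv : v ∈ wOf L₁) (hv1 : v ≠ 1) :
    v ∉ wOf L₂ := fun h => hv1 (mem_bot.1 (d.disj.le ⟨hv, h⟩))

end Double

namespace Wreath

theorem conj_Z0 {t y : G} (ht : t ∈ normalizer (Z0 (T : Subgroup G) : Set G))
    (hy : y ∈ Z0 (T : Subgroup G)) : t * y * t⁻¹ ∈ Z0 (T : Subgroup G) :=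
  conj_mem_normalizer ht hy

theorem T_norm_Z0 : (T : Subgroup G) ≤ normalizer (Z0 (T : Subgroup G) : Set G) :=
  (le_normalizer_J _).trans (normalizer_le_normalizer_omegaCenterOf _)

theorem conj_ne_one {t v : G} (h : v ≠ 1) : t * v * t⁻¹ ≠ 1 := fun e => h (conj_eq_one_iff.1 e)

/-- The subgroup of `Ω₁Z(J(T))` centralised by two components. -/
abbrev Fd (T : Sylow 2 G) (L₁ L₂ : Subgroup G) : Subgroup G :=
  Z0 (T : Subgroup G) ⊓ centralizer (L₁ : Set G) ⊓ centralizer (L₂ : Set G)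

/-- Two maximal 2-local subgroups with matched components. -/
structure Quad (T : Sylow 2 G) (N L₁ L₂ N' L₁' L₂' : Subgroup G) (v₁ v₂ : G) : Prop where
  mN : Mx T N
  mN' : Mx T N'
  ne : N ≠ N'
  d : Double T N L₁ L₂
  d' : Double T N' L₁' L₂'
  h₁ : v₁ ∈ wOf L₁
  h₁' : v₁ ∈ wOf L₁'
  h₁0 : v₁ ∈ Z0 (T : Subgroup G)
  h₁1 : v₁ ≠ 1
  h₂ : v₂ ∈ wOf L₂
  h₂' : v₂ ∈ wOf L₂'
  h₂0 : v₂ ∈ Z0 (T : Subgroup G)
  h₂1 : v₂ ≠ 1
  n₁ : ¬ Qk L₁ ≤ Qc (Bm T) L₁'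
  n₂ : ¬ Qk L₂ ≤ Qc (Bm T) L₂'

variable (c : Ctx T)
include c

theorem quad_of {N L₁ L₂ N' L₁' L₂' : Subgroup G} (mN : Mx T N) (mN' : Mx T N') (ne : N ≠ N')
    (d : Double T N L₁ L₂) (d' : Double T N' L₁' L₂') (h : ¬ Qk L₁ ≤ Qc (Bm T) L₁') :
    ∃ v₁ v₂, Quad T N L₁ L₂ N' L₁' L₂' v₁ v₂ := by
  have f := c.frame
  obtain ⟨hQ, -, -, -, -, -⟩ := pair f d.piece₁ d'.piece₁ h
  have hW : ¬ wOf L₁ ≤ centralizer (wOf L₁' : Set G) := fun e =>
    h (le_inf (d.piece₁.Qk_le_B f) (hQ.le.trans e))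
  obtain ⟨v, hv, hv0, hv1, -⟩ := d.piece₁.exists_v f
  obtain ⟨v', hv', hv'0, hv'1, -⟩ := d'.piece₁.exists_v f
  have he := fix_eq f d.piece₁ d'.piece₁ hW hv hv0 hv1 hv' hv'0 hv'1
  subst he
  obtain ⟨t, ht, htL⟩ := d.swap
  have ht0 := conj_Z0 (T_norm_Z0 (T := T) ht) hv0
  have htv : t * v * t⁻¹ ∈ wOf L₂ := by
    rw [← htL, wOf_cjg]; exact conj_mem_cjg hv
  rcases d'.perm t (mN'.2 ht) with ⟨h1, -⟩ | ⟨h1, -⟩
  · exfalso
    have e := d'.piece₁.v_eq f hv' hv'0 hv'1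
      (conj_mem_normalizer (normalizer_le_normalizer_wOf _ h1) hv') ht0 (conj_ne_one hv'1)
    exact d.v_not_mem hv hv1 (e ▸ htv)
  refine ⟨v, t * v * t⁻¹, mN, mN', ne, d, d', hv, hv', hv0, hv1, htv, ?_, ht0, conj_ne_one hv1, h,
    fun hle => h fun q hq => ?_⟩
  · rw [← h1, wOf_cjg]; exact conj_mem_cjg hv'
  have hq' : t * q * t⁻¹ ∈ Qk L₂ := by rw [← htL, Qk_cjg]; exact conj_mem_cjg hq
  refine ⟨d.piece₁.Qk_le_B f hq, fun w hw => ?_⟩
  have hw' : t * w * t⁻¹ ∈ wOf L₂' := by rw [← h1, wOf_cjg]; exact conj_mem_cjg hw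
  have e := (hle hq').2 _ hw'
  calc w * q = t⁻¹ * (t * w * t⁻¹ * (t * q * t⁻¹)) * t := by group
    _ = q * w := by rw [e]; group

theorem exists_quad
    (hdir : ∀ N N' L₁ L₂ L₁' L₂', Mx T N → Mx T N' → N ≠ N' → Double T N L₁ L₂ →
      Double T N' L₁' L₂' → ¬ Qk L₁ ≤ Qc (Bm T) L₁' ∨ ¬ Qk L₁ ≤ Qc (Bm T) L₂')
    {N L₁ L₂ N' L₁' L₂' : Subgroup G} (mN : Mx T N) (mN' : Mx T N') (ne : N ≠ N')
    (d : Double T N L₁ L₂) (d' : Double T N' L₁' L₂') :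
    ∃ A A' v₁ v₂, Quad T N L₁ L₂ N' A A' v₁ v₂ := by
  rcases hdir N N' L₁ L₂ L₁' L₂' mN mN' ne d d' with h | h
  · exact ⟨L₁', L₂', quad_of c mN mN' ne d d' h⟩
  · exact ⟨L₂', L₁', quad_of c mN mN' ne d (d'.symm mN'.2) h⟩

variable {N L₁ L₂ N' L₁' L₂' : Subgroup G} {v₁ v₂ : G}

theorem Quad.pr (q : Quad T N L₁ L₂ N' L₁' L₂' v₁ v₂) :
    Qk L₁ = wOf L₁ ∧ Qk L₁' = wOf L₁' ∧ (cor (Bm T) L₁ L₁').relIndex (Bm T) ≤ 16 ∧
    L₁ ≤ centralizer (cor (Bm T) L₁ L₁' : Set G) ∧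
    L₁' ≤ centralizer (cor (Bm T) L₁ L₁' : Set G) := by
  obtain ⟨a, b, d, e, g, -⟩ := pair c.frame q.d.piece₁ q.d'.piece₁ q.n₁
  exact ⟨a, b, d, e, g⟩

theorem Quad.swapIdx (q : Quad T N L₁ L₂ N' L₁' L₂' v₁ v₂) :
    Quad T N L₂ L₁ N' L₂' L₁' v₂ v₁ :=
  ⟨q.mN, q.mN', q.ne, q.d.symm q.mN.2, q.d'.symm q.mN'.2, q.h₂, q.h₂', q.h₂0, q.h₂1, q.h₁, q.h₁', q.h₁0, q.h₁1,
    q.n₂, q.n₁⟩

theorem Quad.W_not_cent (q : Quad T N L₁ L₂ N' L₁' L₂' v₁ v₂) :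
    ¬ wOf L₁' ≤ centralizer (wOf L₁ : Set G) := fun e =>
  q.n₁ (le_inf (q.d.piece₁.Qk_le_B c.frame) ((Quad.pr c q).1.le.trans (le_centralizer_iff.1 e)))

theorem Quad.symm (q : Quad T N L₁ L₂ N' L₁' L₂' v₁ v₂) :
    Quad T N' L₁' L₂' N L₁ L₂ v₁ v₂ := by
  refine ⟨q.mN', q.mN, q.ne.symm, q.d', q.d, q.h₁', q.h₁, q.h₁0, q.h₁1, q.h₂', q.h₂, q.h₂0, q.h₂1,
    fun h => Quad.W_not_cent c q ?_, fun h => Quad.W_not_cent c (Quad.swapIdx c q) ?_⟩
  · exact (wOf_le_Qk _).trans (h.trans inf_le_right)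
  · exact (wOf_le_Qk _).trans (h.trans inf_le_right)

theorem Quad.v_ne (q : Quad T N L₁ L₂ N' L₁' L₂' v₁ v₂) : v₁ ≠ v₂ := fun e =>
  q.d.v_not_mem q.h₁ q.h₁1 (e ▸ q.h₂)

theorem Quad.perm_both (q : Quad T N L₁ L₂ N' L₁' L₂' v₁ v₂) {g : G} (hg : g ∈ N) (hg' : g ∈ N')
    (hg0 : g ∈ normalizer (Z0 (T : Subgroup G) : Set G)) :
    (g ∈ normalizer (L₁ : Set G) ∧ g ∈ normalizer (L₂ : Set G) ∧ g ∈ normalizer (L₁' : Set G) ∧
      g ∈ normalizer (L₂' : Set G) ∧ g * v₁ * g⁻¹ = v₁ ∧ g * v₂ * g⁻¹ = v₂) ∨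
    (cjg g L₁ = L₂ ∧ cjg g L₂ = L₁ ∧ cjg g L₁' = L₂' ∧ cjg g L₂' = L₁' ∧
      g * v₁ * g⁻¹ = v₂ ∧ g * v₂ * g⁻¹ = v₁) := by
  have f := c.frame
  have hz₁ := conj_Z0 hg0 q.h₁0
  have hz₂ := conj_Z0 hg0 q.h₂0
  have fixd : ∀ {A : Subgroup G} {v : G}, Piece (T : Subgroup G) (Bm T) A → v ∈ wOf A →
      v ∈ Z0 (T : Subgroup G) → v ≠ 1 → g ∈ normalizer (A : Set G) → g * v * g⁻¹ = v :=
    fun p hv hv0 hv1 hA => p.v_eq f hv hv0 hv1
      (conj_mem_normalizer (normalizer_le_normalizer_wOf _ hA) hv) (conj_Z0 hg0 hv0) (conj_ne_one hv1)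
  have moved : ∀ {A A' : Subgroup G} {v w : G}, Piece (T : Subgroup G) (Bm T) A' → v ∈ wOf A →
      v ∈ Z0 (T : Subgroup G) → v ≠ 1 → w ∈ wOf A' → w ∈ Z0 (T : Subgroup G) → w ≠ 1 →
      cjg g A = A' → g * v * g⁻¹ = w := by
    intro A A' v w p hv hv0 hv1 hw hw0 hw1 e
    refine p.v_eq f hw hw0 hw1 ?_ (conj_Z0 hg0 hv0) (conj_ne_one hv1)
    rw [← e, wOf_cjg]; exact conj_mem_cjg hv
  rcases q.d.perm g hg with ⟨a₁, a₂⟩ | ⟨a₁, a₂⟩
  · have e₁ := fixd q.d.piece₁ q.h₁ q.h₁0 q.h₁1 a₁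
    have e₂ := fixd q.d.piece₂ q.h₂ q.h₂0 q.h₂1 a₂
    rcases q.d'.perm g hg' with ⟨b₁, b₂⟩ | ⟨b₁, -⟩
    · exact Or.inl ⟨a₁, a₂, b₁, b₂, e₁, e₂⟩
    · exact absurd (e₁.symm.trans (moved q.d'.piece₂ q.h₁' q.h₁0 q.h₁1 q.h₂' q.h₂0 q.h₂1 b₁))
        (Quad.v_ne c q)
  · have e₁ := moved q.d.piece₂ q.h₁ q.h₁0 q.h₁1 q.h₂ q.h₂0 q.h₂1 a₁
    have e₂ := moved q.d.piece₁ q.h₂ q.h₂0 q.h₂1 q.h₁ q.h₁0 q.h₁1 a₂
    rcases q.d'.perm g hg' with ⟨b₁, -⟩ | ⟨b₁, b₂⟩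
    · exact absurd ((fixd q.d'.piece₁ q.h₁' q.h₁0 q.h₁1 b₁).symm.trans e₁) (Quad.v_ne c q)
    · exact Or.inr ⟨a₁, a₂, b₁, b₂, e₁, e₂⟩

theorem Fd_norm {N L₁ L₂ : Subgroup G} (d : Double T N L₁ L₂) {g : G} (hg : g ∈ N)
    (hg0 : g ∈ normalizer (Z0 (T : Subgroup G) : Set G)) :
    g ∈ normalizer (Fd T L₁ L₂ : Set G) := by
  refine mem_normalizer_of_cjg_le fun y hy => ?_
  obtain ⟨z, ⟨⟨hz0, hz1⟩, hz2⟩, rfl⟩ := hy
  show g * z * g⁻¹ ∈ _
  have key : ∀ {A A' : Subgroup G}, cjg g A = A' → z ∈ centralizer (A : Set G) →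
      g * z * g⁻¹ ∈ centralizer (A' : Set G) := by
    intro A A' e hz a ha
    rw [SetLike.mem_coe, ← e, mem_cjg] at ha
    calc a * (g * z * g⁻¹) = g * ((g⁻¹ * a * g) * z) * g⁻¹ := by group
      _ = g * (z * (g⁻¹ * a * g)) * g⁻¹ := by rw [hz _ ha]
      _ = g * z * g⁻¹ * a := by group
  rcases d.perm g hg with ⟨a₁, a₂⟩ | ⟨a₁, a₂⟩
  · exact ⟨⟨conj_Z0 hg0 hz0, key (cjg_eq_self.2 a₁) hz1⟩, key (cjg_eq_self.2 a₂) hz2⟩
  · exact ⟨⟨conj_Z0 hg0 hz0, key a₂ hz2⟩, key a₁ hz1⟩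

theorem Quad.F_inf (q : Quad T N L₁ L₂ N' L₁' L₂' v₁ v₂) :
    Fd T L₁ L₂ ⊓ Fd T L₁' L₂' = ⊥ := by
  by_contra hne
  have hn : ∀ t ∈ (T : Subgroup G), t ∈ normalizer ((Fd T L₁ L₂ ⊓ Fd T L₁' L₂' : Subgroup G) : Set G) :=
    fun t ht => normalizer_inf_le_normalizer_inf _ _
      ⟨Fd_norm c q.d (q.mN.2 ht) (T_norm_Z0 ht), Fd_norm c q.d' (q.mN'.2 ht) (T_norm_Z0 ht)⟩
  obtain ⟨P, hP, hle⟩ := c.exists_max
    (c.frame.pB.to_le ((inf_le_left.trans (inf_le_left.trans inf_le_left)).trans c.frame.Z0_le_B))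
    hne hn
  have key : ∀ {A : Subgroup G}, (Fd T L₁ L₂ ⊓ Fd T L₁' L₂') ≤ centralizer (A : Set G) → A ≤ P :=
    fun h => ((le_centralizer_iff.1 h).trans (centralizer_le_normalizer _)).trans hle
  exact q.ne ((q.d.uniq P hP (key (inf_le_left.trans (inf_le_left.trans inf_le_right)))
    (key (inf_le_left.trans inf_le_right))).symm.trans
    (q.d'.uniq P hP (key (inf_le_right.trans (inf_le_left.trans inf_le_right)))
      (key (inf_le_right.trans inf_le_right))))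

theorem Quad.decomp (q : Quad T N L₁ L₂ N' L₁' L₂' v₁ v₂) {y : G}
    (hy : y ∈ Z0 (T : Subgroup G)) :
    ∃ a ∈ ({1, v₁} : Set G), ∃ b ∈ ({1, v₂} : Set G), ∃ s ∈ Fd T L₁ L₂, y = a * b * s := by
  have f := c.frame
  obtain ⟨r, hr0, hr, hyr⟩ := q.d.piece₁.Z0_split f q.h₁ q.h₁0 q.h₁1 hy
  obtain ⟨s, hs0, hs, hrs⟩ := q.d.piece₂.Z0_split f q.h₂ q.h₂0 q.h₂1 hr0
  have hv2 : v₂ ∈ centralizer (L₁ : Set G) := le_centralizer_iff.1 q.d.cent₁ q.h₂
  rcases hrs with rfl | rfl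
  · rcases hyr with rfl | rfl
    · exact ⟨1, Or.inl rfl, 1, Or.inl rfl, y, ⟨⟨hy, hr⟩, hs⟩, by simp⟩
    · exact ⟨v₁, Or.inr rfl, 1, Or.inl rfl, r, ⟨⟨hr0, hr⟩, hs⟩, by simp⟩
  · have hs1 : s ∈ centralizer (L₁ : Set G) := by
      simpa using mul_mem (inv_mem hv2) hr
    rcases hyr with rfl | rfl
    · exact ⟨1, Or.inl rfl, v₂, Or.inr rfl, s, ⟨⟨hs0, hs1⟩, hs⟩, by simp⟩
    · exact ⟨v₁, Or.inr rfl, v₂, Or.inr rfl, s, ⟨⟨hs0, hs1⟩, hs⟩, by simp [mul_assoc]⟩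

theorem Quad.F_card (q : Quad T N L₁ L₂ N' L₁' L₂' v₁ v₂) :
    Nat.card ↥(Fd T L₁ L₂) ≤ 4 := by
  have q' := Quad.symm c q
  have h := card_sup_mul_inf (le_normalizer_of_commute (A := Fd T L₁ L₂) (B := Fd T L₁' L₂')
    fun a ha b hb => isElementaryAbelian_two_comm (elem_omegaCenterOf _)
      (show a ∈ Z0 (T : Subgroup G) from ha.1.1) hb.1.1)
  rw [Quad.F_inf c q, card_bot, mul_one] at h
  have h1 : Nat.card ↥(Fd T L₁ L₂ ⊔ Fd T L₁' L₂') ≤ 4 * Nat.card ↥(Fd T L₁' L₂') := by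
    classical
    let φ : Bool × Bool × ↥(Fd T L₁' L₂') → G := fun x =>
      (if x.1 then v₁ else 1) * (if x.2.1 then v₂ else 1) * (x.2.2 : G)
    have hsub : ((Fd T L₁ L₂ ⊔ Fd T L₁' L₂' : Subgroup G) : Set G) ⊆ Set.range φ := by
      intro y hy
      have hy0 : y ∈ Z0 (T : Subgroup G) :=
        (sup_le (inf_le_left.trans inf_le_left) (inf_le_left.trans inf_le_left) :
          Fd T L₁ L₂ ⊔ Fd T L₁' L₂' ≤ Z0 (T : Subgroup G)) hy
      obtain ⟨a, ha, b, hb, s, hs, rfl⟩ := Quad.decomp c q' hy0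
      rcases ha with rfl | rfl <;> rcases hb with rfl | rfl
      exacts [⟨(false, false, ⟨s, hs⟩), rfl⟩, ⟨(false, true, ⟨s, hs⟩), rfl⟩,
        ⟨(true, false, ⟨s, hs⟩), rfl⟩, ⟨(true, true, ⟨s, hs⟩), rfl⟩]
    calc Nat.card ↥(Fd T L₁ L₂ ⊔ Fd T L₁' L₂') ≤ Nat.card ↥(Set.range φ) :=
          Nat.card_mono (Set.toFinite _) hsub
      _ ≤ Nat.card (Bool × Bool × ↥(Fd T L₁' L₂')) := Finite.card_range_le φ
      _ = 4 * Nat.card ↥(Fd T L₁' L₂') := by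
          simp [Nat.card_prod]; ring
  rw [h] at h1
  exact Nat.le_of_mul_le_mul_right h1 Nat.card_pos

theorem Quad.fix_mem_B (q : Quad T N L₁ L₂ N' L₁' L₂' v₁ v₂) {g : G} (hg : g ∈ N) (hg' : g ∈ N')
    (hg0 : g ∈ normalizer (Z0 (T : Subgroup G) : Set G))
    (hfix : g ∈ normalizer (L₁ : Set G)) : g ∈ Bm T := by
  rcases Quad.perm_both c q hg hg' hg0 with ⟨-, -, -, -, e₁, e₂⟩ | ⟨a₁, -, -, -, -, -⟩
  swap
  · exact absurd (congrArg wOf ((cjg_eq_self.2 hfix).symm.trans a₁)) q.d.W_ne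
  rw [← c.frame.cent_eq]
  intro y hy
  have hC : ∀ y' ∈ Fd T L₁ L₂, g * y' * g⁻¹ = y' := by
    intro y' hy'
    obtain ⟨a, ha, b, hb, s, hs, he⟩ := Quad.decomp c (Quad.symm c q) hy'.1.1
    have ea : g * a * g⁻¹ = a := by rcases ha with rfl | rfl <;> simp [e₁]
    have eb : g * b * g⁻¹ = b := by rcases hb with rfl | rfl <;> simp [e₂]
    have hcm : g * y' * g⁻¹ * y'⁻¹ = g * s * g⁻¹ * s⁻¹ := by
      have hgs := conj_Z0 hg0 hs.1.1
      rw [he, show g * (a * b * s) * g⁻¹ = (g * a * g⁻¹) * (g * b * g⁻¹) * (g * s * g⁻¹) by group,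
        ea, eb]
      have hab : a * b ∈ Z0 (T : Subgroup G) := by
        refine mul_mem ?_ ?_
        · rcases ha with rfl | rfl
          exacts [one_mem _, q.h₁0]
        · rcases hb with rfl | rfl
          exacts [one_mem _, q.h₂0]
      rw [show (a * b * s)⁻¹ = s⁻¹ * (a * b)⁻¹ by group,
        show a * b * (g * s * g⁻¹) * (s⁻¹ * (a * b)⁻¹) = (a * b) * (g * s * g⁻¹ * s⁻¹) * (a * b)⁻¹ by group,
        isElementaryAbelian_two_comm (elem_omegaCenterOf _) hab (mul_mem hgs (inv_mem hs.1.1)),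
        mul_inv_cancel_right]
    have h1 : g * y' * g⁻¹ * y'⁻¹ ∈ Fd T L₁ L₂ :=
      mul_mem (conj_mem_normalizer (Fd_norm c q.d hg hg0) hy') (inv_mem hy')
    have h2 : g * y' * g⁻¹ * y'⁻¹ ∈ Fd T L₁' L₂' := hcm ▸
      mul_mem (conj_mem_normalizer (Fd_norm c q.d' hg' hg0) hs) (inv_mem hs)
    exact mul_inv_eq_one.1 (mem_bot.1 ((Quad.F_inf c q).le ⟨h1, h2⟩))
  obtain ⟨a, ha, b, hb, s, hs, rfl⟩ := Quad.decomp c q hy
  have ea : g * a * g⁻¹ = a := by rcases ha with rfl | rfl <;> simp [e₁]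
  have eb : g * b * g⁻¹ = b := by rcases hb with rfl | rfl <;> simp [e₂]
  refine (mul_inv_eq_iff_eq_mul.1 ?_).symm
  rw [show g * (a * b * s) * g⁻¹ = (g * a * g⁻¹) * (g * b * g⁻¹) * (g * s * g⁻¹) by group,
    ea, eb, hC s hs]

theorem Quad.swapper_of_not_mem (q : Quad T N L₁ L₂ N' L₁' L₂' v₁ v₂) {t : G}
    (ht : t ∈ (T : Subgroup G)) (htB : t ∉ Bm T) :
    cjg t L₁ = L₂ ∧ cjg t L₂ = L₁ ∧ cjg t L₁' = L₂' ∧ cjg t L₂' = L₁' ∧
      t * v₁ * t⁻¹ = v₂ ∧ t * v₂ * t⁻¹ = v₁ := by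
  rcases Quad.perm_both c q (q.mN.2 ht) (q.mN'.2 ht) (T_norm_Z0 ht) with h | h
  · exact absurd (Quad.fix_mem_B c q (q.mN.2 ht) (q.mN'.2 ht) (T_norm_Z0 ht) h.1) htB
  · exact h

theorem Quad.exists_swapper (q : Quad T N L₁ L₂ N' L₁' L₂' v₁ v₂) :
    ∃ t ∈ (T : Subgroup G), t ∉ Bm T := by
  obtain ⟨t, ht, htL⟩ := q.d.swap
  refine ⟨t, ht, fun h => q.d.W_ne (congrArg wOf ?_)⟩
  rw [← htL, cjg_eq_self.2 (q.d.piece₁.normB h)]

theorem Quad.swap_mul (q : Quad T N L₁ L₂ N' L₁' L₂' v₁ v₂) {g t : G} (hg : g ∈ N) (hg' : g ∈ N')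
    (hg0 : g ∈ normalizer (Z0 (T : Subgroup G) : Set G))
    (ht : t ∈ (T : Subgroup G)) (htB : t ∉ Bm T) : g ∈ Bm T ∨ t * g ∈ Bm T := by
  rcases Quad.perm_both c q hg hg' hg0 with h | h
  · exact Or.inl (Quad.fix_mem_B c q hg hg' hg0 h.1)
  · refine Or.inr (Quad.fix_mem_B c q (mul_mem (q.mN.2 ht) hg) (mul_mem (q.mN'.2 ht) hg')
      (mul_mem (T_norm_Z0 ht) hg0) (cjg_eq_self.1 ?_))
    rw [← cjg_cjg, h.1, (Quad.swapper_of_not_mem c q ht htB).2.1]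

theorem Quad.index_two (q : Quad T N L₁ L₂ N' L₁' L₂' v₁ v₂) :
    (Bm T).relIndex (T : Subgroup G) = 2 := by
  obtain ⟨t, ht, htB⟩ := Quad.exists_swapper c q
  rw [relIndex, index_eq_two_iff_exists_notMem_and']
  refine ⟨⟨t, ht⟩, fun h => htB (mem_subgroupOf.1 h), fun g => ?_⟩
  rcases Quad.swap_mul c q (q.mN.2 g.2) (q.mN'.2 g.2) (T_norm_Z0 g.2) ht htB with h | h
  · exact Or.inr (mem_subgroupOf.2 h)
  · exact Or.inl (mem_subgroupOf.2 h)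

theorem Quad.normalizer_J (q : Quad T N L₁ L₂ N' L₁' L₂' v₁ v₂)
    (hJ : ∀ N, Mx T N → normalizer (Jt (T : Subgroup G) : Set G) ≤ N) :
    normalizer (Jt (T : Subgroup G) : Set G) = (T : Subgroup G) := by
  refine le_antisymm (fun g hg => ?_) (le_normalizer_J _)
  obtain ⟨t, ht, htB⟩ := Quad.exists_swapper c q
  rcases Quad.swap_mul c q (hJ N q.mN hg) (hJ N' q.mN' hg)
    (normalizer_le_normalizer_omegaCenterOf _ hg) ht htB with h | h
  · exact h.1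
  · simpa using mul_mem (inv_mem ht) h.1

theorem Quad.z_facts (q : Quad T N L₁ L₂ N' L₁' L₂' v₁ v₂) :
    orderOf (v₁ * v₂) = 2 ∧ (T : Subgroup G) ≤ centralizer ({v₁ * v₂} : Set G) := by
  have hc := isElementaryAbelian_two_comm (elem_omegaCenterOf (Jt (T : Subgroup G))) q.h₁0 q.h₂0
  have hs₁ := comp_wexp q.d.piece₁.comp v₁ q.h₁
  have hs₂ := comp_wexp q.d.piece₂.comp v₂ q.h₂
  refine ⟨orderOf_eq_prime ?_ fun e => Quad.v_ne c q ?_, fun g hg => ?_⟩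
  · calc (v₁ * v₂) ^ 2 = v₁ * (v₂ * v₁) * v₂ := by rw [pow_two]; group
      _ = 1 := by rw [← hc, ← mul_assoc, hs₁, one_mul, hs₂]
  · calc v₁ = v₁ * v₂ * v₂⁻¹ := by group
      _ = v₂ := by rw [e, one_mul]; exact (eq_inv_of_mul_eq_one_left hs₂).symm
  · refine mem_centralizer_singleton_iff.2 (mul_inv_eq_iff_eq_mul.1 ?_)
    rw [show g * (v₁ * v₂) * g⁻¹ = (g * v₁ * g⁻¹) * (g * v₂ * g⁻¹) by group]
    rcases Quad.perm_both c q (q.mN.2 hg) (q.mN'.2 hg) (T_norm_Z0 hg) with h | h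
    · rw [h.2.2.2.2.1, h.2.2.2.2.2]
    · rw [h.2.2.2.2.1, h.2.2.2.2.2, hc]

theorem Quad.over_z (q : Quad T N L₁ L₂ N' L₁' L₂' v₁ v₂)
    (hall : ∀ N, Mx T N → ∃ L₁ L₂, Double T N L₁ L₂)
    (hdir : ∀ N N' L₁ L₂ L₁' L₂', Mx T N → Mx T N' → N ≠ N' → Double T N L₁ L₂ →
      Double T N' L₁' L₂' → ¬ Qk L₁ ≤ Qc (Bm T) L₁' ∨ ¬ Qk L₁ ≤ Qc (Bm T) L₂')
    {P : Subgroup G} (hP : Mx T P) :
    ∃ A A', Double T P A A' ∧ v₁ ∈ wOf A ∧ v₂ ∈ wOf A' ∧ Nat.card ↥(Fd T A A') ≤ 4 := by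
  rcases eq_or_ne N P with rfl | hne
  · exact ⟨L₁, L₂, q.d, q.h₁, q.h₂, Quad.F_card c q⟩
  obtain ⟨M₁, M₂, dP⟩ := hall P hP
  obtain ⟨A, A', u₁, u₂, q'⟩ := exists_quad c hdir q.mN hP hne q.d dP
  have f := c.frame
  obtain rfl := q.d.piece₁.v_eq f q.h₁ q.h₁0 q.h₁1 q'.h₁ q'.h₁0 q'.h₁1
  obtain rfl := q.d.piece₂.v_eq f q.h₂ q.h₂0 q.h₂1 q'.h₂ q'.h₂0 q'.h₂1
  exact ⟨A, A', q'.d', q'.h₁', q'.h₂', Quad.F_card c (Quad.symm c q')⟩

theorem Quad.centralizer_z (q : Quad T N L₁ L₂ N' L₁' L₂' v₁ v₂)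
    (hall : ∀ N, Mx T N → ∃ L₁ L₂, Double T N L₁ L₂)
    (hdir : ∀ N N' L₁ L₂ L₁' L₂', Mx T N → Mx T N' → N ≠ N' → Double T N L₁ L₂ →
      Double T N' L₁' L₂' → ¬ Qk L₁ ≤ Qc (Bm T) L₁' ∨ ¬ Qk L₁ ≤ Qc (Bm T) L₂') :
    centralizer ({v₁ * v₂} : Set G) = (T : Subgroup G) := by
  obtain ⟨ho, hTz⟩ := Quad.z_facts c q
  set z := v₁ * v₂ with hz
  have hzc : centralizer ({z} : Set G) ≤ normalizer (zpowers z : Set G) := by
    refine le_trans ?_ (centralizer_le_normalizer _)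
    refine le_centralizer_iff.1 (zpowers_le.2 ?_)
    exact fun y hy => (mem_centralizer_singleton_iff.1 hy)
  obtain ⟨P, hP, hle⟩ := c.exists_max (R := zpowers z)
    (IsPGroup.of_card (n := 1) (by rw [Nat.card_zpowers, ho, pow_one]))
    (fun e => by rw [zpowers_eq_bot.1 e, orderOf_one] at ho; omega) (hTz.trans hzc)
  obtain ⟨A, A', d, ha, ha', hcard⟩ := Quad.over_z c q hall hdir hP
  have hodd : ∀ g ∈ centralizer ({z} : Set G), Odd (orderOf g) → g = 1 := by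
    intro g hg ho'
    have hgP : g ∈ P := hle (hzc hg)
    have hfix : g ∈ normalizer (A : Set G) ∧ g ∈ normalizer (A' : Set G) := by
      rcases d.perm g hgP with h | ⟨e₁, e₂⟩
      · exact h
      obtain ⟨k, hk⟩ := ho'
      have hgg : g * g ∈ normalizer (A : Set G) := cjg_eq_self.1 (by rw [← cjg_cjg, e₁, e₂])
      have : g = (g * g) ^ (k + 1) := by
        rw [← pow_two, ← pow_mul, show 2 * (k + 1) = orderOf g + 1 by omega, pow_add,
          pow_orderOf_eq_one, one_mul, pow_one]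
      have hgA : g ∈ normalizer (A : Set G) := this ▸ pow_mem hgg _
      exact absurd (congrArg wOf ((cjg_eq_self.2 hgA).symm.trans e₁)) d.W_ne
    have hW₁ := normalizer_le_normalizer_wOf _ hfix.1
    have hW₂ := normalizer_le_normalizer_wOf _ hfix.2
    have hgz : g * v₁ * g⁻¹ * (g * v₂ * g⁻¹) = v₁ * v₂ := by
      rw [show g * v₁ * g⁻¹ * (g * v₂ * g⁻¹) = g * z * g⁻¹ by rw [hz]; group,
        mem_centralizer_singleton_iff.1 hg, mul_inv_cancel_right]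
    have e : v₁⁻¹ * (g * v₁ * g⁻¹) = v₂ * (g * v₂ * g⁻¹)⁻¹ := by
      rw [eq_mul_inv_iff_mul_eq, mul_assoc, hgz, inv_mul_cancel_left]
    have hm : v₁⁻¹ * (g * v₁ * g⁻¹) ∈ wOf A ⊓ wOf A' :=
      mem_inf.2 ⟨mul_mem (inv_mem ha) (conj_mem_normalizer hW₁ ha),
        e ▸ mul_mem ha' (inv_mem (conj_mem_normalizer hW₂ ha'))⟩
    have e₁ : g * v₁ * g⁻¹ = v₁ := (inv_mul_eq_one.1 (mem_bot.1 (d.disj.le hm))).symm
    have e₂ : g * v₂ * g⁻¹ = v₂ := mul_left_cancel (by rw [e₁] at hgz; exact hgz)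
    have key : ∀ {W : Subgroup G} {v : G}, Nat.card W = 4 → (∀ w ∈ W, w * w = 1) →
        g ∈ normalizer (W : Set G) → v ∈ W → v ≠ 1 → g * v * g⁻¹ = v →
        g ∈ centralizer (W : Set G) := by
      intro W v hc hx hn hv hv1 hgv
      obtain ⟨k, hk⟩ := ho'
      have h := pow_mem (four_sq hc hx hn hv hv1 (mul_inv_eq_iff_eq_mul.1 hgv)) (k + 1)
      rwa [← pow_two, ← pow_mul, show 2 * (k + 1) = orderOf g + 1 by omega, pow_add,
        pow_orderOf_eq_one, one_mul, pow_one] at h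
    exact d.odd_trivial g hgP (key (comp_wcard d.piece₁.comp) (comp_wexp d.piece₁.comp) hW₁ ha q.h₁1 e₁)
      (key (comp_wcard d.piece₂.comp) (comp_wexp d.piece₂.comp) hW₂ ha' q.h₂1 e₂) hcard ho'
  refine T.is_maximal' ?_ hTz
  intro g
  obtain ⟨k, m, hm, hkm⟩ := Nat.exists_eq_two_pow_mul_odd (orderOf_pos (g : G)).ne'
  refine ⟨k, Subtype.ext ?_⟩
  rw [SubmonoidClass.coe_pow, OneMemClass.coe_one]
  refine hodd _ (pow_mem g.2 _) ?_
  rw [orderOf_pow' _ (pow_ne_zero k two_ne_zero), hkm, Nat.gcd_eq_right (Dvd.intro m rfl),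
    Nat.mul_div_cancel_left m (pow_pos two_pos k)]
  exact hm

theorem Quad.W2'_cent (q : Quad T N L₁ L₂ N' L₁' L₂' v₁ v₂)
    (hcz : centralizer ({v₁ * v₂} : Set G) = (T : Subgroup G)) :
    wOf L₂' ≤ centralizer (L₁ : Set G) := by
  have f := c.frame
  have hWc : wOf L₂' ≤ centralizer (wOf L₁ : Set G) := by
    by_contra h
    exact Quad.v_ne c q (fix_eq f q.d.piece₁ q.d'.piece₂ (fun e => h (le_centralizer_iff.1 e))
      q.h₁ q.h₁0 q.h₁1 q.h₂' q.h₂0 q.h₂1)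
  have hv2 : v₂ ∈ centralizer (L₁ : Set G) := le_centralizer_iff.1 q.d.cent₁ q.h₂
  intro u hu
  rcases eq_or_ne u 1 with rfl | hu1
  · exact one_mem _
  rcases eq_or_ne u v₂ with rfl | huv
  · exact hv2
  obtain ⟨x, hx, hxo⟩ := comp_exists_three q.d.piece₁.comp
  have huB := q.d'.piece₂.W_le_B f hu
  obtain ⟨e, he, hef⟩ := q.d.piece₁.split_Qc f (Quad.pr c q).1 hx hxo ⟨huB, hWc hu⟩
  set k := e⁻¹ * u with hk
  have hu_eq : u = e * k := by rw [hk, mul_inv_cancel_left]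
  have hB : ∀ b ∈ Bm T, b * e = e * b := by
    intro b hb
    have hbL := q.d.piece₁.normB hb
    have hk' : b * k * b⁻¹ ∈ centralizer (L₁ : Set G) :=
      conj_mem_normalizer (normalizer_le_normalizer_centralizer' _ hbL) hef.2
    obtain ⟨a, ha, hbu⟩ : ∃ a ∈ centralizer (L₁ : Set G), b * u * b⁻¹ = a * u := by
      rcases q.d'.piece₂.comm_mem f q.h₂' q.h₂0 q.h₂1 hb hu with h | h
      · exact ⟨1, one_mem _, by rw [h, one_mul]⟩
      · exact ⟨v₂, hv2, h⟩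
    have hea : a * e = e * a := (ha e (pCoreOf_le 2 L₁ (wOf_le_Qk L₁ he))).symm
    have heq : e⁻¹ * (b * e * b⁻¹) = a * k * (b * k * b⁻¹)⁻¹ := by
      calc e⁻¹ * (b * e * b⁻¹) = e⁻¹ * (b * u * b⁻¹) * (b * k * b⁻¹)⁻¹ := by rw [hu_eq]; group
        _ = e⁻¹ * (a * e) * k * (b * k * b⁻¹)⁻¹ := by rw [hbu, hu_eq]; group
        _ = _ := by rw [hea]; group
    have hm : e⁻¹ * (b * e * b⁻¹) ∈ wOf L₁ ⊓ centralizer (L₁ : Set G) :=
      mem_inf.2 ⟨mul_mem (inv_mem he) (conj_mem_normalizer (normalizer_le_normalizer_wOf _ hbL) he),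
        heq ▸ mul_mem (mul_mem ha hef.2) (inv_mem hk')⟩
    exact mul_inv_eq_iff_eq_mul.1
      (inv_mul_eq_one.1 (mem_bot.1 ((q.d.piece₁.W_inf_cent f).le hm))).symm
  obtain ⟨v, hv, hv0, hv1, huniq⟩ := q.d.piece₁.exists_v f
  obtain rfl := q.d.piece₁.v_eq f hv hv0 hv1 q.h₁ q.h₁0 q.h₁1
  rcases huniq e he (fun j hj => hB j (f.J_le_B hj)) with h | h
  · rw [hu_eq, h, one_mul]; exact hef.2
  exfalso
  obtain ⟨y, hy, hyo, hyu⟩ := q.d'.piece₂.exists_conj f q.h₂' q.h₂1 hu hu1 huv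
  have hyv : y * v₁ * y⁻¹ = v₁ :=
    mul_inv_eq_iff_eq_mul.2 ((q.d'.cent₂ hy) v₁ q.h₁').symm
  have hyz : y * (v₁ * v₂) * y⁻¹ = k := by
    calc y * (v₁ * v₂) * y⁻¹ = (y * v₁ * y⁻¹) * (y * v₂ * y⁻¹) := by group
      _ = v₁ * (v₁ * k) := by rw [hyv, hyu, hu_eq, h]
      _ = k := by rw [← mul_assoc, comp_wexp q.d.piece₁.comp v₁ q.h₁, one_mul]
  have hxk : x * k = k * x := hef.2 x hx
  have hxz : y⁻¹ * x * y ∈ centralizer ({v₁ * v₂} : Set G) := by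
    refine mem_centralizer_singleton_iff.2 ?_
    rw [show v₁ * v₂ = y⁻¹ * k * y by rw [← hyz]; group]
    calc y⁻¹ * x * y * (y⁻¹ * k * y) = y⁻¹ * (x * k) * y := by group
      _ = _ := by rw [hxk]; group
  have h3 : orderOf (y⁻¹ * x * y) = 3 := by
    rw [show y⁻¹ * x * y = MulAut.conj y⁻¹ x by simp, MulEquiv.orderOf_eq, hxo]
  have := eq_one_of_mem_pgroup T.isPGroup' (hcz ▸ hxz) (by rw [h3]; norm_num)
  rw [this, orderOf_one] at h3
  omega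

theorem Quad.four_cent (q : Quad T N L₁ L₂ N' L₁' L₂' v₁ v₂) {w : G} (hw : w ∈ wOf L₁')
    (hc : w ∈ centralizer (wOf L₁ : Set G)) : w = 1 ∨ w = v₁ := by
  by_contra h
  push Not at h
  have hv : v₁ ∈ centralizer (wOf L₁ : Set G) := fun u hu => comp_W_comm q.d.piece₁.comp hu q.h₁
  refine Quad.W_not_cent c q fun u hu => ?_
  rcases four_cases (comp_wcard q.d'.piece₁.comp) (comp_wexp q.d'.piece₁.comp) q.h₁' hw q.h₁1 h.1
    h.2.symm hu with e | e | e | e <;> rw [e]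
  exacts [one_mem _, hv, hc, mul_mem hv hc]

theorem Quad.D_cent_W' (q : Quad T N L₁ L₂ N' L₁' L₂' v₁ v₂) {d : G}
    (hd : d ∈ Bm T ⊓ centralizer (L₁ : Set G)) : d ∈ centralizer (wOf L₁' : Set G) := by
  intro w hw
  have f := c.frame
  have hwB := q.d'.piece₁.W_le_B f hw
  have hdW : ∀ u ∈ wOf L₁, u * d = d * u := fun u hu =>
    (mem_inf.1 hd).2 u (pCoreOf_le 2 L₁ (wOf_le_Qk L₁ hu))
  have h1 : d * w * d⁻¹ * w⁻¹ ∈ wOf L₁' :=
    mul_mem (conj_mem_normalizer (normalizer_le_normalizer_wOf _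
      (q.d'.piece₁.normB (mem_inf.1 hd).1)) hw) (inv_mem hw)
  have h2 : d * w * d⁻¹ * w⁻¹ ∈ centralizer (L₁ : Set G) := by
    rw [show d * w * d⁻¹ * w⁻¹ = d * (w * d⁻¹ * w⁻¹) by group]
    exact mul_mem (mem_inf.1 hd).2 (conj_mem_normalizer
      (normalizer_le_normalizer_centralizer' _ (q.d.piece₁.normB hwB)) (inv_mem (mem_inf.1 hd).2))
  rcases Quad.four_cent c q h1 (centralizer_le
    (SetLike.coe_subset_coe.2 ((wOf_le_Qk L₁).trans (pCoreOf_le 2 L₁))) h2) with e | e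
  · exact (mul_inv_eq_iff_eq_mul.1 (mul_inv_eq_one.1 e)).symm
  · exfalso
    exact q.h₁1 (mem_bot.1 ((q.d.piece₁.W_inf_cent f).le (mem_inf.2 ⟨q.h₁, e ▸ h2⟩)))

theorem Quad.final_data (q : Quad T N L₁ L₂ N' L₁' L₂' v₁ v₂)
    (hna : ¬ IsMulCommutative G) (hKp : IsKProper G)
    (hJ : ∀ N, Mx T N → normalizer (Jt (T : Subgroup G) : Set G) ≤ N)
    (hcz : centralizer ({v₁ * v₂} : Set G) = (T : Subgroup G)) :
    FinalData T (Bm T) (cor (Bm T) L₁ L₁') (Bm T ⊓ centralizer (L₁ : Set G)) (wOf L₁) (wOf L₁')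
      v₁ (v₁ * v₂) := by
  have f := c.frame
  obtain ⟨hQ, hQ', hidx, hcK, hcK'⟩ := Quad.pr c q
  obtain ⟨hQ₂, -, -, -, -⟩ := Quad.pr c (Quad.swapIdx c q)
  set B := Bm T with hBdef
  set D := B ⊓ centralizer (L₁ : Set G) with hD
  set Kc := cor B L₁ L₁' with hKc
  have p := q.d.piece₁
  have p' := q.d'.piece₁
  obtain ⟨x, hx, hxo⟩ := comp_exists_three p.comp
  have hBW : B ≤ normalizer (wOf L₁ : Set G) := p.normB.trans (normalizer_le_normalizer_wOf _)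
  have hBW' : B ≤ normalizer (wOf L₁' : Set G) := p'.normB.trans (normalizer_le_normalizer_wOf _)
  have hBD : B ≤ normalizer (D : Set G) :=
    (le_inf le_normalizer (p.normB.trans (normalizer_le_normalizer_centralizer' _))).trans
      (normalizer_inf_le_normalizer_inf _ _)
  have hWD : wOf L₁ ⊓ D = ⊥ := le_bot_iff.1 ((le_inf inf_le_left (inf_le_right.trans inf_le_right)).trans
    (p.W_inf_cent f).le)
  have hW'D : wOf L₁' ⊓ D = ⊥ := by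
    refine (eq_bot_iff_forall _).2 fun w hw => ?_
    obtain ⟨hw₁, hwD⟩ := mem_inf.1 hw
    rcases Quad.four_cent c q hw₁ (centralizer_le
      (SetLike.coe_subset_coe.2 ((wOf_le_Qk L₁).trans (pCoreOf_le 2 L₁))) (mem_inf.1 hwD).2) with e | e
    · exact e
    · exact absurd (mem_bot.1 (hWD.le (mem_inf.2 ⟨q.h₁, e ▸ hwD⟩))) q.h₁1
  have hQc : Qc B L₁ = wOf L₁ ⊔ D := by
    refine le_antisymm (fun u hu => ?_) (sup_le (p.W_le_Qc f) ?_)
    · obtain ⟨e, he, hef⟩ := p.split_Qc f hQ hx hxo hu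
      rw [← mul_inv_cancel_left e u]
      exact mul_mem (mem_sup_left he) (mem_sup_right hef)
    · exact le_inf inf_le_left (inf_le_right.trans
        (centralizer_le (SetLike.coe_subset_coe.2 ((wOf_le_Qk L₁).trans (pCoreOf_le 2 L₁)))))
  obtain ⟨a, ha, haC⟩ := SetLike.not_le_iff_exists.1 (Quad.W_not_cent c q)
  have haB := p'.W_le_B f ha
  have hKD : Kc ≤ D := le_inf cor_le (le_centralizer_iff.1 hcK)
  have hindexD : Kc.relIndex D ≤ 2 := by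
    have h1 := relIndex_mul_relIndex Kc D B hKD inf_le_left
    have h2 : 8 ≤ D.relIndex B := by
      have e1 := card_mul_relIndex' (inf_le_left : Qc B L₁ ≤ B)
      have e2 := card_sup_mul_inf (A := wOf L₁) (B := D) ((inf_le_left : D ≤ B).trans hBW)
      rw [hWD, card_bot, mul_one, comp_wcard p.comp, ← hQc] at e2
      rw [p.Qc_index f, e2] at e1
      have e3 := card_mul_relIndex' (inf_le_left : D ≤ B)
      have hpos : 0 < Nat.card ↥D := Nat.card_pos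
      nlinarith
    nlinarith
  have hsplit' : ∀ {d : G}, d ∈ D → d ∈ B ⊓ centralizer (L₁' : Set G) ∨
      v₁⁻¹ * d ∈ B ⊓ centralizer (L₁' : Set G) := by
    intro d hd
    obtain ⟨x', hx', hxo'⟩ := comp_exists_three p'.comp
    obtain ⟨e, he, hef⟩ := p'.split_Qc f hQ' hx' hxo'
      (mem_inf.2 ⟨(mem_inf.1 hd).1, Quad.D_cent_W' c q hd⟩)
    have hec : e ∈ centralizer (wOf L₁ : Set G) := by
      have h1 := Quad.D_cent_W' c (Quad.symm c q) hef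
      have h2 : d ∈ centralizer (wOf L₁ : Set G) :=
        centralizer_le (SetLike.coe_subset_coe.2 ((wOf_le_Qk L₁).trans (pCoreOf_le 2 L₁)))
          (mem_inf.1 hd).2
      simpa [mul_assoc] using mul_mem h2 (inv_mem h1)
    rcases Quad.four_cent c q he hec with rfl | rfl
    · exact Or.inl (by rwa [inv_one, one_mul] at hef)
    · exact Or.inr hef
  have hswap : ∀ t ∈ (T : Subgroup G), t ∉ B →
      (wOf L₁).map (MulAut.conj t).toMonoidHom ≤ Kc ∧ (wOf L₁').map (MulAut.conj t).toMonoidHom ≤ Kc ∧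
      Kc ⊓ Kc.map (MulAut.conj t).toMonoidHom = ⊥ ∧ v₁ * v₂ = v₁ * (t * v₁ * t⁻¹) := by
    intro t ht htB
    obtain ⟨e₁, e₂, e₁', e₂', ev, -⟩ := Quad.swapper_of_not_mem c q ht htB
    have hW2 : wOf L₂ ⊔ wOf L₂' ≤ Kc := by
      have c1 := Quad.W2'_cent c q hcz
      have c2 := Quad.W2'_cent c (Quad.symm c q) hcz
      refine le_cor (sup_le (q.d.piece₂.W_le_B f) (q.d'.piece₂.W_le_B f)) ?_ ?_ ?_
      · exact (le_inf (q.d.piece₂.normB.trans (normalizer_le_normalizer_wOf _))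
          (q.d'.piece₂.normB.trans (normalizer_le_normalizer_wOf _))).trans
          (normalizer_inf_le_normalizer_sup _ _)
      · exact (le_centralizer_iff.1 (sup_le (le_centralizer_iff.1 q.d.cent₁) c1)).trans
          (centralizer_le_normalizer _)
      · exact (le_centralizer_iff.1 (sup_le c2 (le_centralizer_iff.1 q.d'.cent₁))).trans
          (centralizer_le_normalizer _)
    refine ⟨?_, ?_, ?_, by rw [ev]⟩
    · show cjg t (wOf L₁) ≤ Kc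
      rw [← wOf_cjg, e₁]; exact le_sup_left.trans hW2
    · show cjg t (wOf L₁') ≤ Kc
      rw [← wOf_cjg, e₁']; exact le_sup_right.trans hW2
    show Kc ⊓ cjg t Kc = ⊥
    by_contra hne
    set R := Kc ⊓ cjg t Kc with hR
    have hBK : B ≤ normalizer (Kc : Set G) := le_sup_right.trans H_norm_cor
    have hBKt : B ≤ normalizer (cjg t Kc : Set G) := by
      intro b hb
      refine cjg_eq_self.1 ?_
      rw [cjg_cjg, show b * t = t * (t⁻¹ * b * t) by group, ← cjg_cjg]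
      congr 1
      refine cjg_eq_self.2 (hBK ?_)
      simpa using conj_mem_normalizer (f.T_norm (inv_mem ht)) hb
    have htt : t * t ∈ B :=
      Quad.fix_mem_B c q (q.mN.2 (mul_mem ht ht)) (q.mN'.2 (mul_mem ht ht))
        (T_norm_Z0 (mul_mem ht ht)) (cjg_eq_self.1 (by rw [← cjg_cjg, e₁, e₂]))
    have htR : t ∈ normalizer (R : Set G) := by
      refine mem_normalizer_of_cjg_le ?_
      rw [hR]
      refine (map_inf_le _ _ _).trans (le_of_eq ?_)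
      show cjg t Kc ⊓ cjg t (cjg t Kc) = _
      rw [cjg_cjg, cjg_eq_self.2 (hBK htt), inf_comm]
    have hTR : (T : Subgroup G) ≤ normalizer (R : Set G) := by
      intro s hs
      have hBR : B ≤ normalizer (R : Set G) :=
        (le_inf hBK hBKt).trans (normalizer_inf_le_normalizer_inf _ _)
      rcases Quad.swap_mul c q (q.mN.2 hs) (q.mN'.2 hs) (T_norm_Z0 hs) ht htB with h | h
      · exact hBR h
      · simpa using mul_mem (inv_mem htR) (hBR h)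
    obtain ⟨P, hP, hle⟩ := c.exists_max (f.pB.to_le (inf_le_left.trans cor_le)) hne hTR
    have key : ∀ {A : Subgroup G}, R ≤ centralizer (A : Set G) → A ≤ P :=
      fun h => ((le_centralizer_iff.1 h).trans (centralizer_le_normalizer _)).trans hle
    have key' : ∀ {A A' : Subgroup G}, cjg t A = A' → A ≤ centralizer (Kc : Set G) → A' ≤ P := by
      intro A A' e h
      refine key (le_centralizer_iff.1 ?_)
      rw [← e]
      refine (cjg_mono h).trans ?_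
      rw [cjg_centralizer]
      exact centralizer_le (SetLike.coe_subset_coe.2 inf_le_right)
    exact q.ne ((q.d.uniq P hP (key (inf_le_left.trans (le_centralizer_iff.1 hcK)))
      (key' e₁ hcK)).symm.trans (q.d'.uniq P hP (key (inf_le_left.trans (le_centralizer_iff.1 hcK')))
      (key' e₁' hcK')))
  refine
    { na := hna
      kproper := hKp
      B_le := inf_le_left
      index := Quad.index_two c q
      normB := f.T_norm
      jle := f.J_le_B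
      nJ := Quad.normalizer_J c q hJ
      K_le := hKD
      D_le := inf_le_left
      normK := le_sup_right.trans H_norm_cor
      normD := hBD
      normW := hBW
      normW' := hBW'
      W_le := p.W_le_B f
      W'_le := p'.W_le_B f
      top := ?_
      indexD := hindexD
      cardW := comp_wcard p.comp
      cardW' := comp_wcard p'.comp
      sqW := comp_wexp p.comp
      sqW' := comp_wexp p'.comp
      infW := hWD
      infW' := hW'D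
      v_mem := ⟨q.h₁, q.h₁'⟩
      v_ne := q.h₁1
      comm := ?_
      nc := ?_
      swap := hswap
      cz := hcz
      move := ?_
      three := ?_ }
  · refine le_antisymm (sup_le (sup_le (p.W_le_B f) (p'.W_le_B f)) inf_le_left) fun b hb => ?_
    have hle : Qc B L₁ ≤ wOf L₁ ⊔ wOf L₁' ⊔ D :=
      hQc.le.trans (sup_le (le_sup_left.trans le_sup_left) le_sup_right)
    by_cases hbC : b ∈ centralizer (wOf L₁ : Set G)
    · exact hle (mem_inf.2 ⟨hb, hbC⟩)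
    · have h := hle (mem_inf.2 ⟨mul_mem hb haB, p.mul_mem_cent f hb hbC haB haC⟩)
      simpa using mul_mem h (inv_mem (mem_sup_left (T := D) (mem_sup_right (S := wOf L₁) ha)))
  · intro w hw w' hw'
    have hwz : w * w = 1 := comp_wexp p.comp w hw
    rw [commutatorElement_def, show w * w' * w⁻¹ * w'⁻¹ = w * (w' * w⁻¹ * w'⁻¹) by group,
      inv_eq_of_mul_eq_one_right hwz]
    rcases p.comm_mem f q.h₁ q.h₁0 q.h₁1 (p'.W_le_B f hw') hw with e | e <;> rw [e]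
    · rw [hwz]; exact one_mem _
    · rw [← mul_assoc, comp_W_comm p.comp hw q.h₁, mul_assoc, hwz, mul_one]
      exact mem_zpowers v₁
  · obtain ⟨w, hw, hne⟩ : ∃ w ∈ wOf L₁, w * a ≠ a * w := by
      by_contra h
      push Not at h
      exact haC h
    exact ⟨w, hw, a, ha, fun e => hne (commutatorElement_eq_one_iff_mul_comm.1 e)⟩
  · intro w hw d hd
    have hvB : zpowers v₁ ≤ D ⊔ zpowers v₁ := le_sup_right
    have hDD : D ≤ D ⊔ zpowers v₁ := le_sup_left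
    rcases hw with hw | hw
    · rcases eq_or_ne w 1 with rfl | hw1
      · exact ⟨1, by simpa using hDD hd⟩
      rcases eq_or_ne w v₁ with rfl | hwv
      · exact ⟨1, by simpa using mul_mem (hvB (mem_zpowers w)) (hDD hd)⟩
      obtain ⟨y, hy, -, hyv⟩ := p.exists_conj f hw hw1 q.h₁ q.h₁1 hwv.symm
      refine ⟨y, ?_⟩
      have hyd : y * d * y⁻¹ = d := mul_inv_eq_iff_eq_mul.2 ((mem_inf.1 hd).2 y hy)
      rw [show y * (w * d) * y⁻¹ = (y * w * y⁻¹) * (y * d * y⁻¹) by group, hyv, hyd]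
      exact mul_mem (hvB (mem_zpowers v₁)) (hDD hd)
    · obtain ⟨w', d', hw', hd', he, hdm⟩ : ∃ w' d', w' ∈ wOf L₁' ∧
          d' ∈ B ⊓ centralizer (L₁' : Set G) ∧ w * d = w' * d' ∧ d' ∈ D ⊔ zpowers v₁ := by
        rcases hsplit' hd with h | h
        · exact ⟨w, d, hw, h, rfl, hDD hd⟩
        · exact ⟨w * v₁, v₁⁻¹ * d, mul_mem hw q.h₁', h, by group,
            mul_mem (inv_mem (hvB (mem_zpowers v₁))) (hDD hd)⟩
      rw [he]
      rcases eq_or_ne w' 1 with rfl | hw1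
      · exact ⟨1, by simpa using hdm⟩
      rcases eq_or_ne w' v₁ with rfl | hwv
      · exact ⟨1, by simpa using mul_mem (hvB (mem_zpowers w')) hdm⟩
      obtain ⟨y, hy, -, hyv⟩ := p'.exists_conj f hw' hw1 q.h₁' q.h₁1 hwv.symm
      refine ⟨y, ?_⟩
      have hyd : y * d' * y⁻¹ = d' := mul_inv_eq_iff_eq_mul.2 ((mem_inf.1 hd').2 y hy)
      rw [show y * (w' * d') * y⁻¹ = (y * w' * y⁻¹) * (y * d' * y⁻¹) by group, hyv, hyd]
      exact mul_mem (hvB (mem_zpowers v₁)) hdm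
  · intro t ht htB ht2
    obtain ⟨e₁, -, -, -, -, -⟩ := Quad.swapper_of_not_mem c q ht htB
    set x₂ := t * x * t⁻¹ with hx₂d
    have hx₂ : x₂ ∈ L₂ := e₁ ▸ conj_mem_cjg hx
    have hxo₂ : orderOf x₂ = 3 := by
      rw [hx₂d, show t * x * t⁻¹ = MulAut.conj t x from rfl, MulEquiv.orderOf_eq, hxo]
    have hbot : ∀ g ∈ L₁, g ∈ L₂ → g = 1 := by
      intro g h₁ h₂
      by_contra hg
      have h3 : g ^ 3 = 1 := mem_bot.1 (q.d.disj.le (mem_inf.2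
        ⟨hQ ▸ comp_pow3 p.comp h₁, hQ₂ ▸ comp_pow3 q.d.piece₂.comp h₂⟩))
      exact q.h₂1 (comp_fixed_W q.d.piece₂.comp h₂ (orderOf_eq_prime h3 hg) q.h₂
        ((q.d.cent₁ h₁) v₂ q.h₂).symm)
    have hcm : Commute x x₂ := by
      refine commutatorElement_eq_one_iff_mul_comm.1 (hbot _ ?_ ?_)
      · rw [commutatorElement_def, show x * x₂ * x⁻¹ * x₂⁻¹ = x * (x₂ * x⁻¹ * x₂⁻¹) by group]
        exact mul_mem hx (conj_mem_normalizer (q.d.norm₁ hx₂) (inv_mem hx))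
      · rw [commutatorElement_def]
        exact mul_mem (conj_mem_normalizer (q.d.norm₂ hx) hx₂) (inv_mem hx₂)
    refine ⟨x * x₂, orderOf_eq_prime ?_ fun e => ?_, ?_⟩
    · rw [hcm.mul_pow, show x ^ 3 = 1 by rw [← hxo]; exact pow_orderOf_eq_one x,
        show x₂ ^ 3 = 1 by rw [← hxo₂]; exact pow_orderOf_eq_one x₂, one_mul]
    · have hx1 : x = 1 := hbot x hx (by rw [eq_inv_of_mul_eq_one_left e]; exact inv_mem hx₂)
      rw [hx1, orderOf_one] at hxo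
      omega
    · refine (mul_inv_eq_iff_eq_mul.1 ?_).symm
      have htinv : t⁻¹ = t := inv_eq_of_mul_eq_one_right ht2
      calc t * (x * x₂) * t⁻¹ = x₂ * (t * t * x * (t * t)⁻¹) := by rw [hx₂d]; group
        _ = x₂ * x := by rw [ht2]; group
        _ = x * x₂ := hcm.symm.eq

end Wreath

theorem wreath [IsSimpleGroup G] (hna : ¬ IsMulCommutative G) (hKp : IsKProper G) (c : Ctx T)
    (hJ : ∀ N, Mx T N → normalizer (Jt (T : Subgroup G) : Set G) ≤ N)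
    (hall : ∀ N, Mx T N → ∃ L₁ L₂, Double T N L₁ L₂)
    (hdir : ∀ N N' L₁ L₂ L₁' L₂', Mx T N → Mx T N' → N ≠ N' → Double T N L₁ L₂ →
      Double T N' L₁' L₂' → ¬ Qk L₁ ≤ Qc (Bm T) L₁' ∨ ¬ Qk L₁ ≤ Qc (Bm T) L₂') : False := by
  obtain ⟨M, M', hM, hM', hne⟩ := c.two
  obtain ⟨L₁, L₂, d⟩ := hall M hM
  obtain ⟨P₁, P₂, d'⟩ := hall M' hM'
  obtain ⟨A, A', v₁, v₂, q⟩ := Wreath.exists_quad c hdir hM hM' hne d d'
  exact (Wreath.Quad.final_data c q hna hKp hJ (Wreath.Quad.centralizer_z c q hall hdir)).false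

end Cfsg.Agent.QTTwoMax
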